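import Cfsg.Agent.HNCert.Perm
import Cfsg.Agent.HNCert.SepData

/-!
If `P` has at most 177408000 elements, then they are told apart by their images of four points, and
the stabiliser of the point `0` commutes with `t`.
-/

set_option autoImplicit false
set_option Elab.async false
set_option maxRecDepth 100000

namespace CfsgLib.HNCert

open CfsgLib.CosetEnum

noncomputable section

/-- `P` is at most as large as the double cover of `HS.2`. -/
def Bound : Prop := Finite P ∧ Nat.card P ≤ 177408000

/-- A word from a number. -/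
def dec (w : ℕ) : List ℕ :=
  Nat.rec (motive := fun _ => ℕ → List ℕ) (fun _ => [])
    (fun _ ih w => bif Nat.beq w 0 then []
      else Nat.mod (Nat.sub (Nat.land w 7) 1) 5 :: ih (Nat.shiftRight w 3)) 96 w

theorem dec_lt (w : ℕ) : ∀ x ∈ dec w, x < 5 := by
  unfold dec
  generalize 96 = f
  induction f generalizing w with
  | zero => intro x h; exact absurd h List.not_mem_nil
  | succ f ih =>
    intro x h
    change x ∈ (bif Nat.beq w 0 then [] else
      Nat.mod (Nat.sub (Nat.land w 7) 1) 5 :: Nat.rec (motive := fun _ => ℕ → List ℕ) (fun _ => [])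
        (fun _ ih w => bif Nat.beq w 0 then []
          else Nat.mod (Nat.sub (Nat.land w 7) 1) 5 :: ih (Nat.shiftRight w 3))
        f (Nat.shiftRight w 3)) at h
    cases hw : Nat.beq w 0
    · simp only [hw, cond_false] at h
      rcases List.mem_cons.mp h with rfl | h
      · exact Nat.mod_lt _ (by norm_num)
      · exact ih _ x h
    · simp [hw] at h

/-- The element named by a number. -/
def el (w : ℕ) : P := prodw pg (dec w)

theorem mv_el (w : ℕ) (i : Fin 1408) : (mv pi (el w) i).val = walk (dec w) i :=
  mv_prodw (dec_lt w) i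

/-- The point named by a number. -/
def pt (i : ℕ) : Fin 1408 := ⟨i % 1408, Nat.mod_lt _ (by norm_num)⟩

theorem pt_val {i : ℕ} (h : i < 1408) : (pt i).val = i := Nat.mod_eq_of_lt h

/-- A chain from numbers. -/
def toC (D : List (ℕ × List ℕ)) : List (Fin 1408 × List P) :=
  D.map fun e => (pt e.1, e.2.map el)

/-- The values are different from one another and from those seen. -/
def distinct (vals : List ℕ) (seen : ℕ) : Bool :=
  List.rec (fun _ => true)
    (fun v _ ih seen => force v fun v => (bif bit seen v then false else true) &&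
      force (Nat.lor seen (Nat.shiftLeft 1 v)) ih) vals seen

theorem distinct_spec : ∀ (vals : List ℕ) (seen : ℕ), distinct vals seen = true →
    vals.Nodup ∧ ∀ v ∈ vals, Nat.testBit seen v = false
  | [], _, _ => ⟨List.nodup_nil, by simp⟩
  | v :: vals, seen, h => by
    change (force v fun v => (bif bit seen v then false else true) &&
      force (Nat.lor seen (Nat.shiftLeft 1 v)) fun s => distinct vals s) = true at h
    rw [force_eq, force_eq, Bool.and_eq_true] at h
    obtain ⟨h1, h2⟩ := h
    obtain ⟨hn, hs⟩ := distinct_spec vals _ h2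
    have hv : Nat.testBit seen v = false := by
      rw [← bit_eq]
      cases hb : bit seen v
      · rfl
      · rw [hb] at h1; exact absurd h1 (by decide)
    have key : ∀ u ∈ vals, u ≠ v ∧ Nat.testBit seen u = false := by
      intro u hu
      have h := hs u hu
      change Nat.testBit (seen ||| (1 <<< v)) u = false at h
      rw [Nat.testBit_or, Bool.or_eq_false_iff, Nat.one_shiftLeft, Nat.testBit_two_pow] at h
      exact ⟨fun e => of_decide_eq_false h.2 e.symm, h.1⟩
    refine ⟨List.nodup_cons.mpr ⟨fun hv' => (key v hv').1 rfl, hn⟩, ?_⟩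
    intro u hu
    rcases List.mem_cons.mp hu with rfl | hu
    exacts [hv, (key u hu).2]

/-- The check of a chain. -/
def okC : List (ℕ × List ℕ) → Bool
  | [] => true
  | (b, L) :: D => Nat.blt b 1408 && (distinct (L.map fun u => walk (dec u) b) 0 &&
      ((D.all fun e => e.2.all fun u => Nat.beq (walk (dec u) b) b) && okC D))

theorem ok_of_okC : ∀ D : List (ℕ × List ℕ), okC D = true → Ok pi (toC D)
  | [], _ => trivial
  | (b, L) :: D, h => by
    simp only [okC, Bool.and_eq_true, Nat.blt_eq, List.all_eq_true] at h
    obtain ⟨hb, hn', hf, hD⟩ := h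
    have hn := (distinct_spec _ _ hn').1
    refine ⟨?_, ?_, ok_of_okC D hD⟩
    · refine List.Nodup.of_map (fun i : Fin 1408 => i.val) ?_
      rw [List.map_map, List.map_map]
      convert hn using 2
      funext u
      show (mv pi (el u) (pt b)).val = _
      rw [mv_el, pt_val hb]
    · intro e he u hu
      obtain ⟨e', he', rfl⟩ := List.mem_map.mp he
      obtain ⟨u', hu', rfl⟩ := List.mem_map.mp hu
      refine Fin.ext ?_
      rw [mv_el, pt_val hb]
      exact Nat.eq_of_beq_eq_true (hf e' he' u' hu')

theorem size_toC : ∀ D : List (ℕ × List ℕ),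
    size (toC D) = (D.map fun e => e.2.length).prod
  | [] => rfl
  | (b, L) :: D => by
    show size (toC D) * (L.map el).length = _
    rw [size_toC D, List.length_map, List.map_cons, List.prod_cons, mul_comm]

/-- The full chain. -/
def fullData : List (ℕ × List ℕ) := (0, topWords) :: stabData

theorem top_range : (topWords.map fun u => walk (dec u) 0) = List.range 1408 := by decide +kernel

theorem range_distinct : distinct (List.range 1408) 0 = true := by decide +kernel

theorem stab_ok : okC stabData = true ∧
    (stabData.all fun e => e.2.all fun u => Nat.beq (walk (dec u) 0) 0) = true ∧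
    (stabData.map fun e => e.2.length).prod = 126000 := by decide +kernel

theorem full_ok : Ok pi (toC fullData) := by
  refine ok_of_okC _ ?_
  simp only [fullData, okC, Bool.and_eq_true, Nat.blt_eq]
  exact ⟨by norm_num, by rw [top_range]; exact range_distinct, stab_ok.2.1, stab_ok.1⟩

theorem full_size : size (toC fullData) = 177408000 := by
  rw [size_toC, fullData, List.map_cons, List.prod_cons, stab_ok.2.2]
  have : (topWords.map fun u => walk (dec u) 0).length = 1408 := by
    rw [top_range, List.length_range]
  rw [List.length_map] at this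
  rw [this]

theorem full_mem : ∀ e ∈ toC fullData, ∀ u ∈ e.2, u ∈ (⊤ : Subgroup P) :=
  fun _ _ _ _ => Subgroup.mem_top _

theorem card_P (hB : Bound) : Nat.card P = 177408000 := by
  have := hB.1
  refine le_antisymm hB.2 ?_
  have h := size_le (W := (⊤ : Subgroup P)) full_ok full_mem
  rwa [full_size, Subgroup.card_top] at h

theorem card_top_le (hB : Bound) : Nat.card (⊤ : Subgroup P) ≤ size (toC fullData) := by
  rw [full_size, Subgroup.card_top]
  exact hB.2

/-- The images of four points under a word, packed. -/
def walk4 (w : List ℕ) (a b c d : ℕ) : ℕ :=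
  List.rec (fun a b c d => Nat.add a (Nat.mul 4096 (Nat.add b (Nat.mul 4096 (Nat.add c (Nat.mul 4096 d))))))
    (fun x _ ih a b c d => force x fun x => force (img x a) fun a => force (img x b) fun b =>
      force (img x c) fun c => force (img x d) fun d => ih a b c d) w a b c d

theorem walk4_eq : ∀ (w : List ℕ) (a b c d : ℕ), walk4 w a b c d =
    walk w a + 4096 * (walk w b + 4096 * (walk w c + 4096 * walk w d))
  | [], _, _, _, _ => rfl
  | x :: w, a, b, c, d => by
    rw [walk_cons, walk_cons, walk_cons, walk_cons, ← walk4_eq w]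
    show force x (fun x => force (img x a) fun a => force (img x b) fun b =>
      force (img x c) fun c => force (img x d) fun d => walk4 w a b c d) = _
    rw [force_eq, force_eq, force_eq, force_eq, force_eq]

/-- Two words move the four base points alike. -/
def same (u v : List ℕ) : Bool := Nat.beq (walk4 u 0 208 252 1336) (walk4 v 0 208 252 1336)

theorem walk_lt : ∀ (w : List ℕ), (∀ x ∈ w, x < 5) → ∀ i : Fin 1408, walk w i < 1408 := fun w hw i => by
  rw [← prodw_letPerm_inv w hw i]
  exact Fin.isLt _

theorem base_eq : fullData.map Prod.fst = [0, 208, 252, 1336] := by decide +kernel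

theorem eq_of_same (hB : Bound) {u v : List ℕ} (hu : ∀ x ∈ u, x < 5) (hv : ∀ x ∈ v, x < 5)
    (h : same u v = true) : prodw pg u = prodw pg v := by
  have := hB.1
  refine eq_of_imgs full_ok full_mem (card_top_le hB) (Subgroup.mem_top _) (Subgroup.mem_top _) ?_
  refine List.map_inj_left.mpr fun e he => ?_
  obtain ⟨e', he', rfl⟩ := List.mem_map.mp he
  refine Fin.ext ?_
  have hb : e'.1 ∈ fullData.map Prod.fst := List.mem_map_of_mem he'
  rw [base_eq] at hb
  have hlt : e'.1 < 1408 := by simp at hb; omega
  show (mv pi (prodw pg u) (pt e'.1)).val = (mv pi (prodw pg v) (pt e'.1)).val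
  rw [mv_prodw hu, mv_prodw hv, pt_val hlt]
  have h4 := Nat.eq_of_beq_eq_true h
  rw [walk4_eq, walk4_eq] at h4
  have l : ∀ (w : List ℕ) (i : ℕ), (∀ x ∈ w, x < 5) → i < 1408 → walk w i < 4096 :=
    fun w i hw hi => lt_trans (walk_lt w hw ⟨i, hi⟩) (by norm_num)
  have := l u 0 hu (by norm_num)
  have := l u 208 hu (by norm_num)
  have := l u 252 hu (by norm_num)
  have := l v 0 hv (by norm_num)
  have := l v 208 hv (by norm_num)
  have := l v 252 hv (by norm_num)
  simp only [List.mem_cons, List.not_mem_nil, or_false] at hb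
  obtain hb | hb | hb | hb := hb <;> rw [hb] <;> omega

/-- The exponent by which a word in `x, y` conjugates `t`. -/
def twist (w : List ℕ) : ℕ :=
  List.rec 1 (fun x _ ih => Nat.mod (Nat.mul (bif Nat.beq x 0 then 3 else
    bif Nat.beq x 1 then 2 else 1) ih) 5) w

theorem t_pow_five : g 5 ^ 5 = 1 := by
  have h := g_rel [5, 5, 5, 5, 5] (by simp [relT])
  simpa [prodw, pow_succ, mul_assoc] using h

theorem t_pow_mod (n : ℕ) : g 5 ^ (n % 5) = g 5 ^ n := by
  conv_rhs => rw [← Nat.div_add_mod n 5, pow_add, pow_mul, t_pow_five, one_pow, one_mul]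

theorem conj_x : (g 0)⁻¹ * g 5 * g 0 = g 5 ^ 3 := by
  have h := g_rel [1, 5, 0, 5, 5] (by simp [relT])
  simp only [prodw, List.map_cons, List.map_nil, List.prod_cons, List.prod_nil, mul_one,
    ← mul_assoc] at h
  have h5 : g 5 ^ 3 * (g 5 * g 5) = 1 := by
    rw [← pow_two, ← pow_add]; exact t_pow_five
  rw [mul_assoc _ (g 5) (g 5)] at h
  exact mul_right_cancel (h.trans h5.symm)

theorem conj_word : ∀ w : List ℕ, (∀ x ∈ w, x < 4) →
    (prodw g w)⁻¹ * g 5 * prodw g w = g 5 ^ twist w
  | [], _ => by simp [prodw, twist]
  | x :: w, h => by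
    have ih := conj_word w fun y hy => h y (List.mem_cons_of_mem x hy)
    have hx : (g x)⁻¹ * g 5 * g x =
        g 5 ^ (bif Nat.beq x 0 then 3 else bif Nat.beq x 1 then 2 else 1) := by
      have hx4 := h x List.mem_cons_self
      have hy : (g 2)⁻¹ * g 5 * g 2 = g 5 := by
        have h2 := g_rel [6, 3, 5, 2] (by simp [relT])
        simp only [prodw, List.map_cons, List.map_nil, List.prod_cons, List.prod_nil, mul_one,
          ← mul_assoc] at h2
        change (g 5)⁻¹ * (g 2)⁻¹ * g 5 * g 2 = 1 at h2
        simp only [mul_assoc] at h2 ⊢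
        exact (inv_mul_eq_one.mp h2).symm
      interval_cases x
      · exact conj_x
      · show (g 1)⁻¹ * g 5 * g 1 = g 5 ^ 2
        have h1 : g 1 = (g 0)⁻¹ := rfl
        have e : g 0 * g 5 ^ 3 * (g 0)⁻¹ = g 5 := by rw [← conj_x]; group
        calc (g 1)⁻¹ * g 5 * g 1 = g 0 * g 5 * (g 0)⁻¹ := by rw [h1, inv_inv]
          _ = g 0 * g 5 ^ (3 * 2) * (g 0)⁻¹ := by rw [← t_pow_mod (3 * 2), pow_one]
          _ = (g 0 * g 5 ^ 3 * (g 0)⁻¹) ^ 2 := by rw [conj_pow, pow_mul]
          _ = g 5 ^ 2 := by rw [e]
      · show (g 2)⁻¹ * g 5 * g 2 = g 5 ^ 1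
        rw [pow_one]; exact hy
      · show (g 3)⁻¹ * g 5 * g 3 = g 5 ^ 1
        rw [show g 3 = (g 2)⁻¹ from rfl, inv_inv, pow_one]
        conv_rhs => rw [← mul_inv_cancel_left (g 2) (g 5)]
        conv_lhs => rw [← hy]
        group
    rw [prodw_cons]
    calc (g x * prodw g w)⁻¹ * g 5 * (g x * prodw g w)
        = (prodw g w)⁻¹ * ((g x)⁻¹ * g 5 * g x) * prodw g w := by group
      _ = _ := by
          rw [hx]
          have hc : ∀ (a b : Cfsg.Spor.HN) (n : ℕ), a⁻¹ * b ^ n * a = (a⁻¹ * b * a) ^ n :=
            fun a b n => by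
              have := (conj_pow (i := n) (a := a⁻¹) (b := b)).symm
              simpa using this
          rw [hc, ih, ← pow_mul, ← t_pow_mod (_ * _)]
          congr 1
          show _ = (Nat.mul _ (twist w)) % 5
          rw [mul_comm]
          rfl

/-- Elements commuting with `t`. -/
def cenT : Subgroup P := (Subgroup.centralizer {g 5}).comap emb

theorem commute_of_mem {h : P} (hh : h ∈ cenT) : Commute (emb h) (g 5) :=
  ((Subgroup.mem_centralizer_singleton_iff).mp hh)

theorem stab_words : stabData.all (fun e => e.2.all fun u =>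
    ((dec u).all fun x => Nat.blt x 4) && Nat.beq (twist (dec u)) 1) = true := by decide +kernel

theorem top_has_one : topWords.getD 0 1 = 0 := by decide +kernel

theorem mem_cenT_of_fix (hB : Bound) {h : P} (hh : mv pi h 0 = 0) : h ∈ cenT := by
  have := hB.1
  have h0 : (pt 0) = (0 : Fin 1408) := rfl
  refine mem_of_fix (W := (⊤ : Subgroup P)) (b := pt 0) (L := topWords.map el) (C := toC stabData)
    full_ok full_mem (card_top_le hB) ?_ ?_ (Subgroup.mem_top h) (by rw [h0]; exact hh)
  · refine List.mem_map.mpr ⟨0, ?_, ?_⟩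
    · have hlen : 0 < topWords.length := by
        have := congrArg List.length top_range
        simp at this; omega
      have := top_has_one
      rw [List.getD_eq_getElem _ _ hlen] at this
      exact this ▸ List.getElem_mem hlen
    · rw [el, show dec 0 = [] from rfl, prodw_nil]
  · intro e he u hu
    obtain ⟨e', he', rfl⟩ := List.mem_map.mp he
    obtain ⟨u', hu', rfl⟩ := List.mem_map.mp hu
    have h := List.all_eq_true.mp (List.all_eq_true.mp stab_words e' he') u' hu'
    simp only [Bool.and_eq_true, List.all_eq_true, Nat.blt_eq] at h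
    show emb (el u') ∈ Subgroup.centralizer {g 5}
    rw [Subgroup.mem_centralizer_singleton_iff, el, emb_prodw (dec_lt u')]
    have hc := conj_word _ h.1
    rw [Nat.eq_of_beq_eq_true h.2, pow_one, mul_assoc, inv_mul_eq_iff_eq_mul] at hc
    exact hc.symm

end

end CfsgLib.HNCert
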