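import Cfsg.Agent.HNCert.Kill
import Cfsg.Agent.HNCert.Sep

/-!
The group on `x, y, z` presented by the relators free of `t` has order at most `177408000`: the
square of `x` is central of order at most two, with quotient satisfying the relations of `HS:2`.
-/

set_option autoImplicit false
set_option maxRecDepth 100000
set_option linter.constructorNameAsVariable false

namespace CfsgLib.HNCert

open CfsgLib.CosetEnum

noncomputable section

/-- The letter `1` read as `0`. -/
def fold1 (w : List ℕ) : List ℕ := w.map fun a => if a = 1 then 0 else a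

theorem relK_src : ∀ w ∈ relK, w = [0, 0] ∨ ∃ v ∈ relP, fold1 v = w ∧ ∀ a ∈ v, a < 5 := by
  decide +kernel

theorem relZ_src : ∀ w ∈ relZ, ∃ v ∈ relP, (fold1 v = w ∨ fold1 v = w ++ [0, 0]) ∧
    ∀ a ∈ v, a < 5 := by
  decide +kernel

theorem relK_low : ∀ w ∈ relK, ∀ a ∈ w, a < 4 := by decide +kernel

private abbrev cElem : P := pg 0 * pg 0

theorem cElem_facts : (∀ p : P, cElem * p = p * cElem) ∧ cElem * cElem = 1 := by
  have e1 : pg 0 * (pg 0 * (pg 2 * (pg 0 * (pg 0 * (pg 2)⁻¹)))) = 1 := by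
    simpa [prodw, pg, val] using pg_rel [0, 0, 2, 0, 0, 3] (by simp [relP])
  have e3 : ((pg 0)⁻¹ * pg 2 * pg 2 * pg 0 * pg 2 * pg 2 * pg 2) *
      ((pg 0)⁻¹ * pg 2 * pg 2 * pg 0 * pg 2 * pg 2 * pg 2) *
      ((pg 0)⁻¹ * pg 2 * pg 2 * pg 0 * pg 2 * pg 2 * pg 2) = 1 := by
    simpa [prodw, pg, val, mul_assoc] using
      pg_rel [1, 2, 2, 0, 2, 2, 2, 1, 2, 2, 0, 2, 2, 2, 1, 2, 2, 0, 2, 2, 2] (by simp [relP])
  have e7 : pg 4 * (pg 0 * (pg 4 * pg 0)) = 1 := by
    simpa [prodw, pg, val] using pg_rel [4, 0, 4, 0] (by simp [relP])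
  have e6 : pg 4 * pg 4 = 1 := by
    simpa [prodw, pg, val] using pg_rel [4, 4] (by simp [relP])
  have hcx : SemiconjBy (pg 0) cElem cElem := (mul_assoc _ _ _).symm
  have hcy : SemiconjBy (pg 2) cElem cElem⁻¹ := by
    show pg 2 * cElem = cElem⁻¹ * pg 2
    calc pg 2 * cElem = cElem⁻¹ *
          (pg 0 * (pg 0 * (pg 2 * (pg 0 * (pg 0 * (pg 2)⁻¹))))) * pg 2 := by
          simp only [cElem]; group
      _ = cElem⁻¹ * pg 2 := by rw [e1, mul_one]
  have hcy' : SemiconjBy (pg 2) cElem⁻¹ cElem := by simpa using hcy.inv_right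
  have ha : SemiconjBy ((pg 0)⁻¹ * pg 2 * pg 2 * pg 0 * pg 2 * pg 2 * pg 2) cElem cElem⁻¹ :=
    ((((((SemiconjBy.inv_symm_left hcx).inv_right.mul_left hcy).mul_left hcy').mul_left
      hcx.inv_right).mul_left hcy).mul_left hcy').mul_left hcy
  have ha' : SemiconjBy ((pg 0)⁻¹ * pg 2 * pg 2 * pg 0 * pg 2 * pg 2 * pg 2) cElem⁻¹ cElem := by
    simpa using ha.inv_right
  have h3 := (ha.mul_left ha').mul_left ha
  rw [e3] at h3
  have hinv : cElem = cElem⁻¹ := by simpa [SemiconjBy] using h3
  have h2 : cElem * cElem = 1 := by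
    nth_rewrite 2 [hinv]
    exact mul_inv_cancel _
  refine ⟨fun p => ?_, h2⟩
  have hx : Commute cElem (pg 0) := hcx.symm
  have hy : Commute cElem (pg 2) := (show pg 2 * cElem = cElem * pg 2 by
    rw [hcy.eq, ← hinv]).symm
  have hz : Commute cElem (pg 4) := by
    have h1 : pg 4 * pg 0 * pg 4 = (pg 0)⁻¹ := by
      rw [← mul_assoc, ← mul_assoc] at e7
      rw [eq_inv_iff_mul_eq_one]
      exact e7
    have h4 : pg 4 * cElem * pg 4 = cElem := by
      calc pg 4 * cElem * pg 4 = (pg 4 * pg 0 * pg 4) * (pg 4 * pg 0 * pg 4) := by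
            calc pg 4 * cElem * pg 4 = pg 4 * pg 0 * (pg 4 * pg 4) * pg 0 * pg 4 := by
                  rw [e6, mul_one]; simp only [cElem, mul_assoc]
              _ = (pg 4 * pg 0 * pg 4) * (pg 4 * pg 0 * pg 4) := by simp only [mul_assoc]
        _ = cElem⁻¹ := by rw [h1, ← mul_inv_rev]
        _ = cElem := hinv.symm
    show cElem * pg 4 = pg 4 * cElem
    calc cElem * pg 4 = pg 4 * cElem * pg 4 * pg 4 := by rw [h4]
      _ = pg 4 * cElem := by rw [mul_assoc, e6, mul_one]
  have htop : p ∈ (⊤ : Subgroup P) := trivial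
  rw [← PresentedGroup.closure_range_of] at htop
  induction htop using Subgroup.closure_induction with
  | mem a ha =>
    obtain ⟨i, rfl⟩ := ha
    cases i
    · exact hx
    · exact hy
    · exact hz
  | one => simp
  | mul a b _ _ h1 h2 =>
    show cElem * (a * b) = a * b * cElem
    exact (Commute.mul_right h1 h2)
  | inv a _ h => exact Commute.inv_right h

/-- The bound on the order of the group on `x, y, z`. -/
theorem bound : Bound := by
  obtain ⟨hcomm, hc2⟩ := cElem_facts
  let N : Subgroup P := Subgroup.zpowers cElem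
  haveI : N.Normal := ⟨fun n hn p => by
    obtain ⟨k, rfl⟩ := Subgroup.mem_zpowers_iff.mp hn
    have h : Commute p (cElem ^ k) := (show Commute p cElem from (hcomm p).symm).zpow_right k
    rw [h.eq, mul_inv_cancel_right]
    exact Subgroup.zpow_mem_zpowers _ k⟩
  let π := QuotientGroup.mk' N
  set a := π (pg 0) with ha
  set b := π (pg 2) with hb
  set d := π (pg 4) with hd
  have haa : a * a = 1 := by
    rw [ha, ← map_mul]
    exact (QuotientGroup.eq_one_iff _).mpr (Subgroup.mem_zpowers _)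
  have hainv : a⁻¹ = a := inv_eq_of_mul_eq_one_right haa
  have hsame : ∀ v : List ℕ, (∀ i ∈ v, i < 5) → prodw (lv a b d) (fold1 v) = π (prodw pg v) := by
    intro v hv
    rw [map_prodw]
    simp only [prodw, fold1, List.map_map]
    congr 1
    refine List.map_congr_left fun i hi => ?_
    have := hv i hi
    interval_cases i
    · rfl
    · show a = π (pg 0)⁻¹
      rw [map_inv, ← ha, hainv]
    · rfl
    · show b⁻¹ = π (pg 2)⁻¹
      rw [map_inv, hb]
    · rfl
  have hK : ∀ w ∈ relK, prodw (lv a b 1) w = 1 := by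
    intro w hw
    have e : prodw (lv a b 1) w = prodw (lv a b d) w := prodw_congr fun i hi => by
      have := relK_low w hw i hi
      interval_cases i <;> rfl
    rw [e]
    rcases relK_src w hw with rfl | ⟨v, hv, rfl, hlt⟩
    · simpa [prodw, lv] using haa
    · rw [hsame v hlt, pg_rel v hv, map_one]
  have hZ : ∀ w ∈ relZ, prodw (lv a b d) w = 1 := by
    intro w hw
    obtain ⟨v, hv, hvw, hlt⟩ := relZ_src w hw
    have e := hsame v hlt
    rw [pg_rel v hv, map_one] at e
    rcases hvw with h | h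
    · rwa [← h]
    · rw [h, prodw_append] at e
      simpa [prodw, lv, haa] using e
  have htop : Subgroup.closure {a, b, d} = ⊤ := by
    have h1 := congrArg (Subgroup.map π) (PresentedGroup.closure_range_of
      {r : FreeGroup PGen | r ∈ relP.map (prodw freeVal)})
    rw [MonoidHom.map_closure, Subgroup.map_top_of_surjective π (QuotientGroup.mk'_surjective N)]
      at h1
    rw [← h1]
    congr 1
    ext q
    constructor
    · rintro (rfl | rfl | rfl)
      · exact ⟨_, ⟨.x, rfl⟩, rfl⟩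
      · exact ⟨_, ⟨.y, rfl⟩, rfl⟩
      · exact ⟨_, ⟨.z, rfl⟩, rfl⟩
    · rintro ⟨_, ⟨i, rfl⟩, rfl⟩
      cases i
      · exact Or.inl rfl
      · exact Or.inr (Or.inl rfl)
      · exact Or.inr (Or.inr rfl)
  obtain ⟨hfQ, hQ⟩ := card_hs_le hK hZ htop
  haveI := hfQ
  have hord : orderOf cElem ≤ 2 :=
    orderOf_le_of_pow_eq_one (by norm_num) (by rw [pow_two]; exact hc2)
  have hN : Nat.card N = orderOf cElem := Nat.card_zpowers _
  have hpos : 0 < Nat.card N := by
    rw [hN]
    exact orderOf_pos_iff.mpr (isOfFinOrder_iff_pow_eq_one.mpr ⟨2, by norm_num, by rw [pow_two]; exact hc2⟩)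
  have hcard := Subgroup.card_eq_card_quotient_mul_card_subgroup N
  have hQpos : 0 < Nat.card (P ⧸ N) := Nat.card_pos
  refine ⟨Nat.finite_of_card_ne_zero ?_, ?_⟩
  · rw [hcard]
    positivity
  · rw [hcard]
    calc Nat.card (P ⧸ N) * Nat.card N ≤ 88704000 * 2 := Nat.mul_le_mul hQ (hN ▸ hord)
      _ = 177408000 := by norm_num

end

end CfsgLib.HNCert
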