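import Cfsg.Agent.HNCert.BoundCert
import Cfsg.Agent.HNCert.BoundAData

/-! Evaluation of a generated certificate. -/

set_option autoImplicit false
set_option Elab.async false
set_option maxRecDepth 100000

namespace CfsgLib.HNCert

open CfsgLib.MTwelveUnique

theorem certA_tree : treeAll certAF certAParN certAParX certAN 7 = true := by decide +kernel

theorem certA_steps0 : stepsOK relH [] certAF certASteps0 119 = true := by decide +kernel

theorem certA_ok : certA.ok relH [] = true :=
  ok_of certA_tree (by decide +kernel) certA_steps0

theorem certA_lim : certALim = certA.lim := by decide +kernel

theorem certA_root : CfsgLib.CosetEnum.ext certAL 0 = 0 := by decide +kernel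

theorem certA_edge0_0 : edgesOK certAF certALim certAL certATab0 120 0
    certAPath0_0 0 = true := by decide +kernel

theorem certA_edges0 : edgesOK certAF certALim certAL certATab0 120 0
    (certAPath0_0) 0 = true :=
  certA_edge0_0

theorem certA_paths0 : (certAPath0_0).length = 120 := by decide +kernel

theorem certA_edge1_0 : edgesOK certAF certALim certAL certATab1 120 1
    certAPath1_0 0 = true := by decide +kernel

theorem certA_edges1 : edgesOK certAF certALim certAL certATab1 120 1
    (certAPath1_0) 0 = true :=
  certA_edge1_0

theorem certA_paths1 : (certAPath1_0).length = 120 := by decide +kernel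

theorem certA_edge2_0 : edgesOK certAF certALim certAL certATab2 120 2
    certAPath2_0 0 = true := by decide +kernel

theorem certA_edges2 : edgesOK certAF certALim certAL certATab2 120 2
    (certAPath2_0) 0 = true :=
  certA_edge2_0

theorem certA_paths2 : (certAPath2_0).length = 120 := by decide +kernel

theorem certA_edge3_0 : edgesOK certAF certALim certAL certATab3 120 3
    certAPath3_0 0 = true := by decide +kernel

theorem certA_edges3 : edgesOK certAF certALim certAL certATab3 120 3
    (certAPath3_0) 0 = true :=
  certA_edge3_0

theorem certA_paths3 : (certAPath3_0).length = 120 := by decide +kernel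

end CfsgLib.HNCert
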