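import Cfsg.Agent.HNCert.BoundCert
import Cfsg.Agent.HNCert.BoundBData

/-! Evaluation of a generated certificate. -/

set_option autoImplicit false
set_option Elab.async false
set_option maxRecDepth 100000

namespace CfsgLib.HNCert

open CfsgLib.MTwelveUnique

theorem certB_tree : treeAll certBF certBParN certBParX certBN 15 = true := by decide +kernel

theorem certB_steps0 : stepsOK relK subH certBF certBSteps0 17018 = true := by decide +kernel

theorem certB_steps1 : stepsOK relK subH certBF certBSteps1 17418 = true := by decide +kernel

theorem certB_steps2 : stepsOK relK subH certBF certBSteps2 17818 = true := by decide +kernel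

theorem certB_steps3 : stepsOK relK subH certBF certBSteps3 18218 = true := by decide +kernel

theorem certB_steps4 : stepsOK relK subH certBF certBSteps4 18618 = true := by decide +kernel

theorem certB_steps5 : stepsOK relK subH certBF certBSteps5 19018 = true := by decide +kernel

theorem certB_steps6 : stepsOK relK subH certBF certBSteps6 19418 = true := by decide +kernel

theorem certB_steps7 : stepsOK relK subH certBF certBSteps7 19818 = true := by decide +kernel

theorem certB_steps8 : stepsOK relK subH certBF certBSteps8 20218 = true := by decide +kernel

theorem certB_steps9 : stepsOK relK subH certBF certBSteps9 20618 = true := by decide +kernel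

theorem certB_steps10 : stepsOK relK subH certBF certBSteps10 21018 = true := by decide +kernel

theorem certB_steps11 : stepsOK relK subH certBF certBSteps11 21418 = true := by decide +kernel

theorem certB_steps12 : stepsOK relK subH certBF certBSteps12 21818 = true := by decide +kernel

theorem certB_steps13 : stepsOK relK subH certBF certBSteps13 22218 = true := by decide +kernel

theorem certB_steps14 : stepsOK relK subH certBF certBSteps14 22618 = true := by decide +kernel

theorem certB_steps15 : stepsOK relK subH certBF certBSteps15 23018 = true := by decide +kernel

theorem certB_steps16 : stepsOK relK subH certBF certBSteps16 23418 = true := by decide +kernel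

theorem certB_steps17 : stepsOK relK subH certBF certBSteps17 23818 = true := by decide +kernel

theorem certB_steps18 : stepsOK relK subH certBF certBSteps18 24218 = true := by decide +kernel

theorem certB_steps19 : stepsOK relK subH certBF certBSteps19 24618 = true := by decide +kernel

theorem certB_steps20 : stepsOK relK subH certBF certBSteps20 25018 = true := by decide +kernel

theorem certB_steps21 : stepsOK relK subH certBF certBSteps21 25418 = true := by decide +kernel

theorem certB_steps22 : stepsOK relK subH certBF certBSteps22 25818 = true := by decide +kernel

theorem certB_steps23 : stepsOK relK subH certBF certBSteps23 26218 = true := by decide +kernel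

theorem certB_steps24 : stepsOK relK subH certBF certBSteps24 26618 = true := by decide +kernel

theorem certB_steps25 : stepsOK relK subH certBF certBSteps25 27018 = true := by decide +kernel

theorem certB_steps26 : stepsOK relK subH certBF certBSteps26 27418 = true := by decide +kernel

theorem certB_steps27 : stepsOK relK subH certBF certBSteps27 27818 = true := by decide +kernel

theorem certB_steps28 : stepsOK relK subH certBF certBSteps28 28218 = true := by decide +kernel

theorem certB_steps29 : stepsOK relK subH certBF certBSteps29 28618 = true := by decide +kernel

theorem certB_steps30 : stepsOK relK subH certBF certBSteps30 29018 = true := by decide +kernel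

theorem certB_steps31 : stepsOK relK subH certBF certBSteps31 29418 = true := by decide +kernel

theorem certB_steps32 : stepsOK relK subH certBF certBSteps32 29818 = true := by decide +kernel

theorem certB_steps33 : stepsOK relK subH certBF certBSteps33 30218 = true := by decide +kernel

theorem certB_steps34 : stepsOK relK subH certBF certBSteps34 30618 = true := by decide +kernel

theorem certB_steps35 : stepsOK relK subH certBF certBSteps35 31018 = true := by decide +kernel

theorem certB_steps36 : stepsOK relK subH certBF certBSteps36 31418 = true := by decide +kernel

theorem certB_steps37 : stepsOK relK subH certBF certBSteps37 31818 = true := by decide +kernel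

theorem certB_steps38 : stepsOK relK subH certBF certBSteps38 32218 = true := by decide +kernel

theorem certB_steps39 : stepsOK relK subH certBF certBSteps39 32618 = true := by decide +kernel

theorem certB_steps40 : stepsOK relK subH certBF certBSteps40 33018 = true := by decide +kernel

theorem certB_steps41 : stepsOK relK subH certBF certBSteps41 33418 = true := by decide +kernel

theorem certB_steps42 : stepsOK relK subH certBF certBSteps42 33818 = true := by decide +kernel

theorem certB_steps43 : stepsOK relK subH certBF certBSteps43 34218 = true := by decide +kernel

theorem certB_steps44 : stepsOK relK subH certBF certBSteps44 34618 = true := by decide +kernel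

theorem certB_steps45 : stepsOK relK subH certBF certBSteps45 35018 = true := by decide +kernel

theorem certB_steps46 : stepsOK relK subH certBF certBSteps46 35418 = true := by decide +kernel

theorem certB_steps47 : stepsOK relK subH certBF certBSteps47 35818 = true := by decide +kernel

theorem certB_steps48 : stepsOK relK subH certBF certBSteps48 36218 = true := by decide +kernel

theorem certB_ok : certB.ok relK subH = true :=
  ok_of certB_tree (by decide +kernel) (stepsOK_join certB_steps0 (show 17018 + certBSteps0.length = 17418 by decide +kernel)
    (stepsOK_join certB_steps1 (show 17418 + certBSteps1.length = 17818 by decide +kernel)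
    (stepsOK_join certB_steps2 (show 17818 + certBSteps2.length = 18218 by decide +kernel)
    (stepsOK_join certB_steps3 (show 18218 + certBSteps3.length = 18618 by decide +kernel)
    (stepsOK_join certB_steps4 (show 18618 + certBSteps4.length = 19018 by decide +kernel)
    (stepsOK_join certB_steps5 (show 19018 + certBSteps5.length = 19418 by decide +kernel)
    (stepsOK_join certB_steps6 (show 19418 + certBSteps6.length = 19818 by decide +kernel)
    (stepsOK_join certB_steps7 (show 19818 + certBSteps7.length = 20218 by decide +kernel)
    (stepsOK_join certB_steps8 (show 20218 + certBSteps8.length = 20618 by decide +kernel)
    (stepsOK_join certB_steps9 (show 20618 + certBSteps9.length = 21018 by decide +kernel)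
    (stepsOK_join certB_steps10 (show 21018 + certBSteps10.length = 21418 by decide +kernel)
    (stepsOK_join certB_steps11 (show 21418 + certBSteps11.length = 21818 by decide +kernel)
    (stepsOK_join certB_steps12 (show 21818 + certBSteps12.length = 22218 by decide +kernel)
    (stepsOK_join certB_steps13 (show 22218 + certBSteps13.length = 22618 by decide +kernel)
    (stepsOK_join certB_steps14 (show 22618 + certBSteps14.length = 23018 by decide +kernel)
    (stepsOK_join certB_steps15 (show 23018 + certBSteps15.length = 23418 by decide +kernel)
    (stepsOK_join certB_steps16 (show 23418 + certBSteps16.length = 23818 by decide +kernel)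
    (stepsOK_join certB_steps17 (show 23818 + certBSteps17.length = 24218 by decide +kernel)
    (stepsOK_join certB_steps18 (show 24218 + certBSteps18.length = 24618 by decide +kernel)
    (stepsOK_join certB_steps19 (show 24618 + certBSteps19.length = 25018 by decide +kernel)
    (stepsOK_join certB_steps20 (show 25018 + certBSteps20.length = 25418 by decide +kernel)
    (stepsOK_join certB_steps21 (show 25418 + certBSteps21.length = 25818 by decide +kernel)
    (stepsOK_join certB_steps22 (show 25818 + certBSteps22.length = 26218 by decide +kernel)
    (stepsOK_join certB_steps23 (show 26218 + certBSteps23.length = 26618 by decide +kernel)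
    (stepsOK_join certB_steps24 (show 26618 + certBSteps24.length = 27018 by decide +kernel)
    (stepsOK_join certB_steps25 (show 27018 + certBSteps25.length = 27418 by decide +kernel)
    (stepsOK_join certB_steps26 (show 27418 + certBSteps26.length = 27818 by decide +kernel)
    (stepsOK_join certB_steps27 (show 27818 + certBSteps27.length = 28218 by decide +kernel)
    (stepsOK_join certB_steps28 (show 28218 + certBSteps28.length = 28618 by decide +kernel)
    (stepsOK_join certB_steps29 (show 28618 + certBSteps29.length = 29018 by decide +kernel)
    (stepsOK_join certB_steps30 (show 29018 + certBSteps30.length = 29418 by decide +kernel)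
    (stepsOK_join certB_steps31 (show 29418 + certBSteps31.length = 29818 by decide +kernel)
    (stepsOK_join certB_steps32 (show 29818 + certBSteps32.length = 30218 by decide +kernel)
    (stepsOK_join certB_steps33 (show 30218 + certBSteps33.length = 30618 by decide +kernel)
    (stepsOK_join certB_steps34 (show 30618 + certBSteps34.length = 31018 by decide +kernel)
    (stepsOK_join certB_steps35 (show 31018 + certBSteps35.length = 31418 by decide +kernel)
    (stepsOK_join certB_steps36 (show 31418 + certBSteps36.length = 31818 by decide +kernel)
    (stepsOK_join certB_steps37 (show 31818 + certBSteps37.length = 32218 by decide +kernel)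
    (stepsOK_join certB_steps38 (show 32218 + certBSteps38.length = 32618 by decide +kernel)
    (stepsOK_join certB_steps39 (show 32618 + certBSteps39.length = 33018 by decide +kernel)
    (stepsOK_join certB_steps40 (show 33018 + certBSteps40.length = 33418 by decide +kernel)
    (stepsOK_join certB_steps41 (show 33418 + certBSteps41.length = 33818 by decide +kernel)
    (stepsOK_join certB_steps42 (show 33818 + certBSteps42.length = 34218 by decide +kernel)
    (stepsOK_join certB_steps43 (show 34218 + certBSteps43.length = 34618 by decide +kernel)
    (stepsOK_join certB_steps44 (show 34618 + certBSteps44.length = 35018 by decide +kernel)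
    (stepsOK_join certB_steps45 (show 35018 + certBSteps45.length = 35418 by decide +kernel)
    (stepsOK_join certB_steps46 (show 35418 + certBSteps46.length = 35818 by decide +kernel)
    (stepsOK_join certB_steps47 (show 35818 + certBSteps47.length = 36218 by decide +kernel)
    certB_steps48))))))))))))))))))))))))))))))))))))))))))))))))

theorem certB_lim : certBLim = certB.lim := by decide +kernel

theorem certB_goals : goalsOK certBF certBLim goalB certBGoals = true := by decide +kernel

end CfsgLib.HNCert
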