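import Cfsg.Agent.HNCert.BoundCert
import Cfsg.Agent.HNCert.BoundCData

/-! Evaluation of a generated certificate. -/

set_option autoImplicit false
set_option Elab.async false
set_option maxRecDepth 100000

namespace CfsgLib.HNCert

open CfsgLib.MTwelveUnique

theorem certC_tree : treeAll certCF certCParN certCParX certCN 12 = true := by decide +kernel

theorem certC_steps0 : stepsOK (relK ++ [rSeven]) subH certCF certCSteps0 2162 = true := by decide +kernel

theorem certC_steps1 : stepsOK (relK ++ [rSeven]) subH certCF certCSteps1 2562 = true := by decide +kernel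

theorem certC_steps2 : stepsOK (relK ++ [rSeven]) subH certCF certCSteps2 2962 = true := by decide +kernel

theorem certC_steps3 : stepsOK (relK ++ [rSeven]) subH certCF certCSteps3 3362 = true := by decide +kernel

theorem certC_steps4 : stepsOK (relK ++ [rSeven]) subH certCF certCSteps4 3762 = true := by decide +kernel

theorem certC_steps5 : stepsOK (relK ++ [rSeven]) subH certCF certCSteps5 4162 = true := by decide +kernel

theorem certC_ok : certC.ok (relK ++ [rSeven]) subH = true :=
  ok_of certC_tree (by decide +kernel) (stepsOK_join certC_steps0 (show 2162 + certCSteps0.length = 2562 by decide +kernel)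
    (stepsOK_join certC_steps1 (show 2562 + certCSteps1.length = 2962 by decide +kernel)
    (stepsOK_join certC_steps2 (show 2962 + certCSteps2.length = 3362 by decide +kernel)
    (stepsOK_join certC_steps3 (show 3362 + certCSteps3.length = 3762 by decide +kernel)
    (stepsOK_join certC_steps4 (show 3762 + certCSteps4.length = 4162 by decide +kernel)
    certC_steps5)))))

theorem certC_lim : certCLim = certC.lim := by decide +kernel

theorem certC_root : CfsgLib.CosetEnum.ext certCL 0 = 0 := by decide +kernel

theorem certC_edge0_0 : edgesOK certCF certCLim certCL certCTab0 2100 0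
    certCPath0_0 0 = true := by decide +kernel

theorem certC_edge0_1 : edgesOK certCF certCLim certCL certCTab0 2100 0
    certCPath0_1 400 = true := by decide +kernel

theorem certC_edge0_2 : edgesOK certCF certCLim certCL certCTab0 2100 0
    certCPath0_2 800 = true := by decide +kernel

theorem certC_edge0_3 : edgesOK certCF certCLim certCL certCTab0 2100 0
    certCPath0_3 1200 = true := by decide +kernel

theorem certC_edge0_4 : edgesOK certCF certCLim certCL certCTab0 2100 0
    certCPath0_4 1600 = true := by decide +kernel

theorem certC_edge0_5 : edgesOK certCF certCLim certCL certCTab0 2100 0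
    certCPath0_5 2000 = true := by decide +kernel

theorem certC_edges0 : edgesOK certCF certCLim certCL certCTab0 2100 0
    (certCPath0_0 ++ (certCPath0_1 ++ (certCPath0_2 ++ (certCPath0_3 ++ (certCPath0_4 ++ (certCPath0_5)))))) 0 = true :=
  (edgesOK_join certC_edge0_0 (show 0 + certCPath0_0.length = 400 by decide +kernel)
    (edgesOK_join certC_edge0_1 (show 400 + certCPath0_1.length = 800 by decide +kernel)
    (edgesOK_join certC_edge0_2 (show 800 + certCPath0_2.length = 1200 by decide +kernel)
    (edgesOK_join certC_edge0_3 (show 1200 + certCPath0_3.length = 1600 by decide +kernel)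
    (edgesOK_join certC_edge0_4 (show 1600 + certCPath0_4.length = 2000 by decide +kernel)
    certC_edge0_5)))))

theorem certC_paths0 : (certCPath0_0 ++ (certCPath0_1 ++ (certCPath0_2 ++ (certCPath0_3 ++ (certCPath0_4 ++ (certCPath0_5)))))).length = 2100 := by decide +kernel

theorem certC_edge1_0 : edgesOK certCF certCLim certCL certCTab1 2100 1
    certCPath1_0 0 = true := by decide +kernel

theorem certC_edge1_1 : edgesOK certCF certCLim certCL certCTab1 2100 1
    certCPath1_1 400 = true := by decide +kernel

theorem certC_edge1_2 : edgesOK certCF certCLim certCL certCTab1 2100 1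
    certCPath1_2 800 = true := by decide +kernel

theorem certC_edge1_3 : edgesOK certCF certCLim certCL certCTab1 2100 1
    certCPath1_3 1200 = true := by decide +kernel

theorem certC_edge1_4 : edgesOK certCF certCLim certCL certCTab1 2100 1
    certCPath1_4 1600 = true := by decide +kernel

theorem certC_edge1_5 : edgesOK certCF certCLim certCL certCTab1 2100 1
    certCPath1_5 2000 = true := by decide +kernel

theorem certC_edges1 : edgesOK certCF certCLim certCL certCTab1 2100 1
    (certCPath1_0 ++ (certCPath1_1 ++ (certCPath1_2 ++ (certCPath1_3 ++ (certCPath1_4 ++ (certCPath1_5)))))) 0 = true :=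
  (edgesOK_join certC_edge1_0 (show 0 + certCPath1_0.length = 400 by decide +kernel)
    (edgesOK_join certC_edge1_1 (show 400 + certCPath1_1.length = 800 by decide +kernel)
    (edgesOK_join certC_edge1_2 (show 800 + certCPath1_2.length = 1200 by decide +kernel)
    (edgesOK_join certC_edge1_3 (show 1200 + certCPath1_3.length = 1600 by decide +kernel)
    (edgesOK_join certC_edge1_4 (show 1600 + certCPath1_4.length = 2000 by decide +kernel)
    certC_edge1_5)))))

theorem certC_paths1 : (certCPath1_0 ++ (certCPath1_1 ++ (certCPath1_2 ++ (certCPath1_3 ++ (certCPath1_4 ++ (certCPath1_5)))))).length = 2100 := by decide +kernel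

theorem certC_edge2_0 : edgesOK certCF certCLim certCL certCTab2 2100 2
    certCPath2_0 0 = true := by decide +kernel

theorem certC_edge2_1 : edgesOK certCF certCLim certCL certCTab2 2100 2
    certCPath2_1 400 = true := by decide +kernel

theorem certC_edge2_2 : edgesOK certCF certCLim certCL certCTab2 2100 2
    certCPath2_2 800 = true := by decide +kernel

theorem certC_edge2_3 : edgesOK certCF certCLim certCL certCTab2 2100 2
    certCPath2_3 1200 = true := by decide +kernel

theorem certC_edge2_4 : edgesOK certCF certCLim certCL certCTab2 2100 2
    certCPath2_4 1600 = true := by decide +kernel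

theorem certC_edge2_5 : edgesOK certCF certCLim certCL certCTab2 2100 2
    certCPath2_5 2000 = true := by decide +kernel

theorem certC_edges2 : edgesOK certCF certCLim certCL certCTab2 2100 2
    (certCPath2_0 ++ (certCPath2_1 ++ (certCPath2_2 ++ (certCPath2_3 ++ (certCPath2_4 ++ (certCPath2_5)))))) 0 = true :=
  (edgesOK_join certC_edge2_0 (show 0 + certCPath2_0.length = 400 by decide +kernel)
    (edgesOK_join certC_edge2_1 (show 400 + certCPath2_1.length = 800 by decide +kernel)
    (edgesOK_join certC_edge2_2 (show 800 + certCPath2_2.length = 1200 by decide +kernel)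
    (edgesOK_join certC_edge2_3 (show 1200 + certCPath2_3.length = 1600 by decide +kernel)
    (edgesOK_join certC_edge2_4 (show 1600 + certCPath2_4.length = 2000 by decide +kernel)
    certC_edge2_5)))))

theorem certC_paths2 : (certCPath2_0 ++ (certCPath2_1 ++ (certCPath2_2 ++ (certCPath2_3 ++ (certCPath2_4 ++ (certCPath2_5)))))).length = 2100 := by decide +kernel

theorem certC_edge3_0 : edgesOK certCF certCLim certCL certCTab3 2100 3
    certCPath3_0 0 = true := by decide +kernel

theorem certC_edge3_1 : edgesOK certCF certCLim certCL certCTab3 2100 3
    certCPath3_1 400 = true := by decide +kernel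

theorem certC_edge3_2 : edgesOK certCF certCLim certCL certCTab3 2100 3
    certCPath3_2 800 = true := by decide +kernel

theorem certC_edge3_3 : edgesOK certCF certCLim certCL certCTab3 2100 3
    certCPath3_3 1200 = true := by decide +kernel

theorem certC_edge3_4 : edgesOK certCF certCLim certCL certCTab3 2100 3
    certCPath3_4 1600 = true := by decide +kernel

theorem certC_edge3_5 : edgesOK certCF certCLim certCL certCTab3 2100 3
    certCPath3_5 2000 = true := by decide +kernel

theorem certC_edges3 : edgesOK certCF certCLim certCL certCTab3 2100 3
    (certCPath3_0 ++ (certCPath3_1 ++ (certCPath3_2 ++ (certCPath3_3 ++ (certCPath3_4 ++ (certCPath3_5)))))) 0 = true :=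
  (edgesOK_join certC_edge3_0 (show 0 + certCPath3_0.length = 400 by decide +kernel)
    (edgesOK_join certC_edge3_1 (show 400 + certCPath3_1.length = 800 by decide +kernel)
    (edgesOK_join certC_edge3_2 (show 800 + certCPath3_2.length = 1200 by decide +kernel)
    (edgesOK_join certC_edge3_3 (show 1200 + certCPath3_3.length = 1600 by decide +kernel)
    (edgesOK_join certC_edge3_4 (show 1600 + certCPath3_4.length = 2000 by decide +kernel)
    certC_edge3_5)))))

theorem certC_paths3 : (certCPath3_0 ++ (certCPath3_1 ++ (certCPath3_2 ++ (certCPath3_3 ++ (certCPath3_4 ++ (certCPath3_5)))))).length = 2100 := by decide +kernel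

end CfsgLib.HNCert
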