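import Cfsg.Agent.MTwelveUnique.Checker

/-!
Pieces for checking a large certificate in parts, and the bound on an order given by a table of
cosets whose edges a certificate proves.
-/

set_option autoImplicit false

namespace CfsgLib.HNCert

open CfsgLib.CosetEnum CfsgLib.MTwelveUnique

noncomputable section

/-- The defining edges, as a balanced conjunction. -/
def treeAll (F parN parX nT d : ℕ) : Bool :=
  Nat.ble nT (2 ^ d) && allR (fun i => bif Nat.blt i nT then treeFact F parN parX i else true) d 0

theorem treeFacts_of_treeAll {F parN parX nT d : ℕ} (h : treeAll F parN parX nT d = true) :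
    treeFacts F parN parX nT = true := by
  simp only [treeAll, Bool.and_eq_true, Nat.ble_eq] at h
  have key : ∀ n, n ≤ nT → treeFacts F parN parX n = true := by
    intro n
    induction n with
    | zero => intro _; rfl
    | succ n ih =>
      intro hn
      have h1 := allR_spec d 0 h.2 n (Nat.zero_le n) (by omega)
      rw [show Nat.blt n nT = true by simp only [Nat.blt_eq]; omega, cond_true] at h1
      simp only [treeFacts, Bool.and_eq_true]
      exact ⟨h1, ih (by omega)⟩
  exact key nT le_rfl

theorem stepsOK_join {R W : List (List ℕ)} {F : ℕ} :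
    ∀ {A B : List ℕ} {i j : ℕ}, stepsOK R W F A i = true → i + A.length = j →
      stepsOK R W F B j = true → stepsOK R W F (A ++ B) i = true
  | [], _, _, _, _, hj, hB => by
    simp only [List.length_nil, Nat.add_zero] at hj
    subst hj
    simpa using hB
  | S :: A, B, i, j, hA, hj, hB => by
    simp only [stepsOK, Bool.and_eq_true] at hA
    simp only [List.cons_append, stepsOK, Bool.and_eq_true]
    refine ⟨hA.1, stepsOK_join hA.2 ?_ hB⟩
    simp only [List.length_cons] at hj
    omega

theorem ok_of {C : Cert} {R W : List (List ℕ)} {F parN parX nT d : ℕ}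
    (ht : treeAll F parN parX nT d = true)
    (he : C.F = F ∧ C.parN = parN ∧ C.parX = parX ∧ C.nT = nT)
    (hs : stepsOK R W F C.steps nT = true) : C.ok R W = true := by
  obtain ⟨rfl, rfl, rfl, rfl⟩ := he
  simp only [Cert.ok, Bool.and_eq_true]
  exact ⟨treeFacts_of_treeAll ht, hs⟩

/-- A packed path reads the word `w` from `a` to `b`, the number of facts being given. -/
def readsAt (F lim : ℕ) (w : List ℕ) (a b S : ℕ) : Bool :=
  match rd F lim S (ext S 0) 1 a w with
  | some (t, []) => Nat.beq t b
  | _ => false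

theorem reads_of_readsAt {C : Cert} {w : List ℕ} {a b S : ℕ}
    (h : readsAt C.F C.lim w a b S = true) : C.reads w a b S = true := h

/-- Closed paths for a list of words. -/
def goalsOK (F lim : ℕ) : List (List ℕ) → List ℕ → Bool
  | [], _ => true
  | _ :: _, [] => false
  | w :: ws, S :: Ss => readsAt F lim w 0 0 S && goalsOK F lim ws Ss

theorem readsAt_of_goalsOK {F lim : ℕ} : ∀ {ws : List (List ℕ)} {Ss : List ℕ},
    goalsOK F lim ws Ss = true → ∀ w ∈ ws, ∃ S, readsAt F lim w 0 0 S = true
  | [], _, _, w, hw => absurd hw (List.not_mem_nil)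
  | _ :: _, [], h, _, _ => by simp [goalsOK] at h
  | v :: ws, S :: Ss, h, w, hw => by
    simp only [goalsOK, Bool.and_eq_true] at h
    rcases List.mem_cons.mp hw with rfl | hw
    · exact ⟨S, h.1⟩
    · exact readsAt_of_goalsOK h.2 w hw

/-- The edges with letter `x` of a table of `n` cosets, from coset `i` on. -/
def edgesOK (F lim L tb n x : ℕ) : List ℕ → ℕ → Bool
  | [], _ => true
  | S :: Ss, i => Nat.blt (ext tb i) n && (readsAt F lim [x] (ext L i) (ext L (ext tb i)) S &&
      edgesOK F lim L tb n x Ss (i + 1))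

theorem edgesOK_join {F lim L tb n x : ℕ} :
    ∀ {A B : List ℕ} {i j : ℕ}, edgesOK F lim L tb n x A i = true → i + A.length = j →
      edgesOK F lim L tb n x B j = true → edgesOK F lim L tb n x (A ++ B) i = true
  | [], _, _, _, _, hj, hB => by
    simp only [List.length_nil, Nat.add_zero] at hj
    subst hj
    simpa using hB
  | S :: A, B, i, j, hA, hj, hB => by
    simp only [edgesOK, Bool.and_eq_true] at hA
    simp only [List.cons_append, edgesOK, Bool.and_eq_true]
    refine ⟨hA.1, hA.2.1, edgesOK_join hA.2.2 ?_ hB⟩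
    simp only [List.length_cons] at hj
    omega

theorem edge_of_edgesOK {F lim L tb n x : ℕ} : ∀ {A : List ℕ} {i : ℕ},
    edgesOK F lim L tb n x A i = true → ∀ j, i ≤ j → j < i + A.length →
      ext tb j < n ∧ ∃ S, readsAt F lim [x] (ext L j) (ext L (ext tb j)) S = true
  | [], i, _, j, h1, h2 => by simp at h2; omega
  | S :: A, i, h, j, h1, h2 => by
    simp only [edgesOK, Bool.and_eq_true, Nat.blt_eq] at h
    rcases Nat.eq_or_lt_of_le h1 with rfl | hlt
    · exact ⟨h.1, S, h.2.1⟩
    · exact edge_of_edgesOK h.2.2 j hlt (by simp only [List.length_cons] at h2; omega)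

variable {G : Type*} [Group G]

/-- A subgroup with a table of representatives closed under some generators. -/
theorem exists_rep {H : Subgroup G} {n : ℕ} (hn : 0 < n) {cr : ℕ → G} (h0 : cr 0 = 1)
    {gens : Set G}
    (hedge : ∀ i < n, ∀ a ∈ gens, (∃ j < n, cr i * a * (cr j)⁻¹ ∈ H) ∧
      ∃ j < n, cr i * a⁻¹ * (cr j)⁻¹ ∈ H) :
    ∀ u ∈ Subgroup.closure gens, ∃ j < n, u * (cr j)⁻¹ ∈ H := by
  have claim : ∀ u ∈ Subgroup.closure gens, ∀ i < n, ∃ j < n, cr i * u * (cr j)⁻¹ ∈ H := by
    intro u hu
    induction hu using Subgroup.closure_induction'' with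
    | mem a ha => exact fun i hi => (hedge i hi a ha).1
    | inv_mem a ha => exact fun i hi => (hedge i hi a ha).2
    | one => exact fun i hi => ⟨i, hi, by simp [H.one_mem]⟩
    | mul a b _ _ h1 h2 =>
      intro i hi
      obtain ⟨j, hj, haj⟩ := h1 i hi
      obtain ⟨l, hl, hbl⟩ := h2 j hj
      exact ⟨l, hl, by simpa [mul_assoc] using H.mul_mem haj hbl⟩
  intro u hu
  simpa [h0] using claim u hu 0 hn

/-- The order of a subgroup covered by `n` translates of `H`. -/
theorem card_le_of_rep {H K : Subgroup G} [Finite H] {n : ℕ} {cr : ℕ → G}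
    (h : ∀ u ∈ K, ∃ j < n, u * (cr j)⁻¹ ∈ H) :
    Finite K ∧ Nat.card K ≤ n * Nat.card H := by
  let f : Fin n × H → G := fun p => (p.2 : G) * cr p.1
  have hsub : (K : Set G) ⊆ Set.range f := by
    intro u hu
    obtain ⟨j, hj, huj⟩ := h u hu
    exact ⟨(⟨j, hj⟩, ⟨_, huj⟩), inv_mul_cancel_right u (cr j)⟩
  refine ⟨((Set.finite_range f).subset hsub).to_subtype, ?_⟩
  calc Nat.card K ≤ Nat.card (Set.range f) := Nat.card_mono (Set.finite_range f) hsub
    _ ≤ Nat.card (Fin n × H) := Finite.card_range_le f
    _ = n * Nat.card H := by rw [Nat.card_prod, Nat.card_fin]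

end

end CfsgLib.HNCert
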