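import Cfsg.Agent.HNCert.BoundCert
import Cfsg.Agent.HNCert.BoundDData

/-! Evaluation of a generated certificate. -/

set_option autoImplicit false
set_option Elab.async false
set_option maxRecDepth 100000

namespace CfsgLib.HNCert

open CfsgLib.MTwelveUnique

theorem certD_tree : treeAll certDF certDParN certDParX certDN 12 = true := by decide +kernel

theorem certD_steps0 : stepsOK (relK ++ [rSeven] ++ relZ) [[0], [2]] certDF certDSteps0 3716 = true := by decide +kernel

theorem certD_steps1 : stepsOK (relK ++ [rSeven] ++ relZ) [[0], [2]] certDF certDSteps1 4116 = true := by decide +kernel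

theorem certD_steps2 : stepsOK (relK ++ [rSeven] ++ relZ) [[0], [2]] certDF certDSteps2 4516 = true := by decide +kernel

theorem certD_steps3 : stepsOK (relK ++ [rSeven] ++ relZ) [[0], [2]] certDF certDSteps3 4916 = true := by decide +kernel

theorem certD_steps4 : stepsOK (relK ++ [rSeven] ++ relZ) [[0], [2]] certDF certDSteps4 5316 = true := by decide +kernel

theorem certD_steps5 : stepsOK (relK ++ [rSeven] ++ relZ) [[0], [2]] certDF certDSteps5 5716 = true := by decide +kernel

theorem certD_steps6 : stepsOK (relK ++ [rSeven] ++ relZ) [[0], [2]] certDF certDSteps6 6116 = true := by decide +kernel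

theorem certD_steps7 : stepsOK (relK ++ [rSeven] ++ relZ) [[0], [2]] certDF certDSteps7 6516 = true := by decide +kernel

theorem certD_steps8 : stepsOK (relK ++ [rSeven] ++ relZ) [[0], [2]] certDF certDSteps8 6916 = true := by decide +kernel

theorem certD_steps9 : stepsOK (relK ++ [rSeven] ++ relZ) [[0], [2]] certDF certDSteps9 7316 = true := by decide +kernel

theorem certD_steps10 : stepsOK (relK ++ [rSeven] ++ relZ) [[0], [2]] certDF certDSteps10 7716 = true := by decide +kernel

theorem certD_steps11 : stepsOK (relK ++ [rSeven] ++ relZ) [[0], [2]] certDF certDSteps11 8116 = true := by decide +kernel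

theorem certD_steps12 : stepsOK (relK ++ [rSeven] ++ relZ) [[0], [2]] certDF certDSteps12 8516 = true := by decide +kernel

theorem certD_steps13 : stepsOK (relK ++ [rSeven] ++ relZ) [[0], [2]] certDF certDSteps13 8916 = true := by decide +kernel

theorem certD_steps14 : stepsOK (relK ++ [rSeven] ++ relZ) [[0], [2]] certDF certDSteps14 9316 = true := by decide +kernel

theorem certD_ok : certD.ok (relK ++ [rSeven] ++ relZ) [[0], [2]] = true :=
  ok_of certD_tree (by decide +kernel) (stepsOK_join certD_steps0 (show 3716 + certDSteps0.length = 4116 by decide +kernel)
    (stepsOK_join certD_steps1 (show 4116 + certDSteps1.length = 4516 by decide +kernel)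
    (stepsOK_join certD_steps2 (show 4516 + certDSteps2.length = 4916 by decide +kernel)
    (stepsOK_join certD_steps3 (show 4916 + certDSteps3.length = 5316 by decide +kernel)
    (stepsOK_join certD_steps4 (show 5316 + certDSteps4.length = 5716 by decide +kernel)
    (stepsOK_join certD_steps5 (show 5716 + certDSteps5.length = 6116 by decide +kernel)
    (stepsOK_join certD_steps6 (show 6116 + certDSteps6.length = 6516 by decide +kernel)
    (stepsOK_join certD_steps7 (show 6516 + certDSteps7.length = 6916 by decide +kernel)
    (stepsOK_join certD_steps8 (show 6916 + certDSteps8.length = 7316 by decide +kernel)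
    (stepsOK_join certD_steps9 (show 7316 + certDSteps9.length = 7716 by decide +kernel)
    (stepsOK_join certD_steps10 (show 7716 + certDSteps10.length = 8116 by decide +kernel)
    (stepsOK_join certD_steps11 (show 8116 + certDSteps11.length = 8516 by decide +kernel)
    (stepsOK_join certD_steps12 (show 8516 + certDSteps12.length = 8916 by decide +kernel)
    (stepsOK_join certD_steps13 (show 8916 + certDSteps13.length = 9316 by decide +kernel)
    certD_steps14))))))))))))))

theorem certD_lim : certDLim = certD.lim := by decide +kernel

theorem certD_root : CfsgLib.CosetEnum.ext certDL 0 = 0 := by decide +kernel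

theorem certD_edge0_0 : edgesOK certDF certDLim certDL certDTab0 352 0
    certDPath0_0 0 = true := by decide +kernel

theorem certD_edges0 : edgesOK certDF certDLim certDL certDTab0 352 0
    (certDPath0_0) 0 = true :=
  certD_edge0_0

theorem certD_paths0 : (certDPath0_0).length = 352 := by decide +kernel

theorem certD_edge1_0 : edgesOK certDF certDLim certDL certDTab1 352 1
    certDPath1_0 0 = true := by decide +kernel

theorem certD_edges1 : edgesOK certDF certDLim certDL certDTab1 352 1
    (certDPath1_0) 0 = true :=
  certD_edge1_0

theorem certD_paths1 : (certDPath1_0).length = 352 := by decide +kernel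

theorem certD_edge2_0 : edgesOK certDF certDLim certDL certDTab2 352 2
    certDPath2_0 0 = true := by decide +kernel

theorem certD_edges2 : edgesOK certDF certDLim certDL certDTab2 352 2
    (certDPath2_0) 0 = true :=
  certD_edge2_0

theorem certD_paths2 : (certDPath2_0).length = 352 := by decide +kernel

theorem certD_edge3_0 : edgesOK certDF certDLim certDL certDTab3 352 3
    certDPath3_0 0 = true := by decide +kernel

theorem certD_edges3 : edgesOK certDF certDLim certDL certDTab3 352 3
    (certDPath3_0) 0 = true :=
  certD_edge3_0

theorem certD_paths3 : (certDPath3_0).length = 352 := by decide +kernel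

theorem certD_edge4_0 : edgesOK certDF certDLim certDL certDTab4 352 4
    certDPath4_0 0 = true := by decide +kernel

theorem certD_edges4 : edgesOK certDF certDLim certDL certDTab4 352 4
    (certDPath4_0) 0 = true :=
  certD_edge4_0

theorem certD_paths4 : (certDPath4_0).length = 352 := by decide +kernel

theorem certD_edge5_0 : edgesOK certDF certDLim certDL certDTab5 352 5
    certDPath5_0 0 = true := by decide +kernel

theorem certD_edges5 : edgesOK certDF certDLim certDL certDTab5 352 5
    (certDPath5_0) 0 = true :=
  certD_edge5_0

theorem certD_paths5 : (certDPath5_0).length = 352 := by decide +kernel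

end CfsgLib.HNCert
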