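import Cfsg.Agent.MTwelveUnique.Checker

/-!
Words for the bound on the order of the group on `x, y, z`: letters `0, …, 5 = x, x⁻¹, y, y⁻¹, z, z⁻¹`,
and a permutation representation of `U₃(5):2` on 50 points.
-/

set_option autoImplicit false
set_option Elab.async false
set_option maxRecDepth 100000

namespace CfsgLib.HNCert

def relK : List (List ℕ) := [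
  [0, 0],
  [2, 2, 2, 2, 2, 2],
  [0, 3, 0, 2, 0, 3, 0, 2, 0, 3, 0, 2],
  [0, 2, 2, 0, 2, 2, 2, 0, 2, 2, 0, 2, 2, 2, 0, 2, 2, 0, 2, 2, 2],
  [0, 2, 0, 2, 0, 2, 0, 2, 0, 2, 0, 2, 0, 2, 0, 2],
  [0, 2, 0, 2, 2, 2, 0, 2, 0, 2, 2, 2, 0, 2, 0, 2, 2, 2, 0, 2, 0, 2, 2, 2]]

def relH : List (List ℕ) := [
  [0, 0],
  [2, 2, 2, 2, 2, 2],
  [0, 2, 0, 2, 0, 2, 0, 2],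
  [0, 2, 2, 0, 2, 2, 0, 2, 2]]

def subH : List (List ℕ) := [
  [2],
  [0, 2, 2, 2, 0]]

def tWord : List ℕ := [0, 2, 2, 2, 0]

def rSeven : List ℕ := [0, 2, 2, 0, 3, 0, 3, 0, 2, 2, 0, 3, 3, 0, 2, 0, 2, 0, 3, 3]

def uWord : List ℕ := [3, 3, 0, 2, 0, 2, 0, 3, 3]

def qWord : List ℕ := [2, 0, 2, 0, 2, 2, 0, 3]

def yWord : List ℕ := [2, 2, 2, 0, 2, 0, 2]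

def relZ : List (List ℕ) := [
  [4, 4],
  [4, 0, 4, 0],
  [4, 2, 0, 3, 3, 0, 3, 0, 3, 4, 2, 0, 2, 0, 2, 2, 0, 3],
  [4, 3, 0, 3, 0, 3, 3, 3, 4, 2, 2, 2, 0, 2, 0, 2, 0, 3, 0, 3, 0, 3, 3, 3, 4, 2, 2, 2, 0, 2, 0, 2, 0, 3, 0, 3, 0, 3, 3, 3, 4, 2, 2, 2, 0, 2, 0, 2, 0]]

def goalB : List (List ℕ) := [
  [0, 2, 2, 0, 3, 0, 3, 0, 2, 2, 0, 3, 3, 0, 2, 0, 2, 0, 3, 3, 0, 2, 0, 2, 0, 2, 2, 0, 3, 0, 2, 0, 2, 0, 2, 2, 0, 3, 0, 2, 0, 2, 0, 2, 2, 0, 3, 0, 2, 0, 2, 0, 2, 2, 0, 3, 0, 2, 0, 2, 0, 2, 2, 0, 3, 0, 2, 0, 2, 0, 2, 2, 0, 3, 0, 2, 0, 2, 0, 2, 2, 0, 3],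
  [2, 2, 2, 0, 2, 0, 2, 0, 2, 2, 0, 3, 0, 3, 0, 2, 2, 0, 3, 3, 0, 2, 0, 2, 0, 3, 3, 3, 1, 3, 1, 3, 3, 3, 2, 2, 1, 3, 1, 3, 1, 2, 2, 1, 3, 3, 1, 2, 1, 2, 1, 3, 3, 1],
  [0, 2, 2, 0, 3, 0, 3, 0, 2, 2, 0, 3, 3, 0, 2, 0, 2, 0, 3, 3, 0, 2, 2, 0, 3, 0, 3, 0, 2, 2, 0, 3, 3, 0, 2, 0, 2, 0, 3, 3, 0, 2, 2, 0, 3, 0, 3, 0, 2, 2, 0, 3, 3, 0, 2, 0, 2, 0, 3, 3]]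

def hWords : List (List ℕ) := [
  [],
  [0],
  [2],
  [2, 2],
  [2, 2, 2],
  [2, 2, 2, 2],
  [2, 2, 2, 2, 2],
  [0, 2],
  [0, 2, 0],
  [0, 2, 0, 2],
  [0, 2, 0, 2, 0],
  [0, 2, 0, 2, 0, 2],
  [0, 2, 2],
  [0, 2, 2, 0],
  [0, 2, 2, 0, 2],
  [0, 2, 2, 0, 2, 2],
  [0, 3],
  [2, 0],
  [2, 2, 0],
  [2, 2, 2, 0],
  [0, 2, 0, 3],
  [0, 2, 0, 2, 2],
  [0, 2, 0, 2, 0, 3],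
  [0, 2, 0, 2, 0, 2, 2],
  [0, 2, 2, 2],
  [0, 2, 2, 0, 3],
  [0, 2, 2, 0, 2, 0],
  [0, 2, 2, 0, 2, 2, 2],
  [0, 3, 0],
  [0, 3, 3],
  [2, 0, 2],
  [2, 0, 3],
  [2, 2, 0, 2],
  [2, 2, 0, 3],
  [2, 2, 2, 0, 2],
  [2, 2, 2, 0, 3],
  [0, 2, 0, 3, 0],
  [0, 2, 0, 3, 3],
  [0, 2, 0, 2, 2, 0],
  [0, 2, 0, 2, 2, 2],
  [0, 2, 0, 2, 0, 3, 0],
  [0, 2, 0, 2, 0, 3, 3],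
  [0, 2, 0, 2, 0, 2, 2, 0],
  [0, 2, 0, 2, 0, 2, 2, 2],
  [0, 2, 2, 2, 0],
  [0, 2, 2, 0, 3, 0],
  [0, 2, 2, 0, 3, 3],
  [0, 2, 2, 0, 2, 2, 2, 0],
  [0, 3, 0, 2],
  [0, 3, 0, 3],
  [0, 3, 3, 0],
  [2, 0, 3, 0],
  [2, 0, 3, 3],
  [2, 2, 0, 2, 0],
  [2, 2, 0, 3, 0],
  [2, 2, 0, 3, 3],
  [2, 2, 2, 0, 2, 0],
  [2, 2, 2, 0, 2, 2],
  [2, 2, 2, 0, 3, 0],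
  [2, 2, 2, 0, 3, 3],
  [0, 2, 0, 3, 0, 2],
  [0, 2, 0, 3, 3, 0],
  [0, 2, 0, 2, 2, 0, 3],
  [0, 2, 0, 2, 2, 2, 0],
  [0, 2, 0, 2, 0, 3, 0, 2],
  [0, 2, 0, 2, 0, 3, 3, 0],
  [0, 2, 0, 2, 0, 2, 2, 0, 3],
  [0, 2, 2, 2, 0, 2],
  [0, 2, 2, 2, 0, 3],
  [0, 2, 2, 0, 3, 0, 2],
  [0, 2, 2, 0, 3, 0, 3],
  [0, 2, 2, 0, 2, 2, 2, 0, 3],
  [0, 3, 0, 2, 0],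
  [0, 3, 0, 2, 2],
  [0, 3, 3, 0, 2],
  [2, 0, 3, 0, 2],
  [2, 2, 0, 3, 0, 2],
  [2, 2, 2, 0, 2, 0, 3],
  [2, 2, 2, 0, 2, 2, 2],
  [2, 2, 2, 0, 3, 0, 2],
  [0, 2, 0, 3, 0, 2, 0],
  [0, 2, 0, 3, 0, 2, 2],
  [0, 2, 0, 3, 3, 0, 2],
  [0, 2, 0, 2, 2, 0, 3, 0],
  [0, 2, 0, 2, 2, 2, 0, 2],
  [0, 2, 0, 2, 2, 2, 0, 3],
  [0, 2, 0, 2, 0, 3, 0, 2, 0],
  [0, 2, 0, 2, 0, 3, 3, 0, 2],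
  [0, 2, 2, 2, 0, 3, 0],
  [0, 2, 2, 2, 0, 3, 3],
  [0, 2, 2, 0, 3, 0, 2, 0],
  [0, 2, 2, 0, 3, 0, 2, 2],
  [0, 2, 2, 0, 2, 2, 2, 0, 3, 3],
  [0, 3, 0, 2, 0, 3],
  [0, 3, 3, 0, 2, 0],
  [2, 0, 3, 0, 2, 2],
  [2, 2, 0, 3, 0, 2, 2],
  [2, 2, 2, 0, 2, 0, 3, 3],
  [2, 2, 2, 0, 2, 2, 2, 0],
  [2, 2, 2, 0, 3, 0, 2, 2],
  [0, 2, 0, 3, 0, 2, 0, 3],
  [0, 2, 0, 3, 0, 2, 2, 0],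
  [0, 2, 0, 3, 3, 0, 2, 0],
  [0, 2, 0, 2, 2, 0, 3, 0, 2],
  [0, 2, 0, 2, 2, 0, 3, 0, 3],
  [0, 2, 0, 2, 2, 2, 0, 3, 0],
  [0, 2, 0, 2, 0, 3, 0, 2, 0, 3],
  [0, 2, 0, 2, 0, 3, 3, 0, 2, 0],
  [0, 2, 2, 2, 0, 3, 0, 2],
  [0, 2, 2, 0, 3, 0, 2, 0, 3],
  [2, 0, 3, 0, 2, 2, 0],
  [2, 2, 2, 0, 2, 0, 3, 3, 0],
  [2, 2, 2, 0, 2, 2, 2, 0, 2],
  [2, 2, 2, 0, 3, 0, 2, 2, 0],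
  [0, 2, 0, 3, 0, 2, 0, 3, 0],
  [0, 2, 0, 3, 3, 0, 2, 0, 3],
  [0, 2, 2, 2, 0, 3, 0, 2, 2],
  [2, 2, 2, 0, 2, 0, 3, 3, 0, 2],
  [0, 2, 0, 3, 0, 2, 0, 3, 0, 2],
  [0, 2, 0, 3, 3, 0, 2, 0, 3, 3]]

def hMoved : List ℕ := [0, 0, 0, 2, 0, 2, 0, 0, 0, 0, 1, 0, 0, 0, 0, 0, 0, 0, 0, 0, 0, 0, 0, 1, 0, 0, 0, 0, 0, 0, 1, 1, 0, 0, 1, 1, 0, 0, 0, 0, 0, 1, 0, 0, 1, 1, 0, 0, 0, 0, 0, 0, 0, 0, 0, 0, 0, 0, 0, 0, 0, 1, 0, 0, 1, 0, 0, 0, 0, 0, 0, 0, 0, 0, 0, 0, 0, 0, 1, 0, 1, 0, 0, 0, 0, 0, 0, 0, 0, 1, 0, 1, 0, 0, 1, 0, 0, 0, 0, 0, 0, 0, 0, 0, 0, 2, 0, 0, 1, 1, 0, 0, 0, 0, 0, 2, 0, 0, 3, 0]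

def sigTab : List (List ℕ) := [
  [0, 2, 1, 4, 3, 5, 7, 6, 8, 10, 9, 12, 11, 14, 13, 19, 21, 23, 25, 15, 24, 16, 26, 17, 20, 18, 22, 30, 32, 33, 27, 37, 28, 29, 41, 38, 43, 31, 35, 40, 39, 34, 42, 36, 46, 48, 44, 47, 45, 49],
  [0, 2, 1, 4, 3, 5, 7, 6, 8, 10, 9, 12, 11, 14, 13, 19, 21, 23, 25, 15, 24, 16, 26, 17, 20, 18, 22, 30, 32, 33, 27, 37, 28, 29, 41, 38, 43, 31, 35, 40, 39, 34, 42, 36, 46, 48, 44, 47, 45, 49],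
  [1, 0, 3, 6, 9, 4, 2, 8, 5, 14, 11, 16, 13, 18, 7, 10, 22, 12, 26, 25, 15, 28, 20, 21, 17, 29, 24, 19, 23, 34, 35, 27, 38, 36, 31, 42, 30, 41, 44, 32, 33, 37, 40, 43, 47, 39, 48, 45, 49, 46],
  [1, 0, 6, 2, 5, 8, 3, 14, 7, 4, 15, 10, 17, 12, 9, 20, 11, 24, 13, 27, 22, 23, 16, 28, 26, 19, 18, 31, 21, 25, 36, 34, 39, 40, 29, 30, 33, 41, 32, 45, 42, 37, 35, 43, 38, 47, 49, 44, 46, 48]]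

end CfsgLib.HNCert
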