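import Cfsg.Agent.HNCert.Sep

/-!
A calculus of facts `K R_i a = K R_k b` and `K R_i a t = K R_k b` between translates of right
cosets of the image `K` of `P`, with `a`, `b` in `P`.
-/

set_option autoImplicit false

namespace CfsgLib.HNCert

open CfsgLib.CosetEnum

noncomputable section

/-- The image of `P`. -/
abbrev KH : Subgroup Cfsg.Spor.HN := emb.range

/-- The inverse word. -/
def wi (w : List ℕ) : List ℕ := (w.map iv).reverse

theorem g_iv {x : ℕ} (hx : x < 7) : g (iv x) = (g x)⁻¹ := by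
  have hz : g 4 * g 4 = 1 := by
    have h := g_rel [4, 4] (by simp [relP])
    simpa [prodw] using h
  interval_cases x
  · rfl
  · show g 0 = (g 1)⁻¹
    rw [show g 1 = (g 0)⁻¹ from rfl, inv_inv]
  · rfl
  · show g 2 = (g 3)⁻¹
    rw [show g 3 = (g 2)⁻¹ from rfl, inv_inv]
  · exact eq_inv_of_mul_eq_one_left hz
  · rfl
  · show g 5 = (g 6)⁻¹
    rw [show g 6 = (g 5)⁻¹ from rfl, inv_inv]

theorem pg_iv {x : ℕ} (hx : x < 5) : pg (iv x) = (pg x)⁻¹ := by
  have hz : pg 4 * pg 4 = 1 := by
    have h := pg_rel [4, 4] (by simp [relP])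
    simpa [prodw] using h
  interval_cases x
  · rfl
  · show pg 0 = (pg 1)⁻¹
    rw [show pg 1 = (pg 0)⁻¹ from rfl, inv_inv]
  · rfl
  · show pg 2 = (pg 3)⁻¹
    rw [show pg 3 = (pg 2)⁻¹ from rfl, inv_inv]
  · exact eq_inv_of_mul_eq_one_left hz

theorem wi_lt {w : List ℕ} (hw : ∀ x ∈ w, x < 5) : ∀ x ∈ wi w, x < 5 := by
  intro x hx
  obtain ⟨y, hy, rfl⟩ := List.mem_map.mp (List.mem_reverse.mp hx)
  exact iv_lt y (hw y hy)

theorem prodw_wi {w : List ℕ} (hw : ∀ x ∈ w, x < 5) : prodw pg (wi w) = (prodw pg w)⁻¹ :=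
  prodw_rev_iv pg 5 iv (fun _x hx _ => pg_iv hx) w fun y hy => ⟨hw y hy, iv_lt y (hw y hy)⟩

theorem g_wi {w : List ℕ} (hw : ∀ x ∈ w, x < 7) : prodw g (wi w) = (prodw g w)⁻¹ := by
  refine prodw_rev_iv g 7 iv (fun x hx _ => g_iv hx) w fun y hy => ?_
  have := hw y hy
  exact ⟨this, by interval_cases y <;> decide⟩

theorem app_lt {u v : List ℕ} (hu : ∀ x ∈ u, x < 5) (hv : ∀ x ∈ v, x < 5) :
    ∀ x ∈ u ++ v, x < 5 := by
  intro x hx
  rcases List.mem_append.mp hx with h | h
  exacts [hu x h, hv x h]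

/-- All relators, and the two trivial ones. -/
def words : List (List ℕ) := relP ++ relT ++ [[5, 6], [6, 5]]

theorem prodw_words : ∀ w ∈ words, prodw g w = 1 := by
  intro w hw
  rcases List.mem_append.mp hw with h | h
  · exact g_rel w h
  · have h56 : g 6 = (g 5)⁻¹ := rfl
    fin_cases h <;> simp [prodw, h56]

theorem words_lt : ∀ w ∈ words, ∀ x ∈ w, x < 7 := by decide +kernel

/-- A rotation of a relator or of its inverse; an unused number gives the empty word. -/
def relWord (r : ℕ) : List ℕ :=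
  let w := words.getD (Nat.land (Nat.shiftRight r 1) 127) []
  let v := bif Nat.beq (Nat.land r 1) 1 then wi w else w
  v.drop (Nat.shiftRight r 8) ++ v.take (Nat.shiftRight r 8)

theorem prodw_relWord (r : ℕ) : prodw g (relWord r) = 1 := by
  unfold relWord
  set w := words.getD (Nat.land (Nat.shiftRight r 1) 127) [] with hw
  have h1 : prodw g w = 1 ∧ ∀ x ∈ w, x < 7 := by
    by_cases hj : Nat.land (Nat.shiftRight r 1) 127 < words.length
    · rw [hw, List.getD_eq_getElem _ _ hj]
      exact ⟨prodw_words _ (List.getElem_mem hj), words_lt _ (List.getElem_mem hj)⟩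
    · rw [hw, List.getD_eq_default _ _ (Nat.le_of_not_lt hj)]
      exact ⟨rfl, fun x hx => absurd hx List.not_mem_nil⟩
  set v := (bif Nat.beq (Nat.land r 1) 1 then wi w else w) with hv
  have hv1 : prodw g v = 1 := by
    rw [hv]
    cases Nat.beq (Nat.land r 1) 1
    · exact h1.1
    · rw [cond_true, g_wi h1.2, h1.1, inv_one]
  show prodw g (v.drop (Nat.shiftRight r 8) ++ v.take (Nat.shiftRight r 8)) = 1
  rw [prodw_append]
  refine mul_eq_one_comm.mp ?_
  rw [← prodw_append, List.take_append_drop, hv1]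

/-- Data of a derivation. -/
structure Cert where
  /-- Words of elements. -/
  word : ℕ → ℕ
  /-- The earlier rep, the element and the letter (`5` or `6`) defining a rep. -/
  repI : ℕ → ℕ
  repH : ℕ → ℕ
  repX : ℕ → ℕ
  /-- `0` plain, `1` with a final `t`. -/
  kind : ℕ → ℕ
  /-- `0` at the start, `1` a definition, `2` derived. -/
  how : ℕ → ℕ
  fI : ℕ → ℕ
  fA : ℕ → ℕ
  fK : ℕ → ℕ
  fB : ℕ → ℕ
  /-- The relator used. -/
  fR : ℕ → ℕ
  /-- The moves: operation, argument, new rep, new element. -/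
  moves : ℕ → List (ℕ × ℕ × ℕ × ℕ)

variable (D : Cert)

/-- The word of an element. -/
def Cert.wd (a : ℕ) : List ℕ := dec (D.word a)

/-- The word of a rep. -/
def Cert.rep (i : ℕ) : List ℕ :=
  Nat.rec (motive := fun _ => ℕ → List ℕ) (fun _ => [])
    (fun _ ih i => bif Nat.beq i 0 then []
      else ih (D.repI i) ++ D.wd (D.repH i) ++ [bif Nat.beq (D.repX i) 5 then 5 else 6]) 48 i

theorem Cert.rep_zero : D.rep 0 = [] := rfl

theorem Cert.wd_lt (a : ℕ) : ∀ x ∈ D.wd a, x < 5 := dec_lt _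

/-- The translate named by a rep and an element. -/
def Cert.pos (i a : ℕ) : Cfsg.Spor.HN := prodw g (D.rep i) * emb (el (D.word a))

/-- A move from `(s, h)` using facts before `i`. -/
def moveOk (i s h : ℕ) (m : ℕ × ℕ × ℕ × ℕ) : Bool :=
  let f := m.2.1
  let t := m.2.2.1
  let h' := m.2.2.2
  bif Nat.beq m.1 0 then
    Nat.blt f 5 && (Nat.beq t s && same (D.wd h ++ [f]) (D.wd h'))
  else bif Nat.beq m.1 1 then
    Nat.blt f i && (Nat.beq (D.kind f) 0 && (Nat.beq (D.fI f) s && (Nat.beq (D.fK f) t &&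
      same (D.wd (D.fB f) ++ wi (D.wd (D.fA f)) ++ D.wd h) (D.wd h'))))
  else bif Nat.beq m.1 2 then
    Nat.blt f i && (Nat.beq (D.kind f) 0 && (Nat.beq (D.fK f) s && (Nat.beq (D.fI f) t &&
      same (D.wd (D.fA f) ++ wi (D.wd (D.fB f)) ++ D.wd h) (D.wd h'))))
  else bif Nat.beq m.1 3 then
    Nat.blt f i && (Nat.beq (D.kind f) 1 && (Nat.beq (D.fI f) s && (Nat.beq (D.fK f) t &&
      (Nat.beq (walk (wi (D.wd (D.fA f)) ++ D.wd h) 0) 0 &&
        same (D.wd (D.fB f) ++ wi (D.wd (D.fA f)) ++ D.wd h) (D.wd h')))))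
  else bif Nat.beq m.1 4 then
    Nat.blt f i && (Nat.beq (D.kind f) 1 && (Nat.beq (D.fK f) s && (Nat.beq (D.fI f) t &&
      (Nat.beq (walk (wi (D.wd (D.fB f)) ++ D.wd h) 0) 0 &&
        same (D.wd (D.fA f) ++ wi (D.wd (D.fB f)) ++ D.wd h) (D.wd h')))))
  else false

/-- The letter consumed by a move. -/
def moveLet (m : ℕ × ℕ × ℕ × ℕ) : List ℕ :=
  bif Nat.beq m.1 0 then [m.2.1]
  else bif Nat.beq m.1 3 then [5] else bif Nat.beq m.1 4 then [6] else []

/-- Follow moves to `(k, b)`, collecting the letters consumed. -/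
def follow (i k b : ℕ) : List (ℕ × ℕ × ℕ × ℕ) → ℕ → ℕ → Option (List ℕ)
  | [], s, h => bif Nat.beq s k && Nat.beq h b then some [] else none
  | m :: ms, s, h =>
    bif moveOk D i s h m then (follow i k b ms m.2.2.1 m.2.2.2).map (moveLet m ++ ·) else none

/-- Check of fact number `i`. -/
def checkFact (i : ℕ) : Bool :=
  bif Nat.beq (D.how i) 0 then
    Nat.beq (D.kind i) 0 && (Nat.beq (D.fI i) 0 && Nat.beq (D.fK i) 0)
  else bif Nat.beq (D.how i) 1 then
    Nat.beq (D.kind i) 1 &&
      (decide (D.rep (D.fI i) ++ D.wd (D.fA i) ++ [5] = D.rep (D.fK i) ++ D.wd (D.fB i)) ||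
        decide (D.rep (D.fI i) ++ D.wd (D.fA i) = D.rep (D.fK i) ++ D.wd (D.fB i) ++ [6]))
  else
    match follow D i (D.fK i) (D.fB i) (D.moves i) (D.fI i) (D.fA i) with
    | none => false
    | some v => decide (v ++ (bif Nat.beq (D.kind i) 1 then [6] else []) = relWord (D.fR i))

/-- What a fact says. -/
def Says (i : ℕ) : Prop :=
  D.pos (D.fI i) (D.fA i) * (if D.kind i = 1 then g 5 else 1) *
      (D.pos (D.fK i) (D.fB i))⁻¹ ∈ KH

variable {D}

theorem emb_el (a : ℕ) : emb (el (D.word a)) = prodw g (D.wd a) := emb_prodw (dec_lt _)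

theorem move_sound (hB : Bound) {i s h : ℕ} {m : ℕ × ℕ × ℕ × ℕ} (ih : ∀ f < i, Says D f)
    (hm : moveOk D i s h m = true) :
    D.pos s h * prodw g (moveLet m) * (D.pos m.2.2.1 m.2.2.2)⁻¹ ∈ KH := by
  obtain ⟨o, f, t, h'⟩ := m
  have hw := @Cert.wd_lt D
  have heq : ∀ (A B : ℕ), same (D.wd B ++ wi (D.wd A) ++ D.wd h) (D.wd h') = true →
      el (D.word h') = el (D.word B) * (el (D.word A))⁻¹ * el (D.word h) := by
    intro A B e
    have := eq_of_same hB (app_lt (app_lt (hw _) (wi_lt (hw _))) (hw _)) (hw _) e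
    rw [prodw_append, prodw_append, prodw_wi (hw _)] at this
    exact this.symm
  have hfix : ∀ (A : ℕ), Nat.beq (walk (wi (D.wd A) ++ D.wd h) 0) 0 = true →
      Commute (emb ((el (D.word A))⁻¹ * el (D.word h))) (g 5) := by
    intro A e
    refine commute_of_mem (mem_cenT_of_fix hB (Fin.ext ?_))
    have h2 := mv_prodw (app_lt (wi_lt (hw A)) (hw h)) (0 : Fin 1408)
    rw [prodw_append, prodw_wi (hw A)] at h2
    exact h2.trans (Nat.eq_of_beq_eq_true e)
  simp only [moveOk] at hm
  simp only [moveLet]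
  rcases Nat.lt_or_ge o 5 with ho | ho
  swap
  · have e : ∀ k < 5, Nat.beq o k = false := fun k hk =>
      Bool.eq_false_iff.mpr fun hh => absurd (Nat.eq_of_beq_eq_true hh) (by omega)
    simp [e] at hm
  interval_cases o <;>
    simp only [Nat.beq, cond_true, cond_false, Bool.and_eq_true, Nat.blt_eq] at hm ⊢
  · obtain ⟨hf, ht, e⟩ := hm
    have e' := eq_of_same hB (app_lt (hw _) (by simpa using hf)) (hw _) e
    rw [prodw_append] at e'
    change el (D.word h) * prodw pg [f] = el (D.word h') at e'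
    rw [Nat.eq_of_beq_eq_true ht, Cert.pos, Cert.pos, ← e', map_mul,
      emb_prodw (by simpa using hf)]
    simp [mul_assoc, one_mem]
  · obtain ⟨hf, hk, hs, ht, e⟩ := hm
    have hS := ih f hf
    rw [Says, Nat.eq_of_beq_eq_true hk, if_neg (by norm_num), mul_one, Cert.pos, Cert.pos,
      Nat.eq_of_beq_eq_true hs, Nat.eq_of_beq_eq_true ht] at hS
    rw [Cert.pos, Cert.pos, prodw_nil, mul_one, heq _ _ e, map_mul, map_mul, map_inv]
    simpa [mul_assoc] using hS
  · obtain ⟨hf, hk, hs, ht, e⟩ := hm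
    have hS := inv_mem (ih f hf)
    rw [Nat.eq_of_beq_eq_true hk, if_neg (by norm_num), mul_one, Cert.pos, Cert.pos,
      Nat.eq_of_beq_eq_true hs, Nat.eq_of_beq_eq_true ht] at hS
    rw [Cert.pos, Cert.pos, prodw_nil, mul_one, heq _ _ e, map_mul, map_mul, map_inv]
    simpa [mul_assoc] using hS
  · obtain ⟨hf, hk, hs, ht, hc, e⟩ := hm
    have hS := ih f hf
    have hcm := hfix _ hc
    rw [map_mul, map_inv] at hcm
    rw [Says, Nat.eq_of_beq_eq_true hk, if_pos rfl, Cert.pos, Cert.pos,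
      Nat.eq_of_beq_eq_true hs, Nat.eq_of_beq_eq_true ht] at hS
    rw [Cert.pos, Cert.pos, prodw_cons, prodw_nil, mul_one, heq _ _ e, map_mul, map_mul, map_inv]
    generalize emb (el (D.word (D.fA f))) = a at hS hcm ⊢
    generalize emb (el (D.word (D.fB f))) = b at hS hcm ⊢
    generalize emb (el (D.word h)) = k at hS hcm ⊢
    generalize prodw g (D.rep s) = r at hS ⊢
    generalize prodw g (D.rep t) = r' at hS ⊢
    have h1 : r * k * g 5 * (r' * (b * a⁻¹ * k))⁻¹ = r * a * ((a⁻¹ * k) * g 5 * (a⁻¹ * k)⁻¹) *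
        (r' * b)⁻¹ := by group
    rw [h1, hcm.eq, mul_inv_cancel_right]
    exact hS
  · obtain ⟨hf, hk, hs, ht, hc, e⟩ := hm
    have hS := inv_mem (ih f hf)
    have hcm := (hfix _ hc).inv_right
    rw [map_mul, map_inv] at hcm
    rw [Nat.eq_of_beq_eq_true hk, if_pos rfl, Cert.pos, Cert.pos,
      Nat.eq_of_beq_eq_true hs, Nat.eq_of_beq_eq_true ht] at hS
    rw [Cert.pos, Cert.pos, prodw_cons, prodw_nil, mul_one, heq _ _ e, map_mul, map_mul, map_inv,
      show g 6 = (g 5)⁻¹ from rfl]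
    generalize emb (el (D.word (D.fA f))) = a at hS hcm ⊢
    generalize emb (el (D.word (D.fB f))) = b at hS hcm ⊢
    generalize emb (el (D.word h)) = k at hS hcm ⊢
    generalize prodw g (D.rep s) = r at hS ⊢
    generalize prodw g (D.rep t) = r' at hS ⊢
    have h1 : r * k * (g 5)⁻¹ * (r' * (a * b⁻¹ * k))⁻¹ =
        r * b * ((b⁻¹ * k) * (g 5)⁻¹ * (b⁻¹ * k)⁻¹) * (r' * a)⁻¹ := by group
    rw [h1, hcm.eq, mul_inv_cancel_right]
    simpa [mul_assoc] using hS

theorem follow_sound (hB : Bound) {i k b : ℕ} (ih : ∀ f < i, Says D f) :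
    ∀ (ms : List (ℕ × ℕ × ℕ × ℕ)) (s h : ℕ) (v : List ℕ), follow D i k b ms s h = some v →
      D.pos s h * prodw g v * (D.pos k b)⁻¹ ∈ KH
  | [], s, h, v, e => by
    rw [follow] at e
    cases hc : (Nat.beq s k && Nat.beq h b) <;> rw [hc] at e <;> simp at e
    subst e
    rw [Bool.and_eq_true] at hc
    rw [Nat.eq_of_beq_eq_true hc.1, Nat.eq_of_beq_eq_true hc.2, prodw_nil, mul_one,
      mul_inv_cancel]
    exact one_mem _
  | m :: ms, s, h, v, e => by
    rw [follow] at e
    cases hc : moveOk D i s h m <;> rw [hc] at e <;> simp at e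
    obtain ⟨w, hw, rfl⟩ := e
    have h1 := move_sound hB ih hc
    have h2 := follow_sound hB ih ms _ _ w hw
    have := mul_mem h1 (mul_mem (one_mem _) h2)
    rw [prodw_append]
    simpa [mul_assoc] using this

theorem says_of_check (hB : Bound) {n : ℕ} (hc : ∀ i < n, checkFact D i = true) :
    ∀ i < n, Says D i := by
  intro i
  induction i using Nat.strong_induction_on with
  | _ i ih =>
    intro hi
    have h := hc i hi
    have ih' : ∀ f < i, Says D f := fun f hf => ih f hf (lt_trans hf hi)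
    rw [checkFact] at h
    cases h0 : Nat.beq (D.how i) 0
    swap
    · simp only [h0, cond_true, Bool.and_eq_true] at h
      rw [Says, Nat.eq_of_beq_eq_true h.1, if_neg (by norm_num), mul_one, Cert.pos, Cert.pos,
        Nat.eq_of_beq_eq_true h.2.1, Nat.eq_of_beq_eq_true h.2.2, D.rep_zero, prodw_nil, one_mul,
        one_mul]
      exact mul_mem ⟨_, rfl⟩ (inv_mem ⟨_, rfl⟩)
    cases h1 : Nat.beq (D.how i) 1
    swap
    · simp only [h0, h1, cond_false, cond_true, Bool.and_eq_true, Bool.or_eq_true,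
        decide_eq_true_eq] at h
      rw [Says, Nat.eq_of_beq_eq_true h.1, if_pos rfl, Cert.pos, Cert.pos, emb_el, emb_el]
      have h56 : g 6 = (g 5)⁻¹ := rfl
      have h5 : prodw g [5] = g 5 := by simp [prodw]
      have h6 : prodw g [6] = (g 5)⁻¹ := by simp [prodw, h56]
      rcases h.2 with e | e
      · have e' := congrArg (prodw g) e
        rw [prodw_append, prodw_append, prodw_append, h5] at e'
        rw [e', mul_inv_cancel]
        exact one_mem _
      · have e' := congrArg (prodw g) e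
        rw [prodw_append, prodw_append, prodw_append, h6] at e'
        rw [e', inv_mul_cancel_right, mul_inv_cancel]
        exact one_mem _
    simp only [h0, h1, cond_false] at h
    cases hf : follow D i (D.fK i) (D.fB i) (D.moves i) (D.fI i) (D.fA i) with
    | none => rw [hf] at h; exact absurd h Bool.false_ne_true
    | some v =>
      rw [hf] at h
      simp only [decide_eq_true_eq] at h
      have hv := follow_sound hB ih' _ _ _ v hf
      have hr : prodw g v * prodw g (bif Nat.beq (D.kind i) 1 then [6] else []) = 1 := by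
        rw [← prodw_append, h, prodw_relWord]
      rw [Says]
      cases hk : Nat.beq (D.kind i) 1
      · rw [hk, cond_false, prodw_nil, mul_one] at hr
        rw [if_neg (fun hh => by rw [hh] at hk; exact absurd hk (by decide))]
        rwa [hr] at hv
      · rw [hk, cond_true, prodw_cons, prodw_nil, mul_one, show g 6 = (g 5)⁻¹ from rfl,
          mul_inv_eq_one] at hr
        rw [if_pos (Nat.eq_of_beq_eq_true hk)]
        rwa [hr] at hv

end

end CfsgLib.HNCert
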