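import Mathlib

/-!
Lower and upper bounds for subgroups from lists of transversals along a base, for an action from
the right through a homomorphism into permutations.
-/

set_option autoImplicit false

namespace CfsgLib.HNCert

section

variable {P α : Type*} [Group P] (π : P →* Equiv.Perm α)

/-- The image of a point, acting from the right. -/
def mv (g : P) (p : α) : α := (π g)⁻¹ p

theorem mv_one (p : α) : mv π 1 p = p := by simp [mv]

theorem mv_mul (g h : P) (p : α) : mv π (g * h) p = mv π h (mv π g p) := by simp [mv]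

theorem mv_inj (g : P) : Function.Injective (mv π g) := (π g)⁻¹.injective

theorem mv_inv (g : P) (p : α) : mv π g⁻¹ (mv π g p) = p := by
  rw [← mv_mul, mul_inv_cancel, mv_one]

/-- The indices of the products along a chain. -/
def Idx : List (α × List P) → Type
  | [] => PUnit
  | (_, L) :: C => Idx C × Fin L.length

instance finite_idx : ∀ C : List (α × List P), Finite (Idx C)
  | [] => inferInstanceAs (Finite PUnit)
  | (_, L) :: C => by
    have := finite_idx C
    exact inferInstanceAs (Finite (Idx C × Fin L.length))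

/-- The number of products along a chain. -/
def size : List (α × List P) → ℕ
  | [] => 1
  | (_, L) :: C => size C * L.length

omit [Group P] in
theorem card_idx : ∀ C : List (α × List P), Nat.card (Idx C) = size C
  | [] => Nat.card_unique (α := PUnit)
  | (_, L) :: C => by
    show Nat.card (Idx C × Fin L.length) = _
    rw [Nat.card_prod, Nat.card_fin, card_idx C]
    rfl

/-- A product along a chain, the deepest factor first. -/
def elt : ∀ C : List (α × List P), Idx C → P
  | [], _ => 1
  | (_, L) :: C, i => elt C i.1 * L.get i.2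

/-- The images of the base. -/
def imgs (C : List (α × List P)) (g : P) : List α := C.map fun e => mv π g e.1

/-- Factors fix the earlier base points and are told apart by their own base point. -/
def Ok : List (α × List P) → Prop
  | [] => True
  | (b, L) :: C => (L.map fun u => mv π u b).Nodup ∧
      (∀ e ∈ C, ∀ u ∈ e.2, mv π u b = b) ∧ Ok C

variable {π}

theorem elt_fix {p : α} : ∀ (C : List (α × List P)), (∀ e ∈ C, ∀ u ∈ e.2, mv π u p = p) →
    ∀ i : Idx C, mv π (elt C i) p = p
  | [], _, _ => mv_one π p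
  | (b, L) :: C, h, i => by
    show mv π (elt C i.1 * L.get i.2) p = p
    rw [mv_mul, elt_fix C (fun e he => h e (List.mem_cons_of_mem _ he)) i.1,
      h (b, L) List.mem_cons_self _ (List.get_mem L i.2)]

theorem elt_mem {W : Subgroup P} : ∀ (C : List (α × List P)), (∀ e ∈ C, ∀ u ∈ e.2, u ∈ W) →
    ∀ i : Idx C, elt C i ∈ W
  | [], _, _ => W.one_mem
  | (b, L) :: C, h, i =>
    W.mul_mem (elt_mem C (fun e he => h e (List.mem_cons_of_mem _ he)) i.1)
      (h (b, L) List.mem_cons_self _ (List.get_mem L i.2))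

theorem imgs_inj : ∀ (C : List (α × List P)), Ok π C → ∀ i j : Idx C,
    imgs π C (elt C i) = imgs π C (elt C j) → i = j
  | [], _, _, _, _ => rfl
  | (b, L) :: C, h, i, j, e => by
    obtain ⟨hn, hf, hC⟩ := h
    simp only [imgs, List.map_cons, List.cons.injEq] at e
    obtain ⟨e1, e2⟩ := e
    have hb : ∀ k : Idx ((b, L) :: C), mv π (elt ((b, L) :: C) k) b = mv π (L.get k.2) b := fun k => by
      show mv π (elt C k.1 * L.get k.2) b = _
      rw [mv_mul, elt_fix C hf k.1]
    rw [hb, hb] at e1
    have h2 : i.2 = j.2 := by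
      apply Fin.ext
      exact (hn.getElem_inj_iff (hi := by simp) (hj := by simp)).mp (by simpa using e1)
    have h1 : i.1 = j.1 := by
      refine imgs_inj C hC _ _ (List.map_inj_left.mpr fun x hx => ?_)
      have h3 := List.map_inj_left.mp e2 x hx
      have h4 : mv π (elt C i.1 * L.get i.2) x.1 = mv π (elt C j.1 * L.get j.2) x.1 := h3
      rw [mv_mul, mv_mul, ← h2] at h4
      exact mv_inj π _ h4
    exact Prod.ext h1 h2

theorem elt_injective {C : List (α × List P)} (h : Ok π C) : Function.Injective (elt C) :=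
  fun i j e => imgs_inj C h i j (by rw [e])

theorem size_le {W : Subgroup P} [Finite W] {C : List (α × List P)} (h : Ok π C)
    (hW : ∀ e ∈ C, ∀ u ∈ e.2, u ∈ W) : size C ≤ Nat.card W := by
  rw [← card_idx C]
  exact Nat.card_le_card_of_injective (fun i => (⟨elt C i, elt_mem C hW i⟩ : W))
    fun i j e => elt_injective h (congrArg Subtype.val e)

theorem exists_elt {W : Subgroup P} [Finite W] {C : List (α × List P)} (h : Ok π C)
    (hW : ∀ e ∈ C, ∀ u ∈ e.2, u ∈ W) (hc : Nat.card W ≤ size C) {g : P} (hg : g ∈ W) :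
    ∃ i : Idx C, elt C i = g := by
  let f : Idx C → W := fun i => ⟨elt C i, elt_mem C hW i⟩
  have hf : Function.Injective f := fun i j e => elt_injective h (congrArg Subtype.val e)
  have hb := hf.bijective_of_nat_card_le (by rw [card_idx]; exact hc)
  obtain ⟨i, hi⟩ := hb.2 ⟨g, hg⟩
  exact ⟨i, congrArg Subtype.val hi⟩

/-- A chain of full size separates the elements by the images of its base. -/
theorem eq_of_imgs {W : Subgroup P} [Finite W] {C : List (α × List P)} (h : Ok π C)
    (hW : ∀ e ∈ C, ∀ u ∈ e.2, u ∈ W) (hc : Nat.card W ≤ size C) {g k : P} (hg : g ∈ W)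
    (hk : k ∈ W) (he : imgs π C g = imgs π C k) : g = k := by
  obtain ⟨i, rfl⟩ := exists_elt h hW hc hg
  obtain ⟨j, rfl⟩ := exists_elt h hW hc hk
  rw [imgs_inj C h i j he]

/-- In a chain of full size the stabiliser of the first base point is spanned by the rest. -/
theorem mem_of_fix {W : Subgroup P} [Finite W] {b : α} {L : List P} {C : List (α × List P)}
    (h : Ok π ((b, L) :: C)) (hW : ∀ e ∈ (b, L) :: C, ∀ u ∈ e.2, u ∈ W)
    (hc : Nat.card W ≤ size ((b, L) :: C)) (h1 : (1 : P) ∈ L) {V : Subgroup P}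
    (hV : ∀ e ∈ C, ∀ u ∈ e.2, u ∈ V) {g : P} (hg : g ∈ W) (hb : mv π g b = b) : g ∈ V := by
  obtain ⟨i, rfl⟩ := exists_elt h hW hc hg
  obtain ⟨hn, hf, hC⟩ := h
  change mv π (elt C i.1 * L.get i.2) b = b at hb
  rw [mv_mul, elt_fix C hf i.1] at hb
  obtain ⟨k, hk⟩ := List.get_of_mem h1
  have h2 : i.2 = k := by
    apply Fin.ext
    refine (hn.getElem_inj_iff (hi := by simp) (hj := by simp)).mp ?_
    have hk' : L[(k : ℕ)] = 1 := hk
    simpa [hk', mv_one] using hb
  show elt C i.1 * L.get i.2 ∈ V
  rw [h2, hk, mul_one]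
  exact elt_mem C hV _

end

section Upper

variable {P α : Type*} [Group P] [Finite P]

/-- A set with `1` closed under right multiplication by some elements contains their closure. -/
theorem closure_subset {S : Set P} {V : Set P} (h1 : (1 : P) ∈ S)
    (hV : ∀ s ∈ S, ∀ v ∈ V, s * v ∈ S) : ∀ g ∈ Subgroup.closure V, g ∈ S := by
  suffices key : ∀ g ∈ Subgroup.closure V, ∀ s ∈ S, s * g ∈ S by
    intro g hg; simpa using key g hg 1 h1
  intro g hg
  induction hg using Subgroup.closure_induction'' with
  | mem v hv => exact fun s hs => hV s hs v hv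
  | inv_mem v hv =>
    intro s hs
    have hp : ∀ n : ℕ, ∀ s ∈ S, s * v ^ n ∈ S := fun n => by
      induction n with
      | zero => intro s hs; simpa using hs
      | succ n ih => intro s hs; rw [pow_succ, ← mul_assoc]; exact hV _ (ih s hs) v hv
    obtain ⟨n, hn, e⟩ := (isOfFinOrder_of_finite v).exists_pow_eq_one
    have : v⁻¹ = v ^ (n - 1) := by
      refine inv_eq_of_mul_eq_one_right ?_
      rw [← pow_succ', Nat.sub_add_cancel hn, e]
    rw [this]
    exact hp _ s hs
  | one => intro s hs; simpa using hs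
  | mul a b _ _ ha hb => intro s hs; rw [← mul_assoc]; exact hb _ (ha s hs)

/-- One level of an enumeration: `T` is the span of the deeper level. -/
theorem level_closed {T : Subgroup P} {b : α} {L : List P} {C : List (α × List P)} {V : Set P}
    (h1 : (1 : P) ∈ L) (hT : ∀ g, g ∈ T ↔ ∃ i : Idx C, elt C i = g)
    (hCV : ∀ e ∈ C, ∀ u ∈ e.2, u ∈ Subgroup.closure V) (hLV : ∀ u ∈ L, u ∈ Subgroup.closure V)
    (hstep : ∀ u ∈ L, ∀ v ∈ V, ∃ i : Idx C, ∃ u' ∈ L, u * v = elt C i * u') :
    ∀ g, g ∈ Subgroup.closure V ↔ ∃ i : Idx ((b, L) :: C), elt ((b, L) :: C) i = g := by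
  intro g
  constructor
  · revert g
    refine closure_subset (S := {g | ∃ i, elt ((b, L) :: C) i = g}) ?_ ?_
    · obtain ⟨k, hk⟩ := List.get_of_mem h1
      obtain ⟨i, hi⟩ := (hT 1).mp T.one_mem
      exact ⟨(i, k), by show elt C i * L.get k = 1; rw [hi, hk, mul_one]⟩
    · rintro _ ⟨⟨i, k⟩, rfl⟩ v hv
      obtain ⟨i', u', hu', e⟩ := hstep _ (List.get_mem L k) v hv
      obtain ⟨k', rfl⟩ := List.get_of_mem hu'
      obtain ⟨i'', hi''⟩ := (hT _).mp (T.mul_mem ((hT _).mpr ⟨i, rfl⟩) ((hT _).mpr ⟨i', rfl⟩))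
      refine ⟨(i'', k'), ?_⟩
      show elt C i'' * L.get k' = elt C i * L.get k * v
      rw [hi'', mul_assoc (elt C i) (L.get k), e, mul_assoc]
  · rintro ⟨i, rfl⟩
    refine elt_mem _ (fun e he u hu => ?_) i
    rcases List.mem_cons.mp he with rfl | he
    exacts [hLV u hu, hCV e he u hu]

omit [Finite P] in
theorem card_le_of_elts {T : Subgroup P} {C : List (α × List P)}
    (hT : ∀ g, g ∈ T ↔ ∃ i : Idx C, elt C i = g) : Nat.card T ≤ size C := by
  rw [← card_idx C]
  refine Nat.card_le_card_of_surjective (fun i => (⟨elt C i, (hT _).mpr ⟨i, rfl⟩⟩ : T)) ?_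
  rintro ⟨g, hg⟩
  obtain ⟨i, rfl⟩ := (hT g).mp hg
  exact ⟨i, rfl⟩

end Upper

end CfsgLib.HNCert
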