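import Cfsg.Agent.HNCert.Calculus
import Cfsg.Agent.HNCert.Data

/-!
The facts are checked.
-/

set_option autoImplicit false
set_option Elab.async false
set_option maxRecDepth 100000

namespace CfsgLib.HNCert

open CfsgLib.CosetEnum

noncomputable section

/-- The derivation. -/
def cert : Cert where
  word := dWord
  repI := dRepI
  repH := dRepH
  repX := dRepX
  kind := dKind
  how := dHow
  fI := dI
  fA := dA
  fK := dK
  fB := dB
  fR := dR
  moves := dMoves

/-- A block of facts checks. -/
def okFact (i : ℕ) : Bool := bif Nat.blt i nF then checkFact cert i else true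

theorem facts0 : allR okFact 6 0 = true := by decide +kernel

theorem facts1 : allR okFact 6 64 = true := by decide +kernel

theorem facts2 : allR okFact 6 128 = true := by decide +kernel

theorem facts3 : allR okFact 6 192 = true := by decide +kernel

theorem cert_ok : ∀ i < nF, checkFact cert i = true := by
  intro i hi
  have h256 : nF ≤ 256 := by decide
  have h : okFact i = true := by
    rcases Nat.lt_or_ge i 64 with h | h
    · exact allR_spec 6 0 facts0 i (Nat.zero_le _) h
    rcases Nat.lt_or_ge i 128 with h' | h'
    · exact allR_spec 6 64 facts1 i h h'
    rcases Nat.lt_or_ge i 192 with h'' | h''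
    · exact allR_spec 6 128 facts2 i h' h''
    · exact allR_spec 6 192 facts3 i h'' (lt_of_lt_of_le hi h256)
  rwa [okFact, show Nat.blt i nF = true from Nat.ble_eq_true_of_le hi, cond_true] at h

end

end CfsgLib.HNCert
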