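import Cfsg.Agent.HNCert.Orders
import Cfsg.Agent.HNCert.ClassData

/-!
The classes of points in the orbits of the stabilisers, and the transport of the stabiliser of a
root along its edge.
-/

set_option autoImplicit false
set_option Elab.async false
set_option maxRecDepth 100000

namespace CfsgLib.HNCert

open CfsgLib.CosetEnum

noncomputable section

/-- The class of a point. -/
def clsAt (j p : ℕ) : ℕ := ext (clsTab j) p

/-- The element on the near side of an edge. -/
def eA (e : ℕ) : P := el (dWord (dA (edgeF e)))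

/-- The element on the far side of an edge. -/
def eB (e : ℕ) : P := el (dWord (dB (edgeF e)))

/-- The word on the near side of an edge. -/
def wA (e : ℕ) : List ℕ := dec (dWord (dA (edgeF e)))

/-- The word on the far side of an edge. -/
def wB (e : ℕ) : List ℕ := dec (dWord (dB (edgeF e)))

/-- The root of a class. -/
def root (e : ℕ) : Fin 1408 := mv pi (eA e)⁻¹ 0

/-- The root of a class as a number. -/
def rootN (e : ℕ) : ℕ := walk (wi (wA e)) 0

theorem root_val (e : ℕ) : (root e).val = rootN e := by
  have h := mv_prodw (wi_lt (dec_lt (dWord (dA (edgeF e))))) (0 : Fin 1408)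
  rw [prodw_wi (dec_lt _)] at h
  exact h

/-- The class of a point is that of its parent, and is invariant. -/
def okCls (j p : ℕ) : Bool :=
  bif Nat.blt p 1408 then
    force (treeAt j p) fun c => force (clsAt j p) fun e => force (Nat.shiftRight c 14) fun d =>
      Nat.blt e nE && (Nat.beq (edgeJ e) j &&
        ((bif Nat.beq d 0 then Nat.beq c e
          else Nat.beq (clsAt j (Nat.land c 2047)) e) &&
          (sGens j).all fun s => Nat.beq (clsAt j (walk (dec s.2) p)) e))
  else true

theorem clsOk0 : allR (okCls 0) 11 0 = true := by decide +kernel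

theorem clsOk1 : allR (okCls 1) 11 0 = true := by decide +kernel

theorem clsOk2 : allR (okCls 2) 11 0 = true := by decide +kernel

theorem clsOk3 : allR (okCls 3) 11 0 = true := by decide +kernel

theorem clsOk4 : allR (okCls 4) 11 0 = true := by decide +kernel

theorem clsOk5 : allR (okCls 5) 11 0 = true := by decide +kernel

theorem clsOk6 : allR (okCls 6) 11 0 = true := by decide +kernel

theorem clsOk7 : allR (okCls 7) 11 0 = true := by decide +kernel

theorem clsOk8 : allR (okCls 8) 11 0 = true := by decide +kernel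

theorem cls_ok {j : ℕ} (hj : j < 9) (p : Fin 1408) :
    clsAt j p < nE ∧ edgeJ (clsAt j p) = j ∧
      (Nat.shiftRight (treeAt j p) 14 = 0 → treeAt j p = clsAt j p) ∧
      (Nat.shiftRight (treeAt j p) 14 ≠ 0 → clsAt j (Nat.land (treeAt j p) 2047) = clsAt j p) ∧
      ∀ s ∈ sGens j, clsAt j (walk (dec s.2) p) = clsAt j p := by
  have hall : allR (okCls j) 11 0 = true := by
    interval_cases j
    exacts [clsOk0, clsOk1, clsOk2, clsOk3, clsOk4, clsOk5, clsOk6, clsOk7, clsOk8]
  have h := allR_spec 11 0 hall p (Nat.zero_le _) (by omega)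
  rw [okCls, show Nat.blt (p : ℕ) 1408 = true from Nat.ble_eq_true_of_le p.isLt, cond_true,
    force_eq, force_eq, force_eq, Bool.and_eq_true, Bool.and_eq_true, Bool.and_eq_true] at h
  obtain ⟨he, hj', hd, hinv⟩ := h
  refine ⟨Nat.le_of_ble_eq_true he, Nat.eq_of_beq_eq_true hj', ?_, ?_,
    fun s hs => Nat.eq_of_beq_eq_true (List.all_eq_true.mp hinv s hs)⟩
  · intro h0
    rw [h0, show Nat.beq 0 0 = true from rfl, cond_true] at hd
    exact Nat.eq_of_beq_eq_true hd
  · intro h0
    cases hb : Nat.beq (Nat.shiftRight (treeAt j p) 14) 0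
    · rw [hb, cond_false] at hd
      exact Nat.eq_of_beq_eq_true hd
    · exact absurd (Nat.eq_of_beq_eq_true hb) h0

theorem cls_inv {j : ℕ} (hj : j < 9) {m : P} (hm : m ∈ M j) :
    ∀ p : Fin 1408, clsAt j (mv pi m p).val = clsAt j p := by
  induction hm using Subgroup.closure_induction'' with
  | mem s hs =>
    obtain ⟨e, he, rfl⟩ := hs
    intro p
    rw [mv_el]
    exact (cls_ok hj p).2.2.2.2 e he
  | inv_mem s hs =>
    obtain ⟨e, he, rfl⟩ := hs
    intro p
    have h := (cls_ok hj (mv pi (el e.2)⁻¹ p)).2.2.2.2 e he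
    rw [← mv_el, ← mv_mul, inv_mul_cancel, mv_one] at h
    exact h.symm
  | one => intro p; rw [mv_one]
  | mul a b _ _ ha hb => intro p; rw [mv_mul, hb, ha]

theorem carry {j : ℕ} (hj : j < 9) (p : Fin 1408) :
    ∃ U ∈ M j, mv pi U (root (clsAt j p)) = p := by
  suffices key : ∀ d, ∀ p : Fin 1408, Nat.shiftRight (treeAt j p) 14 = d →
      ∃ U ∈ M j, mv pi U (root (clsAt j p)) = p from key _ p rfl
  intro d
  induction d using Nat.strong_induction_on with
  | _ d ih =>
    intro p hd
    have hok := allR_spec 11 0 (tree_ok j hj) p (Nat.zero_le _) (by omega)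
    rw [okTree, show Nat.blt (p : ℕ) 1408 = true from Nat.ble_eq_true_of_le p.isLt, cond_true,
      force_eq, force_eq, hd] at hok
    cases h0 : Nat.beq d 0
    · simp only [h0, cond_false, force_eq, Bool.and_eq_true, Nat.blt_eq] at hok
      obtain ⟨hu, hs, hw, hlt⟩ := hok
      rw [List.getD_eq_getElem _ _ hs] at hw
      obtain ⟨U, hU, hUu⟩ := ih _ hlt ⟨_, hu⟩ rfl
      have hne : Nat.shiftRight (treeAt j p) 14 ≠ 0 := by
        rw [hd]; intro e; rw [e] at h0; exact absurd h0 (by decide)
      have hc := (cls_ok hj p).2.2.2.1 hne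
      refine ⟨U * el ((sGens j)[Nat.land (Nat.shiftRight (treeAt j p) 11) 7]).2,
        mul_mem hU (el_gen_mem (List.getElem_mem hs)), Fin.ext ?_⟩
      rw [← hc, mv_mul, hUu, mv_el]
      exact Nat.eq_of_beq_eq_true hw
    · simp only [h0, cond_true, Bool.and_eq_true, Nat.blt_eq] at hok
      obtain ⟨he, -, hw⟩ := hok
      have hz : Nat.shiftRight (treeAt j p) 14 = 0 := hd.trans (Nat.eq_of_beq_eq_true h0)
      refine ⟨1, one_mem _, Fin.ext ?_⟩
      rw [mv_one, root_val, rootN, ← (cls_ok hj p).2.2.1 hz]
      exact Nat.eq_of_beq_eq_true hw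

/-- The stabiliser of the root of a class. -/
def StE (e : ℕ) : Subgroup P :=
  M (edgeJ e) ⊓ (MulAction.stabilizer (Equiv.Perm (Fin 1408)) (root e)).comap pi

theorem mem_StE {e : ℕ} {c : P} : c ∈ StE e ↔ c ∈ M (edgeJ e) ∧ mv pi c (root e) = root e := by
  rw [StE, Subgroup.mem_inf]
  refine and_congr_right fun _ => ?_
  show pi c (root e) = root e ↔ (pi c)⁻¹ (root e) = root e
  rw [Equiv.Perm.inv_eq_iff_eq]
  exact eq_comm

/-- A word in the generators of the stabiliser of a root. -/
def cWord (e : ℕ) (w : List ℕ) : List ℕ := vWord (cGens e) w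

/-- The number of points in a class, counted. -/
def okCnt (e : ℕ) : Bool :=
  Nat.beq (((List.range 1408).filter fun p => Nat.beq (clsAt (edgeJ e) p) e).length) (classCnt e)

theorem cnt_ok0 : ∀ e < 50, okCnt e = true := by decide +kernel

theorem cnt_ok1 : ∀ e < nE, 50 ≤ e → okCnt e = true := by decide +kernel

/-- Lists of base points and transversals as numbers. -/
def okLv (e : ℕ) : List ℕ → List (List (List ℕ)) → Bool
  | [], [] => true
  | b :: bs, L :: D =>
    L.all (fun u => u.all fun i => Nat.blt i (cGens e).length) &&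
      (distinct (L.map fun u => walk (cWord e u) b) 0 &&
        ((D.all fun L' => L'.all fun u => Nat.beq (walk (cWord e u) b) b) && okLv e bs D))
  | _, _ => false

/-- The check of a class. -/
def okE (e : ℕ) : Bool :=
  Nat.blt (edgeJ e) 9 && (Nat.blt (edgeK e) 9 &&
    (decide ((cMem e).length = (cGens e).length) && (decide ((cConj e).length = (cGens e).length) &&
      (((List.range (cGens e).length).all fun i =>
          Nat.beq (walk (dec ((cGens e).getD i 0)) (rootN e)) (rootN e) &&
          (((cMem e).getD i []).all (fun k => Nat.blt k (sGens (edgeJ e)).length) &&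
            (same (dec ((cGens e).getD i 0)) (genWord (edgeJ e) ((cMem e).getD i [])) &&
              (((cConj e).getD i []).all (fun k => Nat.blt k (sGens (edgeK e)).length) &&
                same (genWord (edgeK e) ((cConj e).getD i []))
                  (wB e ++ wi (wA e) ++ dec ((cGens e).getD i 0) ++ wA e ++ wi (wB e)))))) &&
        (okLv e [0, 4, 7, 9, 10, 8] (cChain e) &&
          Nat.beq (sSize (edgeJ e) * (classCnt e * ((cChain e).map List.length).prod))
            177408000)))))

theorem e_ok0 : ∀ e < 25, okE e = true := by decide +kernel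

theorem e_ok1 : ∀ e < 50, 25 ≤ e → okE e = true := by decide +kernel

theorem e_ok2 : ∀ e < 75, 50 ≤ e → okE e = true := by decide +kernel

theorem e_ok3 : ∀ e < nE, 75 ≤ e → okE e = true := by decide +kernel

theorem e_ok {e : ℕ} (he : e < nE) : okE e = true := by
  rcases Nat.lt_or_ge e 25 with h | h
  · exact e_ok0 e h
  rcases Nat.lt_or_ge e 50 with h' | h'
  · exact e_ok1 e h' h
  rcases Nat.lt_or_ge e 75 with h'' | h''
  · exact e_ok2 e h'' h'
  · exact e_ok3 e he h''

theorem cGen_spec (hB : Bound) {e : ℕ} (he : e < nE) {c : ℕ} (hc : c ∈ cGens e) :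
    el c ∈ StE e ∧ eB e * (eA e)⁻¹ * el c * eA e * (eB e)⁻¹ ∈ M (edgeK e) := by
  have h := e_ok he
  simp only [okE, Bool.and_eq_true, decide_eq_true_eq, List.all_eq_true, List.mem_range,
    Nat.blt_eq] at h
  obtain ⟨hj, hk, -, -, hgen, -, -⟩ := h
  obtain ⟨i, hi, rfl⟩ := List.getElem_of_mem hc
  obtain ⟨hfix, hm1, hm2, hc1, hc2⟩ := hgen i hi
  rw [List.getD_eq_getElem _ _ hi] at hfix hm2 hc2
  refine ⟨mem_StE.mpr ⟨?_, Fin.ext ?_⟩, ?_⟩
  · rw [el, eq_of_same hB (dec_lt _) (genWord_lt _ _) hm2]
    exact genWord_memM _ _ hm1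
  · rw [mv_el, root_val]
    exact Nat.eq_of_beq_eq_true hfix
  · have hA : ∀ x ∈ wA e, x < 5 := dec_lt _
    have hBw : ∀ x ∈ wB e, x < 5 := dec_lt _
    have e' := eq_of_same hB (genWord_lt _ _)
      (app_lt (app_lt (app_lt (app_lt hBw (wi_lt hA)) (dec_lt _)) hA) (wi_lt hBw)) hc2
    rw [prodw_append, prodw_append, prodw_append, prodw_append, prodw_wi hA, prodw_wi hBw] at e'
    have := genWord_memM (edgeK e) _ hc1
    rw [e'] at this
    exact this

theorem cWord_mem (e : ℕ) (w : List ℕ) (hw : ∀ i ∈ w, i < (cGens e).length) :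
    prodw pg (cWord e w) ∈ Subgroup.closure (el '' {c | c ∈ cGens e}) :=
  vWord_mem _ w hw

theorem StE_eq (hB : Bound) {e : ℕ} (he : e < nE) :
    StE e = Subgroup.closure (el '' {c | c ∈ cGens e}) := by
  classical
  have := hB.1
  have h := e_ok he
  simp only [okE, Bool.and_eq_true, Nat.blt_eq] at h
  obtain ⟨hj, hk, -, -, -, hlv, hnum⟩ := h
  have hnum' := Nat.eq_of_beq_eq_true hnum
  set C := Subgroup.closure (el '' {c | c ∈ cGens e}) with hC
  have hle : C ≤ StE e := by
    rw [hC, Subgroup.closure_le]
    rintro _ ⟨c, hc, rfl⟩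
    exact (cGen_spec hB he hc).1
  have key : ∀ (bs : List ℕ) (D : List (List (List ℕ))), okLv e bs D = true →
      (∀ b ∈ bs, b < 1408) → ∃ K : List (Fin 1408 × List P), Ok pi K ∧
        (∀ x ∈ K, ∀ u ∈ x.2, u ∈ C) ∧ size K = (D.map List.length).prod ∧
        ∀ b : Fin 1408, (D.all fun L' => L'.all fun u => Nat.beq (walk (cWord e u) b) b) = true →
          ∀ x ∈ K, ∀ u ∈ x.2, mv pi u b = b := by
    intro bs
    induction bs with
    | nil =>
      intro D hD _
      cases D with
      | nil => exact ⟨[], trivial, by simp, rfl, by simp⟩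
      | cons _ _ => simp [okLv] at hD
    | cons b bs ih =>
      intro D hD hb
      cases D with
      | nil => simp [okLv] at hD
      | cons L D =>
        simp only [okLv, Bool.and_eq_true] at hD
        obtain ⟨hi, hn', hf, hD⟩ := hD
        have hn := (distinct_spec _ _ hn').1
        obtain ⟨K, h1, h2, h3, h4⟩ := ih D hD fun x hx => hb x (List.mem_cons_of_mem _ hx)
        have hb' := hb b List.mem_cons_self
        refine ⟨(pt b, L.map fun u => prodw pg (cWord e u)) :: K, ⟨?_, ?_, h1⟩, ?_, ?_, ?_⟩
        · refine List.Nodup.of_map (fun i : Fin 1408 => i.val) ?_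
          rw [List.map_map, List.map_map]
          convert hn using 2
          funext u
          show (mv pi (prodw pg (cWord e u)) (pt b)).val = _
          rw [cWord, mv_prodw (vWord_lt _ _), pt_val hb']
        · refine h4 (pt b) ?_
          rw [pt_val hb']
          exact hf
        · intro x hx u hu
          rcases List.mem_cons.mp hx with rfl | hx
          · obtain ⟨u', hu', rfl⟩ := List.mem_map.mp hu
            exact cWord_mem e u' fun i hi' => by
              simpa using List.all_eq_true.mp (List.all_eq_true.mp hi u' hu') i hi'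
          · exact h2 x hx u hu
        · show size K * (L.map _).length = _
          rw [h3, List.length_map, List.map_cons, List.prod_cons, mul_comm]
        · intro q hq x hx u hu
          rw [List.all_cons, Bool.and_eq_true] at hq
          rcases List.mem_cons.mp hx with rfl | hx
          · obtain ⟨u', hu', rfl⟩ := List.mem_map.mp hu
            refine Fin.ext ?_
            rw [cWord, mv_prodw (vWord_lt _ _)]
            exact Nat.eq_of_beq_eq_true (List.all_eq_true.mp hq.1 u' hu')
          · exact h4 q hq.2 x hx u hu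
  obtain ⟨K, h1, h2, h3, -⟩ := key _ _ hlv (by decide)
  have hlow : ((cChain e).map List.length).prod ≤ Nat.card C := h3 ▸ size_le h1 h2
  -- the orbit of the root is at least as long as its class
  have hcnt : okCnt e = true := by
    rcases Nat.lt_or_ge e 50 with h | h
    exacts [cnt_ok0 e h, cnt_ok1 e he h]
  set S := ((List.range 1408).filter fun p => Nat.beq (clsAt (edgeJ e) p) e) with hS
  have hSlt : ∀ i : Fin S.length, S[i] < 1408 := fun i => by
    have := List.getElem_mem i.isLt
    rw [List.mem_filter, List.mem_range] at this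
    exact this.1
  have hU : ∀ i : Fin S.length, ∃ U ∈ M (edgeJ e), mv pi U (root e) = ⟨S[i], hSlt i⟩ := fun i => by
    obtain ⟨U, hU, hUp⟩ := carry hj ⟨S[i], hSlt i⟩
    have := List.getElem_mem i.isLt
    rw [List.mem_filter] at this
    change mv pi U (root (clsAt (edgeJ e) (S[(i : ℕ)]))) = _ at hUp
    rw [Nat.eq_of_beq_eq_true this.2] at hUp
    exact ⟨U, hU, hUp⟩
  choose U hUM hUp using hU
  have hnd : S.Nodup := List.nodup_range.filter _
  let f : Fin S.length × StE e → M (edgeJ e) := fun x =>
    ⟨x.2.1 * U x.1, mul_mem (mem_StE.mp x.2.2).1 (hUM x.1)⟩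
  have hf : Function.Injective f := by
    rintro ⟨i, c⟩ ⟨k, d⟩ hh
    have hv : (c.1 : P) * U i = d.1 * U k := congrArg Subtype.val hh
    have hp := congrArg (fun m => (mv pi m (root e)).val) hv
    simp only [mv_mul, (mem_StE.mp c.2).2, (mem_StE.mp d.2).2, hUp] at hp
    obtain rfl : i = k := Fin.ext (hnd.getElem_inj_iff.mp hp)
    obtain rfl : c = d := Subtype.ext (mul_right_cancel hv)
    rfl
  have hup : classCnt e * Nat.card (StE e) ≤ Nat.card (M (edgeJ e)) := by
    have := Nat.card_le_card_of_injective f hf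
    rw [Nat.card_prod, Nat.card_fin, show S.length = classCnt e from Nat.eq_of_beq_eq_true hcnt]
      at this
    exact this
  refine (Subgroup.eq_of_le_of_card_ge hle ?_).symm
  have hcard : Nat.card (M (edgeJ e)) = classCnt e * ((cChain e).map List.length).prod :=
    Nat.eq_of_mul_eq_mul_left (Nat.pos_of_ne_zero fun h0 => by rw [h0, zero_mul] at hnum'; omega)
      ((card_M hB hj).trans hnum'.symm)
  rw [hcard] at hup
  have hpos : 0 < classCnt e := Nat.pos_of_ne_zero fun h0 => by
    rw [h0, zero_mul, mul_zero] at hnum'; omega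
  exact (Nat.le_of_mul_le_mul_left hup hpos).trans hlow

theorem conj_StE (hB : Bound) {e : ℕ} (he : e < nE) {c : P} (hc : c ∈ StE e) :
    eB e * (eA e)⁻¹ * c * eA e * (eB e)⁻¹ ∈ M (edgeK e) := by
  rw [StE_eq hB he] at hc
  induction hc using Subgroup.closure_induction with
  | mem c hc => obtain ⟨c, hc, rfl⟩ := hc; exact (cGen_spec hB he hc).2
  | one => simp [one_mem]
  | mul a b _ _ ha hb => simpa [mul_assoc] using mul_mem ha hb
  | inv a _ ha => simpa [mul_assoc] using inv_mem ha

end

end CfsgLib.HNCert
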