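import Cfsg.Agent.HNCert.Setup
import Cfsg.Agent.HNCert.BoundACheck
import Cfsg.Agent.HNCert.BoundBCheck
import Cfsg.Agent.HNCert.BoundCCheck
import Cfsg.Agent.HNCert.BoundDCheck

/-!
A group generated by `x, y, z` satisfying the relations of `HS:2` has order at most
`352 * 2100 * 120`.  The subgroup `⟨y, x y³ x⟩` has order at most 120, and embeds in the action on 50
points, so three words that lie in it and act trivially are trivial; with the relations in `z`
these give the relation `[x, y⁻²xyxyxy⁻²] = 1`.
-/

set_option autoImplicit false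
set_option Elab.async false
set_option maxRecDepth 100000
set_option linter.constructorNameAsVariable false

namespace CfsgLib.HNCert

open CfsgLib.CosetEnum CfsgLib.MTwelveUnique

noncomputable section

variable {G : Type*} [Group G]

/-- The six letters evaluated at `x, y, z`. -/
def lv (x y z : G) : ℕ → G
  | 0 => x
  | 1 => x⁻¹
  | 2 => y
  | 3 => y⁻¹
  | 4 => z
  | 5 => z⁻¹
  | _ => 1

theorem lv_iv (x y z : G) : ∀ a, a < 12 → lv x y z (Nat.xor a 1) = (lv x y z a)⁻¹ := by
  intro a ha
  interval_cases a <;> first | exact (inv_inv _).symm | exact inv_one.symm | rfl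

theorem lv_one (x y z : G) : lv x y z 12 = 1 := rfl

theorem map_lv {L : Type*} [Group L] (χ : G →* L) (x y z : G) (a : ℕ) :
    χ (lv x y z a) = lv (χ x) (χ y) (χ z) a := by
  match a with
  | 0 | 2 | 4 => rfl
  | 1 | 3 | 5 => exact map_inv χ _
  | _ + 6 => exact map_one χ

theorem prodw_rotate (v : ℕ → G) (n : ℕ) {w : List ℕ} (h : prodw v w = 1) :
    prodw v (w.drop n ++ w.take n) = 1 := by
  rw [← List.take_append_drop n w, prodw_append] at h
  rw [prodw_append, eq_inv_of_mul_eq_one_left h]
  exact mul_inv_cancel _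

/-- The involution in the small subgroup. -/
def tv (x y : G) : G := prodw (lv x y 1) tWord

/-- The small subgroup. -/
def smallH (x y : G) : Subgroup G := Subgroup.closure {y, tv x y}

/-- Its elements. -/
def hElem (x y : G) (i : ℕ) : G := prodw (lv (tv x y) y 1) (hWords.getD i [])

theorem relH_hold {x y : G} (h : ∀ w ∈ relK, prodw (lv x y 1) w = 1) :
    ∀ w ∈ relH, prodw (lv (tv x y) y 1) w = 1 := by
  have hx : x * x = 1 := by simpa [prodw, lv] using h [0, 0] (by simp [relK])
  have hy : prodw (lv x y 1) [2, 2, 2, 2, 2, 2] = 1 := h _ (by simp [relK])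
  have hy6 : y * (y * (y * (y * (y * y)))) = 1 := by simpa [prodw, lv] using hy
  have h3 := prodw_rotate (lv x y 1) 3
    (h [0, 2, 2, 0, 2, 2, 2, 0, 2, 2, 0, 2, 2, 2, 0, 2, 2, 0, 2, 2, 2] (by simp [relK]))
  have h5 := prodw_rotate (lv x y 1) 2
    (h [0, 2, 0, 2, 2, 2, 0, 2, 0, 2, 2, 2, 0, 2, 0, 2, 2, 2, 0, 2, 0, 2, 2, 2] (by simp [relK]))
  intro w hw
  simp only [relH, List.mem_cons, List.not_mem_nil, or_false] at hw
  rcases hw with rfl | rfl | rfl | rfl
  · simp only [prodw, tv, tWord, lv, List.map_cons, List.map_nil, List.prod_cons, List.prod_nil,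
      mul_one, mul_assoc]
    have hy7 : ∀ u : G, y * (y * (y * (y * (y * (y * u))))) = u := fun u => by
      simpa [mul_assoc] using congrArg (· * u) hy6
    rw [← mul_assoc x x, hx, one_mul, hy7, hx]
  · simpa [prodw, lv] using hy
  · simpa [prodw, tv, tWord, lv, mul_assoc] using h5
  · simpa [prodw, tv, tWord, lv, mul_assoc] using h3

/-- The words of the elements follow the tree. -/
def hWordsOK (i : ℕ) : Bool :=
  bif Nat.beq i 0 then (hWords.getD 0 [0]).isEmpty else
    Nat.blt (ext certAParN i) i &&
      hWords.getD i [] == hWords.getD (ext certAParN i) [] ++ [ext certAParX i]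

theorem hWords_ok : ∀ i < 120, hWordsOK i = true := by decide +kernel

theorem crOf_hWords (g : ℕ → G) : ∀ i, i < 120 →
    crOf g certAParN certAParX i = prodw g (hWords.getD i []) := by
  intro i
  induction i using Nat.strong_induction_on with
  | _ i ih =>
    intro hi
    have h := hWords_ok i hi
    rcases Nat.eq_zero_or_pos i with rfl | hpos
    · rw [crOf_zero]
      rfl
    · simp only [hWordsOK, show Nat.beq i 0 = false by
        cases hb : Nat.beq i 0
        · rfl
        · exact absurd (Nat.eq_of_beq_eq_true hb) (by omega), cond_false, Bool.and_eq_true,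
        Nat.blt_eq, beq_iff_eq] at h
      rw [crOf_step g _ _ i h.1, ih _ h.1 (by omega), h.2, prodw_append]
      simp [prodw]

theorem smallH_rep {x y : G} (h : ∀ w ∈ relK, prodw (lv x y 1) w = 1) :
    ∀ u ∈ smallH x y, ∃ i < 120, u = hElem x y i := by
  have hiv := lv_iv (tv x y) y 1
  have hrel := relH_hold h
  have hid : ∀ j < 120, ext certAL j = j := by decide +kernel
  have edge : ∀ {l tb : ℕ} {A : List ℕ}, edgesOK certAF certALim certAL tb 120 l A 0 = true →
      A.length = 120 → ∀ i < 120, ∃ j < 120,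
        hElem x y i * lv (tv x y) y 1 l * (hElem x y j)⁻¹ ∈ (⊥ : Subgroup G) := by
    intro l tb A hA hlen i hi
    obtain ⟨hj, S, hS⟩ := edge_of_edgesOK hA i (Nat.zero_le i) (by omega)
    refine ⟨_, hj, ?_⟩
    rw [certA_lim] at hS
    have := Cert.mem_of_reads (C := certA) (g := lv (tv x y) y 1) (H := (⊥ : Subgroup G)) hiv rfl
      hrel (W := []) (fun w hw => absurd hw List.not_mem_nil) certA_ok (reads_of_readsAt hS)
    rw [hid i hi, hid _ hj] at this
    rw [show certA.parN = certAParN from rfl, show certA.parX = certAParX from rfl,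
      crOf_hWords _ _ hi, crOf_hWords _ _ hj] at this
    simpa [hElem, prodw] using this
  intro u hu
  obtain ⟨j, hj, huj⟩ := exists_rep (H := (⊥ : Subgroup G)) (n := 120) (by norm_num)
    (cr := hElem x y) (by rfl) (gens := {y, tv x y}) (fun i hi a ha => by
      rcases ha with rfl | rfl
      · exact ⟨edge certA_edges2 certA_paths2 i hi, edge certA_edges3 certA_paths3 i hi⟩
      · exact ⟨edge certA_edges0 certA_paths0 i hi, edge certA_edges1 certA_paths1 i hi⟩) u hu
  exact ⟨j, hj, by simpa [mul_inv_eq_one] using huj⟩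

theorem smallH_card {x y : G} (h : ∀ w ∈ relK, prodw (lv x y 1) w = 1) :
    Finite (smallH x y) ∧ Nat.card (smallH x y) ≤ 120 := by
  have := card_le_of_rep (H := (⊥ : Subgroup G)) (K := smallH x y) (n := 120) (cr := hElem x y)
    (fun u hu => by
      obtain ⟨j, hj, rfl⟩ := smallH_rep h u hu
      exact ⟨j, hj, by simp⟩)
  simpa using this

/-- A table as a map of 50 points. -/
def sigF (k : ℕ) (i : Fin 50) : Fin 50 :=
  ⟨(sigTab.getD k []).getD i.val 0 % 50, Nat.mod_lt _ (by norm_num)⟩

/-- The image of `x` on 50 points. -/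
def sigX : Equiv.Perm (Fin 50) :=
  ⟨sigF 0, sigF 1, by unfold Function.LeftInverse; decide +kernel,
    by unfold Function.RightInverse Function.LeftInverse; decide +kernel⟩

/-- The image of `y` on 50 points. -/
def sigY : Equiv.Perm (Fin 50) :=
  ⟨sigF 2, sigF 3, by unfold Function.LeftInverse; decide +kernel,
    by unfold Function.RightInverse Function.LeftInverse; decide +kernel⟩

theorem sig_rels : ∀ w ∈ relK, prodw (lv sigX sigY 1) w = 1 := by decide +kernel

theorem sig_goals : ∀ w ∈ goalB, prodw (lv sigX sigY 1) w = 1 := by decide +kernel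

theorem sig_faithful : ∀ i < 120, prodw (lv (tv sigX sigY) sigY 1) (hWords.getD i []) = 1 → i = 0 := by
  decide +kernel

theorem subH_eq : subH = [[2], tWord] := by decide +kernel

/-- The words of the second certificate are trivial. -/
theorem goalB_eq_one {x y : G} (h : ∀ w ∈ relK, prodw (lv x y 1) w = 1) :
    ∀ w ∈ goalB, prodw (lv x y 1) w = 1 := by
  let X' : G × Equiv.Perm (Fin 50) := (x, sigX)
  let Y' : G × Equiv.Perm (Fin 50) := (y, sigY)
  have hfst : ∀ w, (prodw (lv X' Y' 1) w).1 = prodw (lv x y 1) w := by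
    intro w
    show MonoidHom.fst G (Equiv.Perm (Fin 50)) _ = _
    rw [map_prodw]
    exact prodw_congr fun a _ => map_lv _ _ _ _ a
  have hsnd : ∀ w, (prodw (lv X' Y' 1) w).2 = prodw (lv sigX sigY 1) w := by
    intro w
    show MonoidHom.snd G (Equiv.Perm (Fin 50)) _ = _
    rw [map_prodw]
    exact prodw_congr fun a _ => map_lv _ _ _ _ a
  have hrel : ∀ w ∈ relK, prodw (lv X' Y' 1) w = 1 := fun w hw =>
    Prod.ext (by rw [hfst, h w hw]; rfl) (by rw [hsnd, sig_rels w hw]; rfl)
  intro w hw
  obtain ⟨S, hS⟩ := readsAt_of_goalsOK certB_goals w hw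
  rw [certB_lim] at hS
  have hmem : prodw (lv X' Y' 1) w ∈ smallH X' Y' := by
    refine Cert.prodw_mem (C := certB) (R := relK) (W := subH) (lv_iv X' Y' 1) rfl hrel ?_ certB_ok
      (reads_of_readsAt hS)
    intro v hv
    rw [subH_eq, List.mem_cons, List.mem_singleton] at hv
    rcases hv with rfl | rfl
    · exact Subgroup.subset_closure (Or.inl (by simp [prodw, lv]))
    · exact Subgroup.subset_closure (Or.inr rfl)
  obtain ⟨i, hi, he⟩ := smallH_rep hrel _ hmem
  have h2 : prodw (lv (tv sigX sigY) sigY 1) (hWords.getD i []) = 1 := by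
    have h3 := congrArg Prod.snd he
    rw [hsnd, sig_goals w hw] at h3
    refine Eq.trans ?_ h3.symm
    symm
    show MonoidHom.snd G (Equiv.Perm (Fin 50)) (hElem X' Y' i) = _
    rw [hElem, map_prodw]
    refine prodw_congr fun a _ => ?_
    rw [map_lv]
    congr 1
  obtain rfl := sig_faithful i hi h2
  rw [← hfst, he]
  rfl

theorem goalB_eq : goalB =
    [rSeven ++ (List.replicate 7 (0 :: qWord)).flatten,
      yWord ++ rSeven ++ ((yWord.map fun a => Nat.xor a 1).reverse) ++
        ((rSeven.map fun a => Nat.xor a 1).reverse),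
      rSeven ++ rSeven ++ rSeven] := by decide +kernel

theorem relZ_eq : relZ =
    [[4, 4], [4, 0, 4, 0], [4, 2, 0, 3, 3, 0, 3, 0, 3, 4] ++ [2, 0, 2, 0, 2, 2, 0, 3],
      4 :: (List.replicate 3 ([3, 0, 3, 0, 3, 3, 3, 4] ++ yWord ++ [0])).flatten] := by decide +kernel

/-- The relation `[x, y⁻²xyxyxy⁻²] = 1`. -/
theorem rSeven_eq_one {x y z : G} (hK : ∀ w ∈ relK, prodw (lv x y 1) w = 1)
    (hZ : ∀ w ∈ relZ, prodw (lv x y z) w = 1) : prodw (lv x y 1) rSeven = 1 := by
  have hG := goalB_eq_one hK
  rw [goalB_eq] at hG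
  have hinv : ∀ w, (∀ a ∈ w, a < 12) → prodw (lv x y 1) ((w.map fun a => Nat.xor a 1).reverse) =
      (prodw (lv x y 1) w)⁻¹ := fun w hw =>
    prodw_rev_iv (lv x y 1) 12 (fun a => Nat.xor a 1) (fun a ha _ => lv_iv x y 1 a ha) w
      (fun a ha => ⟨hw a ha, by have := hw a ha; interval_cases a <;> decide⟩)
  set r := prodw (lv x y 1) rSeven with hr
  set q := prodw (lv x y 1) qWord with hq
  set v := prodw (lv x y 1) yWord with hv
  have hW : r * (x * q) ^ 7 = 1 := by
    have := hG _ List.mem_cons_self
    simpa [prodw_append, prodw_cons, List.replicate, pow_succ, mul_assoc, lv, ← hr, ← hq] using this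
  have hvr : v * r * v⁻¹ * r⁻¹ = 1 := by
    have := hG _ (List.mem_cons_of_mem _ List.mem_cons_self)
    rw [prodw_append, prodw_append, prodw_append, hinv yWord (by decide +kernel),
      hinv rSeven (by decide +kernel)] at this
    exact this
  have hr3 : r * r * r = 1 := by
    have := hG _ (List.mem_cons_of_mem _ (List.mem_cons_of_mem _ List.mem_cons_self))
    rwa [prodw_append, prodw_append] at this
  rw [relZ_eq] at hZ
  have hxx : x * x = 1 := by simpa [prodw, lv] using hK [0, 0] (by simp [relK])
  have hxinv : x⁻¹ = x := inv_eq_of_mul_eq_one_right hxx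
  have hzz : z * z = 1 := by simpa [prodw, lv] using hZ _ List.mem_cons_self
  have hzinv : z⁻¹ = z := inv_eq_of_mul_eq_one_right hzz
  have hzx : Commute z x := by
    have h := hZ _ (List.mem_cons_of_mem _ List.mem_cons_self)
    simp only [prodw, lv, List.map_cons, List.map_nil, List.prod_cons, List.prod_nil, mul_one] at h
    show z * x = x * z
    calc z * x = (z * x)⁻¹ := by
          refine (inv_eq_of_mul_eq_one_right ?_).symm
          rwa [mul_assoc]
      _ = x * z := by rw [mul_inv_rev, hxinv, hzinv]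
  have hzq : Commute z q := by
    have h := hZ _ (List.mem_cons_of_mem _ (List.mem_cons_of_mem _ List.mem_cons_self))
    have e : z * q⁻¹ * z * q = 1 := by
      simpa [hq, qWord, prodw, lv, hxinv, mul_assoc] using h
    show z * q = q * z
    calc z * q = q * (z * z) * q⁻¹ * z * q := by rw [hzz]; group
      _ = q * z * (z * q⁻¹ * z * q) := by group
      _ = q * z := by rw [e, mul_one]
  have hzr : Commute z r := by
    rw [eq_inv_of_mul_eq_one_left hW]
    exact ((hzx.mul_right hzq).pow_right 7).inv_right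
  have hxr : x * r = r⁻¹ * x := by
    have e : r = x * (prodw (lv x y 1) uWord)⁻¹ * x * prodw (lv x y 1) uWord := by
      simp [hr, rSeven, uWord, prodw, lv, hxinv, mul_assoc]
    generalize prodw (lv x y 1) uWord = u at e
    rw [e]
    simp only [mul_inv_rev, inv_inv, hxinv]
    rw [show x * (x * u⁻¹ * x * u) = (x * x) * (u⁻¹ * x * u) by group, hxx, one_mul,
      show u⁻¹ * (x * (u * x)) * x = u⁻¹ * x * u * (x * x) by group, hxx, mul_one]
  have hvr' : Commute v r := by
    show v * r = r * v
    calc v * r = v * r * v⁻¹ * r⁻¹ * (r * v) := by group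
      _ = r * v := by rw [hvr, one_mul]
  set m := v⁻¹ * z * v * x with hm
  have hm3 : z * (m * m * m) = 1 := by
    have h := hZ _ (List.mem_cons_of_mem _
      (List.mem_cons_of_mem _ (List.mem_cons_of_mem _ List.mem_cons_self)))
    simpa [hm, hv, yWord, prodw, lv, hxinv, List.replicate, mul_assoc] using h
  have hmr : SemiconjBy m r r⁻¹ := by
    have h1 : SemiconjBy x r r⁻¹ := hxr
    have h2 : SemiconjBy (v⁻¹ * z * v) r⁻¹ r⁻¹ :=
      (hvr'.inv_left.inv_right.mul_left hzr.inv_right).mul_left hvr'.inv_right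
    exact h2.mul_left h1
  have h3r : SemiconjBy (m * m * m) r r⁻¹ := by
    have hb : SemiconjBy m r⁻¹ r := by simpa using hmr.inv_right
    exact (hmr.mul_left hb).mul_left hmr
  rw [eq_inv_of_mul_eq_one_right hm3] at h3r
  have heq : r⁻¹ * z⁻¹ = r * z⁻¹ := h3r.symm.trans hzr.inv_left
  have hr2 : r⁻¹ = r := mul_right_cancel heq
  calc r = r * (r * r⁻¹) := by rw [mul_inv_cancel, mul_one]
    _ = r * r * r := by rw [hr2, mul_assoc]
    _ = 1 := hr3

theorem rels_C {x y z : G} (hK : ∀ w ∈ relK, prodw (lv x y 1) w = 1)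
    (hZ : ∀ w ∈ relZ, prodw (lv x y z) w = 1) :
    ∀ w ∈ relK ++ [rSeven], prodw (lv x y 1) w = 1 := by
  intro w hw
  rcases List.mem_append.mp hw with h | h
  · exact hK w h
  · rw [List.mem_singleton] at h
    subst h
    exact rSeven_eq_one hK hZ

theorem low_letters : ∀ w ∈ relK ++ [rSeven], ∀ a ∈ w, a < 4 := by decide +kernel

/-- The bound on a group with the relations of `HS:2`. -/
theorem card_hs_le {x y z : G} (hK : ∀ w ∈ relK, prodw (lv x y 1) w = 1)
    (hZ : ∀ w ∈ relZ, prodw (lv x y z) w = 1) (htop : Subgroup.closure {x, y, z} = ⊤) :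
    Finite G ∧ Nat.card G ≤ 88704000 := by
  obtain ⟨hfin, hH⟩ := smallH_card hK
  have hC := rels_C hK hZ
  -- the subgroup generated by `x` and `y`
  have edgeC : ∀ {l tb : ℕ} {A : List ℕ}, edgesOK certCF certCLim certCL tb 2100 l A 0 = true →
      A.length = 2100 → ∀ i < 2100, ∃ j < 2100,
        crOf (lv x y 1) certCParN certCParX (ext certCL i) * lv x y 1 l *
          (crOf (lv x y 1) certCParN certCParX (ext certCL j))⁻¹ ∈ smallH x y := by
    intro l tb A hA hlen i hi
    obtain ⟨hj, S, hS⟩ := edge_of_edgesOK hA i (Nat.zero_le i) (by omega)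
    refine ⟨_, hj, ?_⟩
    rw [certC_lim] at hS
    have := Cert.mem_of_reads (C := certC) (g := lv x y 1) (H := smallH x y) (lv_iv x y 1) rfl hC
      (W := subH) (fun v hv => by
        rw [subH_eq, List.mem_cons, List.mem_singleton] at hv
        rcases hv with rfl | rfl
        · exact Subgroup.subset_closure (Or.inl (by simp [prodw, lv]))
        · exact Subgroup.subset_closure (Or.inr rfl)) certC_ok (reads_of_readsAt hS)
    simpa [prodw, show certC.parN = certCParN from rfl, show certC.parX = certCParX from rfl]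
      using this
  have repC := exists_rep (H := smallH x y) (n := 2100) (by norm_num)
    (cr := fun i => crOf (lv x y 1) certCParN certCParX (ext certCL i))
    (by simp [certC_root, crOf_zero]) (gens := {x, y}) (fun i hi a ha => by
      rcases ha with rfl | rfl
      · exact ⟨edgeC certC_edges0 certC_paths0 i hi, edgeC certC_edges1 certC_paths1 i hi⟩
      · exact ⟨edgeC certC_edges2 certC_paths2 i hi, edgeC certC_edges3 certC_paths3 i hi⟩)
  obtain ⟨hfK, hcK⟩ := card_le_of_rep (H := smallH x y) (K := Subgroup.closure {x, y}) repC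
  -- the whole group
  have hD : ∀ w ∈ relK ++ [rSeven] ++ relZ, prodw (lv x y z) w = 1 := by
    intro w hw
    rcases List.mem_append.mp hw with h | h
    · rw [← hC w h]
      refine prodw_congr fun a ha => ?_
      have := low_letters w h a ha
      interval_cases a <;> rfl
    · exact hZ w h
  have edgeD : ∀ {l tb : ℕ} {A : List ℕ}, edgesOK certDF certDLim certDL tb 352 l A 0 = true →
      A.length = 352 → ∀ i < 352, ∃ j < 352,
        crOf (lv x y z) certDParN certDParX (ext certDL i) * lv x y z l *
          (crOf (lv x y z) certDParN certDParX (ext certDL j))⁻¹ ∈ Subgroup.closure {x, y} := by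
    intro l tb A hA hlen i hi
    obtain ⟨hj, S, hS⟩ := edge_of_edgesOK hA i (Nat.zero_le i) (by omega)
    refine ⟨_, hj, ?_⟩
    rw [certD_lim] at hS
    have := Cert.mem_of_reads (C := certD) (g := lv x y z) (H := Subgroup.closure {x, y})
      (lv_iv x y z) rfl hD (W := [[0], [2]]) (fun v hv => by
        rw [List.mem_cons, List.mem_singleton] at hv
        rcases hv with rfl | rfl
        · exact Subgroup.subset_closure (Or.inl (by simp [prodw, lv]))
        · exact Subgroup.subset_closure (Or.inr (by simp [prodw, lv]))) certD_ok (reads_of_readsAt hS)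
    simpa [prodw, show certD.parN = certDParN from rfl, show certD.parX = certDParX from rfl]
      using this
  have repD := exists_rep (H := Subgroup.closure {x, y}) (n := 352) (by norm_num)
    (cr := fun i => crOf (lv x y z) certDParN certDParX (ext certDL i))
    (by simp [certD_root, crOf_zero]) (gens := {x, y, z}) (fun i hi a ha => by
      rcases ha with rfl | rfl | rfl
      · exact ⟨edgeD certD_edges0 certD_paths0 i hi, edgeD certD_edges1 certD_paths1 i hi⟩
      · exact ⟨edgeD certD_edges2 certD_paths2 i hi, edgeD certD_edges3 certD_paths3 i hi⟩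
      · exact ⟨edgeD certD_edges4 certD_paths4 i hi, edgeD certD_edges5 certD_paths5 i hi⟩)
  rw [htop] at repD
  obtain ⟨hfG, hcG⟩ := card_le_of_rep (H := Subgroup.closure {x, y}) (K := ⊤) repD
  rw [Subgroup.card_top] at hcG
  refine ⟨Finite.of_equiv _ Subgroup.topEquiv.toEquiv, ?_⟩
  calc Nat.card G ≤ 352 * Nat.card (Subgroup.closure {x, y}) := hcG
    _ ≤ 352 * (2100 * Nat.card (smallH x y)) := Nat.mul_le_mul_left _ hcK
    _ ≤ 352 * (2100 * 120) := Nat.mul_le_mul_left _ (Nat.mul_le_mul_left _ hH)
    _ = 88704000 := by norm_num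

end

end CfsgLib.HNCert
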