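/-!
Strong generators of the stabilisers with their products.
-/

set_option autoImplicit false
set_option maxRecDepth 100000

namespace CfsgLib.HNCert

/-- A level: base point, generators, transversal, its words, and products with generators. -/
structure Level where
  b : Nat
  V : List Nat
  L : List Nat
  wit : List (List Nat)
  steps : List (Nat × List Nat)

/-- The levels of stabiliser 1. -/
def levels1 : List Level := [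
    { b := 4
      V := [
        3, 153, 14054376828486162523, 147019306244363, 53614286870105, 201303823731177060, 147499300296795,
        147499300296795, 120134721909516, 1813976494795, 1813976494795, 120134740351067, 38845945547,
        38845945547]
      L := [
        0, 3, 153, 27, 1227, 3685472649059088228, 1176154449954907, 428914294960843, 25162977966397132,
        1179994402374363, 15016840238689, 296557353057, 19955918353100, 1241, 57193057457903716,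
        27462262910752859, 428914294960857, 27462263089705676, 440572567721569, 6892536312588, 219,
        460684081132386028, 9409235599639259, 3431314359686747, 3146357101933273, 2372458824459,
        2486140515035, 13515, 219698103286022875, 460921575272986468, 6213931415131, 50254543112283,
        12907717523637909092, 27462272761878828, 7184313736016587, 10188251024376539, 287145039963,
        3436907546454363, 894617447962315, 6213935142491, 196096069871321, 865883, 3948303135374619353,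
        7184313736016601, 2372502860505, 2365657552473, 57585510141548253, 402036344898267,
        344965368183165670155, 25725928026976971]
      wit := [
        [], [0], [1], [0, 0], [0, 1], [0, 2], [0, 3], [0, 4], [0, 5], [0, 6], [0, 8], [0, 9], [0, 11],
        [1, 1], [1, 2], [1, 3], [1, 4], [1, 6], [1, 11], [1, 12], [0, 0, 0], [0, 0, 2], [0, 0, 3], [0, 0, 4],
        [0, 0, 5], [0, 0, 9], [0, 0, 12], [0, 1, 0], [0, 1, 3], [0, 2, 1], [0, 2, 12], [0, 3, 0], [0, 3, 4],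
        [0, 3, 6], [0, 4, 0], [0, 5, 1], [0, 5, 4], [0, 5, 5], [0, 5, 8], [0, 5, 9], [0, 6, 3], [0, 6, 8],
        [0, 9, 3], [1, 4, 0], [1, 4, 1], [1, 12, 0], [0, 0, 0, 2], [0, 0, 3, 0], [0, 0, 12, 3], [0, 1, 3, 0]]
      steps := [
        (1, [0, 0, 0, 0, 0]), (2, [0, 0, 0, 0, 0]), (0, [0, 4, 0, 2, 1]), (0, [1, 0, 0, 0, 0]),
        (0, [0, 1, 0, 0, 0]), (0, [0, 2, 0, 0, 0]), (0, [0, 0, 1, 0, 0]), (0, [0, 0, 1, 0, 0]),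
        (0, [0, 0, 2, 0, 0]), (0, [0, 0, 0, 1, 0]), (0, [0, 0, 0, 1, 0]), (0, [0, 0, 0, 2, 0]),
        (0, [0, 0, 0, 0, 1]), (0, [0, 0, 0, 0, 1]), (3, [0, 0, 0, 0, 0]), (4, [0, 0, 0, 0, 0]),
        (5, [0, 0, 0, 0, 0]), (6, [0, 0, 0, 0, 0]), (7, [0, 0, 0, 0, 0]), (8, [0, 0, 0, 0, 0]),
        (9, [0, 0, 0, 0, 0]), (9, [0, 0, 0, 0, 0]), (10, [0, 0, 0, 0, 0]), (11, [0, 0, 0, 0, 0]),
        (11, [0, 0, 0, 0, 0]), (12, [0, 0, 0, 0, 0]), (3, [6, 3, 0, 0, 2]), (3, [6, 3, 0, 0, 2]),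
        (4, [0, 1, 2, 2, 1]), (13, [0, 0, 0, 0, 0]), (14, [0, 0, 0, 0, 0]), (15, [0, 0, 0, 0, 0]),
        (16, [0, 0, 0, 0, 0]), (16, [0, 2, 2, 3, 1]), (17, [0, 0, 0, 0, 0]), (17, [0, 0, 0, 0, 0]),
        (11, [6, 2, 2, 2, 0]), (10, [6, 2, 2, 2, 0]), (10, [6, 2, 2, 2, 0]), (18, [0, 0, 0, 0, 0]),
        (19, [0, 0, 0, 0, 0]), (19, [0, 0, 0, 0, 0]), (20, [0, 0, 0, 0, 0]), (14, [2, 5, 1, 2, 2]),
        (21, [0, 0, 0, 0, 0]), (22, [0, 0, 0, 0, 0]), (23, [0, 0, 0, 0, 0]), (24, [0, 0, 0, 0, 0]),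
        (14, [0, 3, 4, 1, 0]), (14, [0, 3, 4, 1, 0]), (7, [2, 0, 1, 0, 1]), (25, [0, 0, 0, 0, 0]),
        (25, [0, 0, 0, 0, 0]), (8, [6, 5, 2, 3, 0]), (26, [0, 0, 0, 0, 0]), (26, [0, 0, 0, 0, 0]),
        (27, [0, 0, 0, 0, 0]), (23, [4, 2, 2, 3, 2]), (4, [0, 4, 1, 0, 2]), (28, [0, 0, 0, 0, 0]),
        (4, [0, 5, 4, 3, 0]), (4, [0, 3, 1, 0, 1]), (4, [0, 5, 2, 2, 2]), (4, [0, 5, 2, 2, 2]),
        (4, [0, 1, 3, 3, 1]), (4, [0, 5, 3, 2, 2]), (4, [0, 5, 3, 2, 2]), (4, [0, 5, 0, 3, 0]),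
        (4, [0, 1, 1, 2, 1]), (4, [0, 1, 1, 2, 1]), (7, [3, 3, 4, 2, 0]), (29, [0, 0, 0, 0, 0]),
        (1, [4, 4, 0, 1, 0]), (13, [1, 2, 3, 3, 2]), (5, [6, 4, 1, 2, 0]), (18, [5, 0, 4, 2, 0]),
        (1, [5, 3, 2, 0, 1]), (1, [5, 3, 2, 0, 1]), (12, [5, 1, 1, 1, 1]), (6, [4, 0, 1, 3, 1]),
        (6, [4, 0, 1, 3, 1]), (5, [0, 2, 2, 0, 1]), (30, [0, 0, 0, 0, 0]), (30, [0, 0, 0, 0, 0]),
        (31, [0, 0, 0, 0, 0]), (5, [5, 3, 4, 3, 2]), (3, [3, 2, 2, 1, 0]), (20, [3, 0, 0, 3, 0]),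
        (32, [0, 0, 0, 0, 0]), (3, [6, 5, 1, 0, 0]), (33, [0, 0, 0, 0, 0]), (33, [0, 0, 0, 0, 0]),
        (13, [0, 2, 4, 1, 1]), (5, [6, 2, 4, 0, 2]), (5, [6, 2, 4, 0, 2]), (6, [3, 0, 2, 1, 0]),
        (32, [5, 1, 4, 3, 0]), (32, [5, 1, 4, 3, 0]), (34, [0, 0, 0, 0, 0]), (17, [1, 4, 1, 1, 2]),
        (27, [2, 3, 2, 3, 0]), (25, [1, 1, 0, 0, 2]), (19, [2, 3, 2, 0, 0]), (11, [5, 1, 1, 1, 1]),
        (13, [2, 4, 2, 3, 0]), (13, [2, 4, 2, 3, 0]), (5, [2, 0, 0, 3, 1]), (13, [4, 4, 4, 2, 0]),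
        (13, [4, 4, 4, 2, 0]), (19, [4, 4, 0, 0, 0]), (24, [6, 2, 4, 1, 2]), (24, [6, 2, 4, 1, 2]),
        (25, [2, 2, 3, 0, 1]), (35, [0, 0, 0, 0, 0]), (23, [6, 3, 0, 0, 2]), (21, [1, 0, 1, 1, 1]),
        (36, [0, 0, 0, 0, 0]), (37, [0, 0, 0, 0, 0]), (19, [0, 4, 3, 3, 1]), (19, [0, 4, 3, 3, 1]),
        (38, [0, 0, 0, 0, 0]), (39, [0, 0, 0, 0, 0]), (39, [0, 0, 0, 0, 0]), (3, [4, 1, 0, 1, 1]),
        (38, [5, 3, 2, 0, 1]), (38, [5, 3, 2, 0, 1]), (30, [0, 1, 2, 0, 2]), (20, [2, 0, 4, 1, 2]),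
        (19, [4, 4, 0, 0, 0]), (40, [0, 0, 0, 0, 0]), (11, [6, 4, 1, 2, 0]), (19, [4, 1, 4, 0, 1]),
        (8, [6, 5, 1, 1, 2]), (8, [6, 5, 1, 1, 2]), (41, [0, 0, 0, 0, 0]), (24, [3, 5, 3, 1, 1]),
        (24, [3, 5, 3, 1, 1]), (17, [6, 2, 2, 2, 0]), (2, [5, 0, 4, 2, 0]), (2, [5, 0, 4, 2, 0]),
        (18, [4, 2, 4, 0, 1]), (24, [4, 5, 3, 2, 1]), (38, [0, 0, 0, 0, 0]), (9, [3, 4, 4, 3, 2]),
        (25, [0, 4, 4, 0, 0]), (25, [6, 2, 4, 1, 2]), (15, [5, 5, 3, 1, 0]), (15, [5, 5, 3, 1, 0]),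
        (32, [5, 3, 0, 0, 2]), (2, [6, 2, 2, 2, 0]), (2, [6, 2, 2, 2, 0]), (27, [4, 0, 4, 2, 2]),
        (13, [0, 4, 4, 1, 0]), (13, [0, 4, 4, 1, 0]), (26, [4, 0, 1, 0, 1]), (12, [0, 1, 3, 0, 2]),
        (35, [3, 5, 4, 3, 1]), (42, [0, 0, 0, 0, 0]), (8, [0, 2, 2, 0, 1]), (7, [0, 2, 2, 0, 1]),
        (6, [3, 3, 0, 2, 1]), (6, [3, 3, 0, 2, 1]), (1, [2, 2, 2, 3, 0]), (1, [0, 0, 0, 0, 0]),
        (1, [0, 0, 0, 0, 0]), (23, [4, 2, 0, 2, 2]), (39, [2, 0, 0, 3, 1]), (39, [2, 0, 0, 3, 1]),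
        (11, [0, 2, 2, 3, 1]), (11, [2, 0, 3, 3, 0]), (9, [4, 4, 0, 1, 0]), (1, [2, 3, 3, 0, 2]),
        (42, [4, 5, 1, 0, 2]), (42, [4, 4, 1, 0, 0]), (27, [4, 0, 4, 2, 2]), (27, [4, 0, 4, 2, 2]),
        (17, [6, 2, 2, 2, 0]), (23, [4, 2, 0, 2, 2]), (23, [4, 2, 0, 2, 2]), (1, [0, 0, 0, 0, 0]),
        (25, [6, 3, 0, 0, 2]), (25, [6, 3, 0, 0, 2]), (17, [5, 0, 4, 1, 0]), (40, [1, 0, 1, 3, 1]),
        (7, [6, 5, 0, 2, 0]), (35, [3, 4, 3, 3, 1]), (34, [6, 0, 3, 0, 1]), (35, [5, 5, 4, 3, 0]),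
        (38, [6, 4, 4, 0, 0]), (38, [6, 4, 4, 0, 0]), (25, [0, 4, 2, 3, 1]), (7, [2, 2, 0, 1, 2]),
        (7, [2, 2, 0, 1, 2]), (33, [3, 2, 2, 3, 1]), (17, [5, 5, 4, 3, 2]), (17, [5, 5, 4, 3, 2]),
        (12, [5, 1, 2, 1, 1]), (41, [4, 1, 1, 1, 1]), (11, [5, 4, 2, 1, 1]), (3, [1, 0, 3, 3, 1]),
        (38, [5, 4, 2, 1, 1]), (27, [2, 0, 0, 1, 1]), (2, [5, 3, 2, 0, 1]), (2, [5, 3, 2, 0, 1]),
        (30, [6, 2, 2, 2, 0]), (15, [4, 0, 1, 3, 1]), (15, [4, 0, 1, 3, 1]), (38, [6, 0, 0, 3, 1]),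
        (12, [0, 5, 3, 1, 2]), (12, [0, 5, 3, 1, 2]), (38, [2, 5, 3, 3, 2]), (31, [2, 5, 0, 0, 0]),
        (39, [0, 2, 3, 0, 1]), (29, [4, 5, 0, 3, 1]), (37, [5, 3, 3, 0, 1]), (36, [5, 3, 3, 0, 1]),
        (25, [3, 1, 0, 3, 1]), (25, [3, 1, 0, 3, 1]), (19, [2, 1, 3, 1, 1]), (14, [6, 2, 4, 0, 2]),
        (14, [6, 2, 4, 0, 2]), (26, [3, 5, 1, 0, 2]), (11, [5, 1, 0, 0, 2]), (11, [5, 1, 0, 0, 2]),
        (43, [0, 0, 0, 0, 0]), (44, [0, 0, 0, 0, 0]), (12, [5, 2, 1, 0, 1]), (33, [2, 3, 2, 0, 0]),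
        (3, [0, 2, 0, 3, 2]), (32, [5, 1, 3, 3, 1]), (36, [5, 2, 1, 0, 1]), (36, [5, 2, 1, 0, 1]),
        (35, [1, 5, 2, 1, 1]), (36, [4, 0, 4, 3, 2]), (36, [4, 0, 4, 3, 2]), (36, [6, 0, 0, 3, 1]),
        (35, [6, 5, 0, 1, 2]), (35, [6, 5, 0, 1, 2]), (36, [0, 2, 3, 1, 2]), (18, [0, 0, 1, 3, 0]),
        (36, [6, 0, 0, 3, 1]), (44, [4, 1, 4, 3, 0]), (2, [2, 4, 1, 2, 0]), (39, [4, 5, 2, 2, 0]),
        (21, [6, 5, 3, 1, 0]), (21, [6, 5, 3, 1, 0]), (3, [4, 4, 4, 3, 0]), (22, [1, 5, 3, 0, 0]),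
        (22, [1, 5, 3, 0, 0]), (9, [6, 2, 2, 2, 0]), (10, [4, 5, 2, 2, 0]), (10, [4, 5, 2, 2, 0]),
        (10, [0, 2, 0, 2, 2]), (10, [6, 0, 0, 0, 1]), (6, [4, 4, 3, 1, 0]), (2, [2, 3, 3, 0, 2]),
        (9, [2, 1, 1, 2, 2]), (15, [5, 4, 4, 3, 1]), (23, [2, 5, 4, 1, 1]), (23, [2, 5, 4, 1, 1]),
        (9, [6, 2, 2, 2, 0]), (27, [0, 2, 2, 2, 1]), (27, [0, 2, 2, 2, 1]), (2, [0, 0, 0, 0, 0]),
        (33, [5, 5, 3, 1, 0]), (33, [5, 5, 3, 1, 0]), (45, [0, 0, 0, 0, 0]), (27, [5, 4, 4, 1, 0]),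
        (16, [4, 0, 4, 1, 2]), (14, [4, 1, 0, 3, 1]), (12, [5, 4, 2, 1, 1]), (14, [6, 3, 2, 1, 0]),
        (5, [2, 3, 2, 0, 0]), (5, [2, 3, 2, 0, 0]), (33, [6, 2, 3, 1, 1]), (33, [5, 5, 3, 1, 0]),
        (33, [5, 5, 3, 1, 0]), (7, [5, 4, 2, 1, 1]), (9, [4, 5, 2, 2, 0]), (9, [4, 5, 2, 2, 0]),
        (39, [6, 5, 2, 0, 0]), (22, [1, 5, 0, 1, 0]), (46, [0, 0, 0, 0, 0]), (12, [1, 1, 1, 1, 1]),
        (44, [2, 3, 3, 1, 1]), (40, [1, 1, 4, 3, 2]), (20, [0, 0, 3, 0, 2]), (20, [0, 0, 3, 0, 2]),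
        (20, [0, 0, 2, 3, 1]), (20, [0, 0, 0, 2, 0]), (20, [0, 0, 0, 2, 0]), (20, [0, 0, 0, 1, 0]),
        (20, [0, 0, 0, 2, 2]), (20, [0, 0, 0, 2, 2]), (46, [5, 0, 3, 3, 2]), (43, [5, 3, 3, 1, 1]),
        (18, [0, 3, 4, 1, 0]), (7, [5, 5, 0, 3, 2]), (41, [2, 2, 4, 1, 1]), (1, [0, 0, 4, 2, 2]),
        (3, [0, 4, 0, 2, 2]), (3, [0, 4, 0, 2, 2]), (24, [3, 1, 4, 1, 0]), (41, [0, 2, 0, 3, 1]),
        (41, [0, 2, 0, 3, 1]), (41, [2, 0, 1, 0, 1]), (5, [5, 1, 4, 1, 2]), (5, [5, 1, 4, 1, 2]),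
        (47, [0, 0, 0, 0, 0]), (9, [1, 5, 0, 2, 0]), (32, [5, 3, 0, 3, 1]), (19, [3, 5, 4, 1, 2]),
        (14, [6, 2, 2, 0, 2]), (12, [5, 3, 2, 1, 0]), (10, [4, 4, 0, 3, 2]), (10, [4, 4, 0, 3, 2]),
        (23, [6, 3, 0, 3, 1]), (17, [4, 1, 4, 1, 0]), (17, [4, 1, 4, 1, 0]), (24, [2, 1, 2, 3, 2]),
        (18, [0, 3, 3, 0, 2]), (18, [0, 3, 3, 0, 2]), (0, [5, 1, 2, 0, 1]), (1, [3, 2, 0, 3, 2]),
        (17, [0, 3, 4, 1, 0]), (37, [5, 5, 0, 3, 2]), (17, [5, 5, 3, 3, 2]), (17, [6, 0, 3, 1, 2]),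
        (12, [5, 3, 0, 3, 1]), (12, [5, 3, 0, 3, 1]), (6, [4, 0, 3, 0, 1]), (12, [5, 1, 4, 1, 2]),
        (12, [5, 1, 4, 1, 2]), (11, [5, 1, 4, 1, 2]), (8, [4, 1, 2, 0, 0]), (8, [4, 1, 2, 0, 0]),
        (19, [1, 3, 3, 2, 0]), (33, [2, 4, 0, 1, 1]), (10, [6, 4, 2, 2, 2]), (39, [2, 4, 3, 3, 1]),
        (35, [1, 1, 2, 0, 2]), (34, [4, 3, 2, 1, 1]), (11, [5, 3, 0, 3, 1]), (11, [5, 3, 0, 3, 1]),
        (27, [5, 2, 0, 1, 1]), (9, [5, 3, 0, 3, 1]), (9, [5, 3, 0, 3, 1]), (22, [3, 2, 3, 1, 1]),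
        (27, [5, 4, 3, 2, 0]), (27, [5, 4, 3, 2, 0]), (14, [5, 5, 3, 0, 2]), (30, [4, 4, 4, 0, 0]),
        (34, [0, 3, 1, 2, 2]), (8, [0, 5, 1, 1, 0]), (13, [2, 2, 0, 2, 0]), (10, [4, 4, 1, 2, 2]),
        (41, [0, 0, 4, 2, 2]), (41, [0, 0, 4, 2, 2]), (22, [2, 0, 1, 1, 1]), (3, [0, 0, 0, 0, 0]),
        (3, [0, 0, 0, 0, 0]), (39, [6, 5, 2, 3, 0]), (14, [2, 3, 1, 0, 2]), (14, [2, 3, 1, 0, 2]),
        (8, [1, 5, 3, 2, 0]), (39, [6, 2, 3, 0, 2]), (41, [5, 3, 0, 3, 1]), (48, [0, 0, 0, 0, 0]),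
        (10, [6, 4, 2, 2, 2]), (13, [4, 0, 4, 3, 2]), (7, [6, 5, 2, 3, 0]), (7, [6, 5, 2, 3, 0]),
        (39, [2, 0, 1, 0, 1]), (38, [2, 0, 1, 0, 1]), (38, [2, 0, 1, 0, 1]), (15, [5, 5, 2, 1, 1]),
        (1, [2, 2, 4, 1, 1]), (1, [2, 2, 4, 1, 1]), (2, [4, 4, 4, 2, 0]), (0, [0, 2, 2, 0, 1]),
        (42, [5, 3, 3, 2, 1]), (11, [6, 4, 3, 1, 2]), (15, [5, 4, 4, 1, 1]), (9, [2, 1, 1, 3, 2]),
        (30, [2, 1, 1, 3, 2]), (30, [2, 1, 1, 3, 2]), (26, [4, 0, 2, 1, 2]), (18, [0, 2, 2, 1, 1]),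
        (18, [0, 2, 2, 1, 1]), (10, [6, 0, 0, 1, 1]), (7, [5, 2, 1, 2, 1]), (7, [5, 2, 1, 2, 1]),
        (49, [0, 0, 0, 0, 0]), (49, [1, 0, 4, 3, 0]), (31, [3, 4, 2, 0, 0]), (49, [5, 5, 4, 0, 1]),
        (31, [3, 1, 0, 1, 1]), (31, [3, 5, 0, 2, 2]), (28, [0, 1, 0, 3, 2]), (28, [0, 1, 0, 3, 2]),
        (31, [3, 0, 0, 3, 0]), (28, [0, 1, 0, 2, 2]), (28, [0, 1, 0, 2, 2]), (49, [5, 1, 4, 3, 1]),
        (45, [6, 0, 1, 1, 1]), (45, [6, 0, 1, 1, 1]), (21, [0, 2, 0, 2, 2]), (28, [3, 5, 2, 2, 1]),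
        (20, [6, 2, 1, 1, 1]), (18, [4, 0, 3, 1, 0]), (46, [3, 2, 0, 0, 2]), (48, [3, 1, 1, 1, 0]),
        (40, [4, 3, 0, 2, 1]), (40, [4, 3, 0, 2, 1]), (44, [3, 1, 0, 1, 2]), (44, [1, 5, 0, 1, 0]),
        (44, [1, 5, 0, 1, 0]), (48, [6, 1, 2, 0, 2]), (48, [0, 0, 3, 1, 0]), (48, [0, 0, 3, 1, 0]),
        (37, [5, 3, 3, 3, 1]), (37, [6, 2, 0, 2, 0]), (26, [6, 3, 0, 0, 2]), (32, [3, 1, 4, 0, 0]),
        (6, [5, 3, 0, 0, 2]), (26, [2, 1, 2, 1, 0]), (18, [2, 1, 1, 0, 2]), (18, [2, 1, 1, 0, 2]),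
        (15, [0, 1, 2, 1, 2]), (30, [0, 2, 2, 0, 1]), (30, [0, 2, 2, 0, 1]), (32, [6, 0, 3, 2, 0]),
        (21, [4, 2, 0, 2, 2]), (21, [4, 2, 0, 2, 2]), (9, [2, 5, 1, 2, 1]), (42, [2, 4, 1, 1, 1]),
        (43, [5, 2, 4, 1, 1]), (4, [3, 0, 1, 3, 2]), (49, [6, 3, 2, 1, 1]), (43, [1, 5, 1, 0, 2]),
        (45, [5, 2, 4, 3, 1]), (45, [5, 2, 4, 3, 1]), (43, [3, 1, 1, 3, 2]), (47, [0, 0, 0, 3, 0]),
        (47, [0, 0, 0, 3, 0]), (31, [2, 1, 0, 2, 1]), (49, [0, 3, 1, 1, 2]), (49, [0, 3, 1, 1, 2]),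
        (22, [6, 2, 4, 3, 1]), (8, [4, 2, 1, 1, 2]), (22, [1, 5, 2, 0, 2]), (26, [2, 0, 1, 2, 2]),
        (21, [4, 4, 3, 3, 1]), (33, [4, 3, 1, 0, 2]), (26, [0, 1, 3, 2, 0]), (26, [0, 1, 3, 2, 0]),
        (2, [6, 3, 1, 3, 0]), (32, [5, 5, 1, 0, 0]), (32, [5, 5, 1, 0, 0]), (30, [6, 0, 3, 2, 0]),
        (41, [2, 1, 4, 2, 2]), (41, [2, 1, 4, 2, 2]), (6, [1, 2, 1, 3, 0]), (7, [6, 0, 4, 2, 0]),
        (30, [6, 0, 3, 2, 0]), (16, [3, 4, 1, 0, 1]), (39, [5, 4, 1, 3, 2]), (2, [4, 5, 0, 2, 0]),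
        (39, [2, 1, 4, 2, 2]), (39, [2, 1, 4, 2, 2]), (14, [2, 5, 2, 1, 1]), (19, [5, 3, 3, 0, 1]),
        (19, [5, 3, 3, 0, 1]), (13, [3, 0, 4, 3, 2]), (22, [2, 1, 3, 2, 2]), (22, [2, 1, 3, 2, 2]),
        (32, [2, 5, 1, 0, 2]), (32, [6, 5, 0, 2, 1]), (15, [0, 2, 0, 3, 2]), (10, [2, 0, 1, 2, 2]),
        (26, [6, 5, 0, 2, 0]), (6, [3, 1, 0, 3, 0]), (34, [4, 1, 1, 1, 0]), (34, [4, 1, 1, 1, 0]),
        (42, [3, 2, 0, 3, 0]), (34, [2, 1, 0, 2, 1]), (34, [2, 1, 0, 2, 1]), (37, [2, 1, 2, 0, 0]),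
        (16, [4, 5, 3, 3, 1]), (16, [4, 5, 3, 3, 1]), (42, [2, 0, 3, 1, 0]), (47, [2, 2, 2, 0, 1]),
        (2, [3, 1, 1, 1, 2]), (36, [2, 0, 1, 1, 1]), (22, [4, 4, 3, 0, 0]), (30, [3, 4, 4, 1, 1]),
        (37, [3, 0, 2, 0, 2]), (37, [3, 0, 2, 0, 2]), (34, [5, 1, 2, 1, 1]), (42, [6, 3, 4, 1, 0]),
        (42, [6, 3, 4, 1, 0]), (35, [0, 1, 4, 0, 1]), (34, [5, 0, 1, 1, 2]), (34, [5, 0, 1, 1, 2]),
        (24, [2, 5, 4, 2, 0]), (36, [2, 3, 4, 0, 0]), (8, [4, 1, 4, 3, 1]), (5, [0, 2, 0, 0, 2]),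
        (18, [4, 1, 4, 0, 1]), (5, [4, 1, 4, 3, 1]), (35, [3, 3, 1, 2, 0]), (35, [3, 3, 1, 2, 0]),
        (16, [2, 3, 2, 0, 0]), (16, [2, 1, 1, 0, 2]), (16, [2, 1, 1, 0, 2]), (16, [4, 1, 4, 0, 1]),
        (42, [2, 4, 0, 1, 2]), (42, [2, 4, 0, 1, 2]), (33, [1, 1, 0, 3, 2]), (15, [3, 4, 0, 2, 2]),
        (24, [0, 0, 2, 1, 2]), (17, [4, 1, 3, 2, 0]), (33, [3, 2, 4, 0, 0]), (21, [0, 0, 2, 1, 2]),
        (42, [5, 5, 0, 1, 0]), (42, [5, 5, 0, 1, 0]), (37, [5, 1, 1, 1, 1]), (37, [5, 3, 2, 0, 1]),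
        (37, [5, 3, 2, 0, 1]), (34, [6, 0, 1, 0, 1]), (36, [6, 5, 1, 1, 2]), (36, [6, 5, 1, 1, 2]),
        (40, [4, 4, 2, 3, 1]), (34, [2, 1, 3, 0, 0]), (37, [5, 1, 1, 1, 1]), (41, [2, 2, 4, 2, 2]),
        (24, [3, 5, 3, 1, 1]), (23, [3, 5, 3, 1, 1]), (32, [4, 0, 1, 3, 1]), (32, [4, 0, 1, 3, 1]),
        (18, [4, 4, 0, 0, 0]), (26, [2, 1, 2, 1, 0]), (26, [2, 1, 2, 1, 0]), (14, [4, 1, 4, 0, 1]),
        (23, [2, 0, 1, 2, 2]), (23, [2, 0, 1, 2, 2]), (23, [6, 2, 2, 2, 2]), (45, [2, 0, 0, 1, 1]),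
        (25, [0, 4, 4, 0, 0]), (24, [4, 3, 3, 2, 0]), (27, [5, 4, 2, 3, 1]), (38, [4, 4, 0, 1, 0]),
        (24, [6, 2, 4, 1, 2]), (24, [6, 2, 4, 1, 2]), (21, [6, 3, 0, 0, 2]), (8, [0, 0, 0, 0, 0]),
        (8, [0, 0, 0, 0, 0]), (25, [4, 1, 0, 1, 1]), (15, [3, 4, 1, 0, 1]), (15, [3, 4, 1, 0, 1]),
        (15, [4, 2, 3, 2, 0]), (19, [0, 5, 4, 0, 0]), (44, [3, 4, 4, 3, 0]), (34, [2, 3, 3, 1, 1]),
        (40, [2, 4, 0, 1, 2]), (44, [6, 4, 2, 0, 1]), (44, [5, 3, 3, 2, 2]), (44, [5, 3, 3, 2, 2]),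
        (46, [1, 1, 3, 1, 0]), (40, [0, 2, 2, 0, 1]), (40, [0, 2, 2, 0, 1]), (40, [3, 4, 4, 3, 2]),
        (40, [4, 0, 1, 3, 1]), (40, [4, 0, 1, 3, 1]), (41, [2, 2, 3, 3, 0]), (26, [5, 2, 0, 3, 0]),
        (33, [5, 2, 4, 1, 2]), (38, [3, 1, 0, 0, 0]), (30, [0, 2, 2, 0, 1]), (22, [3, 2, 2, 1, 0]),
        (22, [6, 4, 1, 3, 2]), (22, [6, 4, 1, 3, 2]), (8, [2, 0, 0, 3, 1]), (21, [0, 4, 4, 0, 0]),
        (21, [0, 4, 4, 0, 0]), (21, [2, 1, 2, 1, 0]), (6, [0, 5, 1, 0, 1]), (6, [0, 5, 1, 0, 1]),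
        (48, [5, 4, 3, 1, 1]), (25, [6, 0, 3, 1, 2]), (13, [4, 4, 3, 0, 1]), (46, [6, 0, 4, 2, 1]),
        (1, [5, 3, 0, 0, 2]), (41, [5, 1, 4, 3, 0]), (16, [0, 3, 4, 0, 1]), (16, [0, 3, 4, 0, 1]),
        (36, [0, 0, 4, 0, 0]), (35, [6, 0, 0, 3, 0]), (35, [6, 0, 0, 3, 0]), (42, [3, 4, 4, 3, 2]),
        (37, [0, 2, 0, 0, 2]), (37, [0, 2, 0, 0, 2]), (16, [6, 1, 1, 0, 0]), (21, [4, 1, 0, 3, 1]),
        (45, [4, 3, 0, 3, 1]), (47, [5, 2, 2, 1, 1]), (28, [6, 2, 1, 1, 2]), (47, [5, 0, 2, 3, 0]),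
        (47, [4, 5, 0, 2, 2]), (47, [4, 5, 0, 2, 2]), (45, [1, 5, 1, 2, 1]), (45, [1, 0, 2, 3, 1]),
        (45, [1, 0, 2, 3, 1]), (45, [1, 4, 4, 0, 2]), (31, [4, 1, 3, 2, 1]), (31, [4, 1, 3, 2, 1]),
        (35, [6, 0, 2, 1, 0]), (48, [3, 1, 2, 1, 0]), (40, [6, 4, 1, 1, 1]), (23, [4, 1, 2, 0, 0]),
        (48, [4, 3, 4, 2, 2]), (46, [6, 5, 2, 1, 2]), (48, [1, 1, 2, 2, 2]), (48, [1, 1, 2, 2, 2]),
        (48, [4, 0, 1, 2, 1]), (29, [2, 5, 4, 2, 0]), (29, [2, 5, 4, 2, 0]), (46, [1, 1, 2, 3, 0]),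
        (44, [6, 5, 4, 0, 0]), (44, [6, 5, 4, 0, 0]), (13, [4, 4, 4, 3, 0]), (3, [2, 1, 2, 2, 0]),
        (28, [4, 0, 2, 0, 1]), (45, [4, 3, 2, 0, 1]), (43, [1, 0, 3, 2, 1]), (49, [6, 4, 4, 0, 2]),
        (43, [5, 4, 3, 1, 2]), (43, [5, 4, 3, 1, 2]), (47, [2, 2, 3, 1, 2]), (43, [2, 3, 2, 3, 2]),
        (43, [2, 3, 2, 3, 2]), (43, [3, 0, 4, 0, 2]), (47, [6, 0, 3, 2, 1]), (47, [6, 0, 3, 2, 1]),
        (29, [2, 3, 2, 1, 1]), (6, [3, 2, 1, 0, 1]), (48, [5, 2, 0, 1, 0]), (27, [3, 5, 1, 1, 2]),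
        (20, [0, 0, 1, 3, 1]), (20, [0, 0, 2, 1, 2]), (29, [6, 5, 4, 2, 1]), (29, [6, 5, 4, 2, 1]),
        (29, [6, 5, 4, 0, 0]), (48, [5, 2, 3, 0, 1]), (48, [5, 2, 3, 0, 1]), (44, [2, 3, 0, 1, 1]),
        (29, [6, 5, 2, 2, 0]), (29, [6, 5, 2, 2, 0]), (5, [3, 2, 1, 3, 1]), (38, [4, 5, 2, 3, 2]),
        (49, [3, 2, 3, 0, 2]), (43, [5, 2, 2, 2, 1]), (47, [3, 1, 0, 1, 0]), (28, [5, 4, 4, 3, 2]),
        (49, [4, 3, 2, 2, 1]), (49, [4, 3, 2, 2, 1]), (28, [6, 3, 3, 1, 2]), (31, [0, 0, 0, 3, 0]),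
        (31, [0, 0, 0, 3, 0]), (47, [6, 0, 3, 2, 0]), (28, [5, 0, 0, 3, 2]), (28, [5, 0, 0, 3, 2]),
        (28, [2, 5, 1, 2, 1]), (16, [5, 2, 2, 3, 0]), (29, [5, 2, 0, 0, 1]), (30, [6, 5, 1, 2, 1]),
        (29, [1, 4, 3, 2, 2]), (29, [2, 3, 1, 2, 1]), (46, [1, 3, 3, 0, 1]), (46, [1, 3, 3, 0, 1]),
        (40, [3, 1, 0, 2, 2]), (46, [6, 2, 4, 3, 2]), (46, [6, 2, 4, 3, 2]), (29, [1, 4, 1, 3, 2]),
        (46, [5, 2, 2, 1, 1]), (46, [5, 2, 2, 1, 1]), (44, [1, 1, 4, 1, 1]), (46, [0, 3, 4, 1, 0]),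
        (47, [5, 4, 4, 1, 0]), (31, [5, 4, 1, 3, 0]), (45, [5, 0, 2, 0, 1]), (45, [4, 2, 4, 1, 1]),
        (31, [1, 4, 1, 0, 0]), (31, [1, 4, 1, 0, 0]), (49, [6, 4, 4, 2, 0]), (49, [2, 1, 0, 2, 1]),
        (49, [2, 1, 0, 2, 1]), (28, [2, 4, 2, 0, 1]), (43, [2, 4, 1, 2, 1]), (43, [2, 4, 1, 2, 1])] },
    { b := 10
      V := [
        14054376828486162523, 147019306244363, 53614286870105, 201303823731177060, 147499300296795,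
        147499300296795, 120134721909516, 1813976494795, 1813976494795, 120134740351067, 38845945547,
        38845945547]
      L := [
        0, 147019306244363, 401610067777636, 219380711896756940, 14529005142731, 75488838233666265,
        84290463677657835]
      wit := [
        [], [1], [1, 0], [1, 1], [1, 10], [1, 0, 0], [1, 0, 7]]
      steps := [
        (0, [4, 0, 2, 1]), (1, [0, 0, 0, 0]), (0, [1, 0, 0, 0]), (0, [2, 0, 0, 0]), (0, [0, 1, 0, 0]),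
        (0, [0, 1, 0, 0]), (0, [0, 2, 0, 0]), (0, [0, 0, 1, 0]), (0, [0, 0, 1, 0]), (0, [0, 0, 2, 0]),
        (0, [0, 0, 0, 1]), (0, [0, 0, 0, 1]), (2, [0, 0, 0, 0]), (3, [0, 0, 0, 0]), (2, [4, 3, 2, 0]),
        (2, [4, 1, 1, 2]), (1, [4, 2, 2, 0]), (1, [4, 2, 2, 0]), (2, [1, 4, 3, 1]), (1, [1, 0, 2, 1]),
        (1, [1, 0, 2, 1]), (3, [0, 1, 3, 0]), (4, [0, 0, 0, 0]), (4, [0, 0, 0, 0]), (5, [0, 0, 0, 0]),
        (0, [2, 3, 2, 2]), (3, [4, 0, 0, 1]), (5, [0, 1, 1, 1]), (4, [1, 2, 1, 0]), (4, [1, 2, 1, 0]),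
        (5, [3, 4, 2, 0]), (6, [0, 0, 0, 0]), (6, [0, 0, 0, 0]), (2, [1, 1, 3, 1]), (3, [5, 1, 1, 1]),
        (3, [5, 1, 1, 1]), (6, [5, 4, 0, 0]), (2, [5, 2, 0, 1]), (4, [4, 4, 2, 2]), (4, [1, 2, 1, 2]),
        (2, [0, 0, 2, 2]), (2, [0, 0, 2, 2]), (3, [2, 4, 1, 1]), (3, [4, 1, 1, 2]), (3, [4, 1, 1, 2]),
        (1, [0, 2, 3, 0]), (5, [5, 1, 0, 1]), (5, [5, 1, 0, 1]), (1, [2, 2, 3, 0]), (4, [1, 3, 1, 1]),
        (5, [4, 1, 1, 2]), (3, [2, 4, 1, 2]), (5, [3, 2, 2, 0]), (5, [3, 2, 2, 0]), (6, [1, 4, 2, 1]),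
        (5, [5, 3, 2, 2]), (5, [5, 3, 2, 2]), (5, [2, 0, 3, 1]), (6, [2, 1, 2, 1]), (6, [2, 1, 2, 1]),
        (4, [2, 2, 3, 0]), (6, [2, 2, 0, 1]), (1, [0, 2, 2, 1]), (6, [2, 4, 3, 1]), (6, [5, 2, 1, 2]),
        (6, [5, 2, 1, 2]), (4, [5, 4, 1, 1]), (4, [5, 3, 2, 2]), (4, [5, 3, 2, 2]), (4, [4, 4, 0, 0]),
        (2, [0, 0, 2, 0]), (2, [0, 0, 2, 0]), (3, [2, 1, 2, 0]), (5, [2, 3, 0, 0]), (6, [4, 3, 0, 0]),
        (1, [2, 1, 3, 1]), (3, [4, 1, 3, 0]), (3, [4, 1, 3, 0]), (1, [4, 3, 2, 0]), (2, [0, 0, 0, 0]),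
        (2, [0, 0, 0, 0]), (6, [1, 1, 3, 1]), (1, [4, 4, 2, 0]), (1, [4, 4, 2, 0])] },
    { b := 19
      V := [
        53614286870105, 201303823731177060, 147499300296795, 147499300296795, 120134721909516, 1813976494795,
        1813976494795, 120134740351067, 38845945547, 38845945547]
      L := [
        0, 53614286870105, 201303823731177060, 147019334293601, 7149132165813857, 2930265]
      wit := [
        [], [0], [1], [0, 0], [0, 1], [0, 5]]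
      steps := [
        (1, [0, 0, 0]), (2, [0, 0, 0]), (0, [1, 0, 0]), (0, [1, 0, 0]), (0, [2, 0, 0]), (0, [0, 1, 0]),
        (0, [0, 1, 0]), (0, [0, 2, 0]), (0, [0, 0, 1]), (0, [0, 0, 1]), (3, [0, 0, 0]), (4, [0, 0, 0]),
        (3, [2, 0, 0]), (3, [2, 0, 0]), (3, [3, 2, 1]), (5, [0, 0, 0]), (5, [0, 0, 0]), (4, [2, 1, 2]),
        (1, [0, 1, 2]), (1, [0, 1, 2]), (2, [4, 0, 1]), (1, [4, 0, 1]), (1, [1, 0, 2]), (1, [1, 0, 2]),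
        (4, [3, 1, 0]), (2, [3, 3, 2]), (2, [3, 3, 2]), (2, [1, 1, 0]), (2, [0, 3, 1]), (2, [0, 3, 1]),
        (5, [0, 0, 1]), (5, [3, 3, 0]), (4, [0, 2, 1]), (4, [0, 2, 1]), (2, [1, 1, 2]), (4, [2, 3, 0]),
        (4, [2, 3, 0]), (5, [0, 1, 1]), (4, [2, 0, 2]), (4, [2, 0, 2]), (0, [3, 0, 0]), (0, [2, 0, 1]),
        (5, [4, 1, 0]), (5, [4, 1, 0]), (5, [4, 3, 1]), (3, [1, 3, 0]), (3, [1, 3, 0]), (1, [4, 2, 2]),
        (5, [3, 3, 1]), (5, [3, 3, 1]), (4, [2, 2, 1]), (3, [2, 2, 1]), (2, [0, 3, 1]), (2, [0, 3, 1]),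
        (1, [4, 3, 2]), (1, [0, 0, 0]), (1, [0, 0, 0]), (3, [0, 2, 2]), (3, [0, 0, 1]), (3, [0, 0, 1])] },
    { b := 20
      V := [
        147499300296795, 147499300296795, 120134721909516, 1813976494795, 1813976494795, 120134740351067,
        38845945547, 38845945547]
      L := [
        0, 147499300296795, 120134721909516, 7156956544735500, 25198894630409825]
      wit := [
        [], [0], [2], [0, 0], [0, 3]]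
      steps := [
        (1, [0, 0]), (1, [0, 0]), (2, [0, 0]), (0, [1, 0]), (0, [1, 0]), (0, [2, 0]), (0, [0, 1]),
        (0, [0, 1]), (3, [0, 0]), (3, [0, 0]), (3, [2, 2]), (4, [0, 0]), (4, [0, 0]), (2, [2, 0]),
        (1, [3, 2]), (1, [3, 2]), (4, [0, 1]), (4, [0, 1]), (4, [1, 2]), (3, [0, 1]), (3, [0, 1]),
        (1, [2, 0]), (4, [0, 2]), (4, [0, 2]), (2, [2, 2]), (2, [2, 2]), (0, [1, 2]), (2, [0, 2]),
        (2, [0, 2]), (4, [2, 2]), (2, [2, 1]), (2, [2, 1]), (0, [1, 0]), (0, [1, 0]), (1, [2, 0]),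
        (1, [0, 0]), (1, [0, 0]), (3, [1, 1]), (3, [3, 0]), (3, [3, 0])] },
    { b := 27
      V := [
        1813976494795, 1813976494795, 120134740351067, 38845945547, 38845945547]
      L := [
        0, 1813976494795, 120134740351067, 7468570006315]
      wit := [
        [], [0], [2], [0, 2]]
      steps := [
        (1, [0]), (1, [0]), (2, [0]), (0, [1]), (0, [1]), (0, [0]), (0, [0]), (3, [0]), (3, [1]), (3, [1]),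
        (3, [0]), (3, [0]), (0, [0]), (1, [1]), (1, [1]), (2, [0]), (2, [0]), (1, [0]), (2, [1]), (2, [1])] },
    { b := 7
      V := [
        38845945547]
      L := [
        0, 38845945547, 36040394843]
      wit := [
        [], [0], [0, 0]]
      steps := [
        (1, []), (2, []), (0, [])] }]

/-- The levels of stabiliser 2. -/
def levels2 : List Level := [
    { b := 0
      V := [
        3195595, 70096473, 6657625, 5, 4245606658152253540, 9, 2375304659673, 25663369544250073,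
        3918560043175622233, 14054376773771903756, 8788065, 219604162252, 38845945547, 36040394843,
        1333120518241, 36040394843]
      L := [
        0, 5, 4245606658152253540, 9, 5216696240254064939, 329, 498622248998843659, 13140788718274238187,
        3916914288994663212, 4245607207908067428, 460542240804225753, 30459044450949387, 1826687216469849947,
        62327781124846859, 3916773540114778892, 5393507339400500827, 5216696308973541675, 57568997723751129,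
        3437446686726419, 14077573317572605787, 498622248998843147, 13140788718276335339,
        3916914289128880940, 460542790560039641, 30459044450949395, 1826687217543591771, 62327781124846347,
        3916774089870592780, 5393507339383723611, 57569006313685721, 3437446686726411, 14077573316498863963]
      wit := [
        [], [3], [4], [5], [3, 4], [3, 5], [4, 0], [4, 1], [4, 4], [4, 5], [4, 6], [4, 8], [4, 12],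
        [3, 4, 0], [3, 4, 1], [3, 4, 4], [3, 4, 5], [3, 4, 6], [3, 4, 8], [3, 4, 12], [4, 0, 5], [4, 1, 5],
        [4, 4, 5], [4, 5, 6], [4, 5, 8], [4, 5, 12], [3, 4, 0, 5], [3, 4, 1, 5], [3, 4, 4, 5], [3, 4, 5, 6],
        [3, 4, 5, 8], [3, 4, 5, 12]]
      steps := [
        (0, [0, 2, 3, 3, 1]), (0, [5, 5, 3, 3, 2]), (0, [0, 2, 0, 3, 2]), (1, [0, 0, 0, 0, 0]),
        (2, [0, 0, 0, 0, 0]), (3, [0, 0, 0, 0, 0]), (0, [0, 3, 4, 2, 2]), (0, [1, 0, 0, 0, 0]),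
        (0, [2, 0, 0, 0, 0]), (0, [0, 1, 0, 0, 0]), (0, [0, 2, 0, 0, 0]), (0, [0, 0, 1, 0, 0]),
        (0, [0, 0, 0, 0, 2]), (0, [0, 0, 0, 0, 1]), (0, [0, 0, 0, 1, 0]), (0, [0, 0, 0, 0, 1]),
        (1, [0, 2, 3, 3, 1]), (1, [5, 5, 3, 3, 2]), (1, [0, 2, 0, 3, 2]), (0, [0, 0, 0, 0, 0]),
        (4, [0, 0, 0, 0, 0]), (5, [0, 0, 0, 0, 0]), (1, [0, 3, 4, 2, 2]), (1, [1, 0, 0, 0, 0]),
        (1, [2, 0, 0, 0, 0]), (1, [0, 1, 0, 0, 0]), (1, [0, 2, 0, 0, 0]), (1, [0, 0, 1, 0, 0]),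
        (1, [0, 0, 0, 0, 2]), (1, [0, 0, 0, 0, 1]), (1, [0, 0, 0, 1, 0]), (1, [0, 0, 0, 0, 1]),
        (6, [0, 0, 0, 0, 0]), (7, [0, 0, 0, 0, 0]), (2, [0, 4, 2, 3, 1]), (4, [0, 0, 0, 0, 0]),
        (8, [0, 0, 0, 0, 0]), (9, [0, 0, 0, 0, 0]), (10, [0, 0, 0, 0, 0]), (10, [0, 1, 4, 3, 2]),
        (11, [0, 0, 0, 0, 0]), (10, [0, 5, 1, 3, 0]), (2, [0, 4, 4, 0, 0]), (2, [0, 2, 0, 3, 2]),
        (12, [0, 0, 0, 0, 0]), (6, [0, 4, 1, 0, 2]), (10, [0, 3, 0, 2, 2]), (6, [0, 4, 1, 0, 2]),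
        (3, [0, 2, 3, 3, 1]), (3, [5, 5, 3, 3, 2]), (3, [0, 2, 0, 3, 2]), (5, [0, 0, 0, 0, 0]),
        (9, [0, 0, 0, 0, 0]), (0, [0, 0, 0, 0, 0]), (3, [0, 3, 4, 2, 2]), (3, [1, 0, 0, 0, 0]),
        (3, [2, 0, 0, 0, 0]), (3, [0, 1, 0, 0, 0]), (3, [0, 2, 0, 0, 0]), (3, [0, 0, 1, 0, 0]),
        (3, [0, 0, 0, 0, 2]), (3, [0, 0, 0, 0, 1]), (3, [0, 0, 0, 1, 0]), (3, [0, 0, 0, 0, 1]),
        (13, [0, 0, 0, 0, 0]), (14, [0, 0, 0, 0, 0]), (4, [0, 4, 2, 3, 1]), (2, [0, 0, 0, 0, 0]),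
        (15, [0, 0, 0, 0, 0]), (16, [0, 0, 0, 0, 0]), (17, [0, 0, 0, 0, 0]), (17, [0, 1, 4, 3, 2]),
        (18, [0, 0, 0, 0, 0]), (17, [0, 5, 1, 3, 0]), (4, [0, 4, 4, 0, 0]), (4, [0, 2, 0, 3, 2]),
        (19, [0, 0, 0, 0, 0]), (13, [0, 4, 1, 0, 2]), (17, [0, 3, 0, 2, 2]), (13, [0, 4, 1, 0, 2]),
        (5, [0, 2, 3, 3, 1]), (5, [5, 5, 3, 3, 2]), (5, [0, 2, 0, 3, 2]), (3, [0, 0, 0, 0, 0]),
        (16, [0, 0, 0, 0, 0]), (1, [0, 0, 0, 0, 0]), (5, [0, 3, 4, 2, 2]), (5, [1, 0, 0, 0, 0]),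
        (5, [2, 0, 0, 0, 0]), (5, [0, 1, 0, 0, 0]), (5, [0, 2, 0, 0, 0]), (5, [0, 0, 1, 0, 0]),
        (5, [0, 0, 0, 0, 2]), (5, [0, 0, 0, 0, 1]), (5, [0, 0, 0, 1, 0]), (5, [0, 0, 0, 0, 1]),
        (10, [0, 4, 2, 1, 0]), (2, [0, 0, 2, 2, 2]), (12, [0, 2, 3, 1, 1]), (13, [0, 0, 0, 0, 0]),
        (12, [2, 5, 2, 0, 0]), (20, [0, 0, 0, 0, 0]), (6, [0, 4, 1, 0, 2]), (6, [0, 3, 4, 2, 2]),
        (2, [0, 4, 1, 1, 0]), (7, [0, 3, 4, 2, 1]), (10, [0, 1, 0, 2, 1]), (6, [0, 0, 4, 1, 2]),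
        (2, [0, 2, 1, 0, 0]), (12, [0, 2, 1, 0, 0]), (7, [0, 1, 3, 1, 2]), (12, [0, 2, 1, 0, 0]),
        (12, [0, 1, 0, 0, 0]), (12, [0, 1, 3, 2, 1]), (7, [0, 4, 0, 1, 0]), (14, [0, 0, 0, 0, 0]),
        (6, [1, 4, 4, 3, 1]), (21, [0, 0, 0, 0, 0]), (2, [0, 4, 1, 3, 0]), (7, [0, 5, 1, 0, 1]),
        (6, [0, 1, 2, 2, 1]), (6, [0, 2, 1, 1, 0]), (7, [0, 4, 2, 2, 0]), (12, [0, 3, 1, 3, 1]),
        (10, [0, 3, 0, 1, 2]), (11, [0, 0, 1, 0, 0]), (12, [0, 0, 0, 1, 0]), (11, [0, 0, 1, 0, 0]),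
        (8, [3, 2, 0, 2, 2]), (10, [1, 4, 1, 0, 1]), (8, [0, 0, 1, 0, 0]), (15, [0, 0, 0, 0, 0]),
        (0, [0, 0, 0, 0, 0]), (22, [0, 0, 0, 0, 0]), (8, [5, 0, 1, 2, 0]), (11, [6, 4, 0, 2, 1]),
        (7, [6, 2, 1, 1, 0]), (8, [5, 1, 3, 3, 1]), (8, [0, 1, 4, 0, 2]), (8, [0, 4, 2, 3, 1]),
        (8, [2, 4, 4, 2, 1]), (8, [3, 4, 0, 0, 0]), (8, [5, 0, 3, 0, 1]), (8, [3, 4, 0, 0, 0]),
        (20, [0, 0, 0, 0, 0]), (21, [0, 0, 0, 0, 0]), (9, [0, 4, 2, 3, 1]), (16, [0, 0, 0, 0, 0]),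
        (22, [0, 0, 0, 0, 0]), (2, [0, 0, 0, 0, 0]), (23, [0, 0, 0, 0, 0]), (23, [0, 1, 4, 3, 2]),
        (24, [0, 0, 0, 0, 0]), (23, [0, 5, 1, 3, 0]), (9, [0, 4, 4, 0, 0]), (9, [0, 2, 0, 3, 2]),
        (25, [0, 0, 0, 0, 0]), (20, [0, 4, 1, 0, 2]), (23, [0, 3, 0, 2, 2]), (20, [0, 4, 1, 0, 2]),
        (11, [0, 0, 1, 2, 1]), (6, [0, 0, 1, 0, 2]), (11, [0, 0, 3, 3, 1]), (17, [0, 0, 0, 0, 0]),
        (10, [3, 2, 2, 0, 1]), (23, [0, 0, 0, 0, 0]), (12, [0, 5, 3, 3, 1]), (8, [4, 1, 4, 3, 1]),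
        (8, [4, 2, 4, 3, 2]), (12, [0, 1, 4, 2, 2]), (6, [0, 4, 3, 2, 1]), (11, [0, 2, 0, 1, 2]),
        (11, [0, 2, 4, 1, 1]), (7, [0, 4, 2, 1, 2]), (11, [0, 2, 3, 3, 2]), (7, [0, 4, 2, 1, 2]),
        (2, [0, 3, 4, 2, 0]), (8, [4, 4, 0, 1, 0]), (10, [0, 0, 4, 2, 2]), (18, [0, 0, 0, 0, 0]),
        (11, [2, 0, 4, 0, 2]), (24, [0, 0, 0, 0, 0]), (7, [0, 4, 3, 0, 1]), (12, [0, 5, 4, 2, 0]),
        (12, [0, 4, 1, 2, 1]), (2, [0, 1, 3, 3, 2]), (12, [0, 4, 1, 3, 2]), (10, [0, 2, 0, 1, 2]),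
        (7, [0, 0, 1, 0, 0]), (10, [0, 3, 4, 2, 0]), (2, [0, 0, 1, 1, 2]), (10, [0, 3, 4, 2, 0]),
        (7, [0, 2, 2, 0, 0]), (11, [0, 5, 3, 2, 2]), (6, [0, 5, 1, 2, 1]), (19, [0, 0, 0, 0, 0]),
        (7, [2, 0, 4, 2, 1]), (25, [0, 0, 0, 0, 0]), (11, [0, 2, 1, 1, 2]), (2, [0, 1, 1, 1, 1]),
        (10, [0, 4, 4, 0, 1]), (11, [0, 4, 1, 0, 1]), (11, [0, 2, 4, 2, 0]), (7, [0, 5, 3, 0, 0]),
        (6, [0, 4, 1, 0, 2]), (2, [0, 0, 0, 0, 0]), (6, [0, 4, 3, 3, 0]), (2, [0, 0, 0, 0, 0]),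
        (17, [0, 4, 2, 1, 0]), (4, [0, 0, 2, 2, 2]), (19, [0, 2, 3, 1, 1]), (6, [0, 0, 0, 0, 0]),
        (19, [2, 5, 2, 0, 0]), (26, [0, 0, 0, 0, 0]), (13, [0, 4, 1, 0, 2]), (13, [0, 3, 4, 2, 2]),
        (4, [0, 4, 1, 1, 0]), (14, [0, 3, 4, 2, 1]), (17, [0, 1, 0, 2, 1]), (13, [0, 0, 4, 1, 2]),
        (4, [0, 2, 1, 0, 0]), (19, [0, 2, 1, 0, 0]), (14, [0, 1, 3, 1, 2]), (19, [0, 2, 1, 0, 0]),
        (19, [0, 1, 0, 0, 0]), (19, [0, 1, 3, 2, 1]), (14, [0, 4, 0, 1, 0]), (7, [0, 0, 0, 0, 0]),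
        (13, [1, 4, 4, 3, 1]), (27, [0, 0, 0, 0, 0]), (4, [0, 4, 1, 3, 0]), (14, [0, 5, 1, 0, 1]),
        (13, [0, 1, 2, 2, 1]), (13, [0, 2, 1, 1, 0]), (14, [0, 4, 2, 2, 0]), (19, [0, 3, 1, 3, 1]),
        (17, [0, 3, 0, 1, 2]), (18, [0, 0, 1, 0, 0]), (19, [0, 0, 0, 1, 0]), (18, [0, 0, 1, 0, 0]),
        (15, [3, 2, 0, 2, 2]), (17, [1, 4, 1, 0, 1]), (15, [0, 0, 1, 0, 0]), (8, [0, 0, 0, 0, 0]),
        (1, [0, 0, 0, 0, 0]), (28, [0, 0, 0, 0, 0]), (15, [5, 0, 1, 2, 0]), (18, [6, 4, 0, 2, 1]),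
        (14, [6, 2, 1, 1, 0]), (15, [5, 1, 3, 3, 1]), (15, [0, 1, 4, 0, 2]), (15, [0, 4, 2, 3, 1]),
        (15, [2, 4, 4, 2, 1]), (15, [3, 4, 0, 0, 0]), (15, [5, 0, 3, 0, 1]), (15, [3, 4, 0, 0, 0]),
        (26, [0, 0, 0, 0, 0]), (27, [0, 0, 0, 0, 0]), (16, [0, 4, 2, 3, 1]), (9, [0, 0, 0, 0, 0]),
        (28, [0, 0, 0, 0, 0]), (4, [0, 0, 0, 0, 0]), (29, [0, 0, 0, 0, 0]), (29, [0, 1, 4, 3, 2]),
        (30, [0, 0, 0, 0, 0]), (29, [0, 5, 1, 3, 0]), (16, [0, 4, 4, 0, 0]), (16, [0, 2, 0, 3, 2]),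
        (31, [0, 0, 0, 0, 0]), (26, [0, 4, 1, 0, 2]), (29, [0, 3, 0, 2, 2]), (26, [0, 4, 1, 0, 2]),
        (18, [0, 0, 1, 2, 1]), (13, [0, 0, 1, 0, 2]), (18, [0, 0, 3, 3, 1]), (10, [0, 0, 0, 0, 0]),
        (17, [3, 2, 2, 0, 1]), (29, [0, 0, 0, 0, 0]), (19, [0, 5, 3, 3, 1]), (15, [4, 1, 4, 3, 1]),
        (15, [4, 2, 4, 3, 2]), (19, [0, 1, 4, 2, 2]), (13, [0, 4, 3, 2, 1]), (18, [0, 2, 0, 1, 2]),
        (18, [0, 2, 4, 1, 1]), (14, [0, 4, 2, 1, 2]), (18, [0, 2, 3, 3, 2]), (14, [0, 4, 2, 1, 2]),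
        (4, [0, 3, 4, 2, 0]), (15, [4, 4, 0, 1, 0]), (17, [0, 0, 4, 2, 2]), (11, [0, 0, 0, 0, 0]),
        (18, [2, 0, 4, 0, 2]), (30, [0, 0, 0, 0, 0]), (14, [0, 4, 3, 0, 1]), (19, [0, 5, 4, 2, 0]),
        (19, [0, 4, 1, 2, 1]), (4, [0, 1, 3, 3, 2]), (19, [0, 4, 1, 3, 2]), (17, [0, 2, 0, 1, 2]),
        (14, [0, 0, 1, 0, 0]), (17, [0, 3, 4, 2, 0]), (4, [0, 0, 1, 1, 2]), (17, [0, 3, 4, 2, 0]),
        (14, [0, 2, 2, 0, 0]), (18, [0, 5, 3, 2, 2]), (13, [0, 5, 1, 2, 1]), (12, [0, 0, 0, 0, 0]),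
        (14, [2, 0, 4, 2, 1]), (31, [0, 0, 0, 0, 0]), (18, [0, 2, 1, 1, 2]), (4, [0, 1, 1, 1, 1]),
        (17, [0, 4, 4, 0, 1]), (18, [0, 4, 1, 0, 1]), (18, [0, 2, 4, 2, 0]), (14, [0, 5, 3, 0, 0]),
        (13, [0, 4, 1, 0, 2]), (4, [0, 0, 0, 0, 0]), (13, [0, 4, 3, 3, 0]), (4, [0, 0, 0, 0, 0]),
        (23, [0, 4, 2, 1, 0]), (9, [0, 0, 2, 2, 2]), (25, [0, 2, 3, 1, 1]), (26, [0, 0, 0, 0, 0]),
        (25, [2, 5, 2, 0, 0]), (6, [0, 0, 0, 0, 0]), (20, [0, 4, 1, 0, 2]), (20, [0, 3, 4, 2, 2]),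
        (9, [0, 4, 1, 1, 0]), (21, [0, 3, 4, 2, 1]), (23, [0, 1, 0, 2, 1]), (20, [0, 0, 4, 1, 2]),
        (9, [0, 2, 1, 0, 0]), (25, [0, 2, 1, 0, 0]), (21, [0, 1, 3, 1, 2]), (25, [0, 2, 1, 0, 0]),
        (25, [0, 1, 0, 0, 0]), (25, [0, 1, 3, 2, 1]), (21, [0, 4, 0, 1, 0]), (27, [0, 0, 0, 0, 0]),
        (20, [1, 4, 4, 3, 1]), (7, [0, 0, 0, 0, 0]), (9, [0, 4, 1, 3, 0]), (21, [0, 5, 1, 0, 1]),
        (20, [0, 1, 2, 2, 1]), (20, [0, 2, 1, 1, 0]), (21, [0, 4, 2, 2, 0]), (25, [0, 3, 1, 3, 1]),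
        (23, [0, 3, 0, 1, 2]), (24, [0, 0, 1, 0, 0]), (25, [0, 0, 0, 1, 0]), (24, [0, 0, 1, 0, 0]),
        (22, [3, 2, 0, 2, 2]), (23, [1, 4, 1, 0, 1]), (22, [0, 0, 1, 0, 0]), (28, [0, 0, 0, 0, 0]),
        (3, [0, 0, 0, 0, 0]), (8, [0, 0, 0, 0, 0]), (22, [5, 0, 1, 2, 0]), (24, [6, 4, 0, 2, 1]),
        (21, [6, 2, 1, 1, 0]), (22, [5, 1, 3, 3, 1]), (22, [0, 1, 4, 0, 2]), (22, [0, 4, 2, 3, 1]),
        (22, [2, 4, 4, 2, 1]), (22, [3, 4, 0, 0, 0]), (22, [5, 0, 3, 0, 1]), (22, [3, 4, 0, 0, 0]),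
        (24, [0, 0, 1, 2, 1]), (20, [0, 0, 1, 0, 2]), (24, [0, 0, 3, 3, 1]), (29, [0, 0, 0, 0, 0]),
        (23, [3, 2, 2, 0, 1]), (10, [0, 0, 0, 0, 0]), (25, [0, 5, 3, 3, 1]), (22, [4, 1, 4, 3, 1]),
        (22, [4, 2, 4, 3, 2]), (25, [0, 1, 4, 2, 2]), (20, [0, 4, 3, 2, 1]), (24, [0, 2, 0, 1, 2]),
        (24, [0, 2, 4, 1, 1]), (21, [0, 4, 2, 1, 2]), (24, [0, 2, 3, 3, 2]), (21, [0, 4, 2, 1, 2]),
        (9, [0, 3, 4, 2, 0]), (22, [4, 4, 0, 1, 0]), (23, [0, 0, 4, 2, 2]), (30, [0, 0, 0, 0, 0]),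
        (24, [2, 0, 4, 0, 2]), (11, [0, 0, 0, 0, 0]), (21, [0, 4, 3, 0, 1]), (25, [0, 5, 4, 2, 0]),
        (25, [0, 4, 1, 2, 1]), (9, [0, 1, 3, 3, 2]), (25, [0, 4, 1, 3, 2]), (23, [0, 2, 0, 1, 2]),
        (21, [0, 0, 1, 0, 0]), (23, [0, 3, 4, 2, 0]), (9, [0, 0, 1, 1, 2]), (23, [0, 3, 4, 2, 0]),
        (21, [0, 2, 2, 0, 0]), (24, [0, 5, 3, 2, 2]), (20, [0, 5, 1, 2, 1]), (31, [0, 0, 0, 0, 0]),
        (21, [2, 0, 4, 2, 1]), (12, [0, 0, 0, 0, 0]), (24, [0, 2, 1, 1, 2]), (9, [0, 1, 1, 1, 1]),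
        (23, [0, 4, 4, 0, 1]), (24, [0, 4, 1, 0, 1]), (24, [0, 2, 4, 2, 0]), (21, [0, 5, 3, 0, 0]),
        (20, [0, 4, 1, 0, 2]), (9, [0, 0, 0, 0, 0]), (20, [0, 4, 3, 3, 0]), (9, [0, 0, 0, 0, 0]),
        (29, [0, 4, 2, 1, 0]), (16, [0, 0, 2, 2, 2]), (31, [0, 2, 3, 1, 1]), (20, [0, 0, 0, 0, 0]),
        (31, [2, 5, 2, 0, 0]), (13, [0, 0, 0, 0, 0]), (26, [0, 4, 1, 0, 2]), (26, [0, 3, 4, 2, 2]),
        (16, [0, 4, 1, 1, 0]), (27, [0, 3, 4, 2, 1]), (29, [0, 1, 0, 2, 1]), (26, [0, 0, 4, 1, 2]),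
        (16, [0, 2, 1, 0, 0]), (31, [0, 2, 1, 0, 0]), (27, [0, 1, 3, 1, 2]), (31, [0, 2, 1, 0, 0]),
        (31, [0, 1, 0, 0, 0]), (31, [0, 1, 3, 2, 1]), (27, [0, 4, 0, 1, 0]), (21, [0, 0, 0, 0, 0]),
        (26, [1, 4, 4, 3, 1]), (14, [0, 0, 0, 0, 0]), (16, [0, 4, 1, 3, 0]), (27, [0, 5, 1, 0, 1]),
        (26, [0, 1, 2, 2, 1]), (26, [0, 2, 1, 1, 0]), (27, [0, 4, 2, 2, 0]), (31, [0, 3, 1, 3, 1]),
        (29, [0, 3, 0, 1, 2]), (30, [0, 0, 1, 0, 0]), (31, [0, 0, 0, 1, 0]), (30, [0, 0, 1, 0, 0]),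
        (28, [3, 2, 0, 2, 2]), (29, [1, 4, 1, 0, 1]), (28, [0, 0, 1, 0, 0]), (22, [0, 0, 0, 0, 0]),
        (5, [0, 0, 0, 0, 0]), (15, [0, 0, 0, 0, 0]), (28, [5, 0, 1, 2, 0]), (30, [6, 4, 0, 2, 1]),
        (27, [6, 2, 1, 1, 0]), (28, [5, 1, 3, 3, 1]), (28, [0, 1, 4, 0, 2]), (28, [0, 4, 2, 3, 1]),
        (28, [2, 4, 4, 2, 1]), (28, [3, 4, 0, 0, 0]), (28, [5, 0, 3, 0, 1]), (28, [3, 4, 0, 0, 0]),
        (30, [0, 0, 1, 2, 1]), (26, [0, 0, 1, 0, 2]), (30, [0, 0, 3, 3, 1]), (23, [0, 0, 0, 0, 0]),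
        (29, [3, 2, 2, 0, 1]), (17, [0, 0, 0, 0, 0]), (31, [0, 5, 3, 3, 1]), (28, [4, 1, 4, 3, 1]),
        (28, [4, 2, 4, 3, 2]), (31, [0, 1, 4, 2, 2]), (26, [0, 4, 3, 2, 1]), (30, [0, 2, 0, 1, 2]),
        (30, [0, 2, 4, 1, 1]), (27, [0, 4, 2, 1, 2]), (30, [0, 2, 3, 3, 2]), (27, [0, 4, 2, 1, 2]),
        (16, [0, 3, 4, 2, 0]), (28, [4, 4, 0, 1, 0]), (29, [0, 0, 4, 2, 2]), (24, [0, 0, 0, 0, 0]),
        (30, [2, 0, 4, 0, 2]), (18, [0, 0, 0, 0, 0]), (27, [0, 4, 3, 0, 1]), (31, [0, 5, 4, 2, 0]),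
        (31, [0, 4, 1, 2, 1]), (16, [0, 1, 3, 3, 2]), (31, [0, 4, 1, 3, 2]), (29, [0, 2, 0, 1, 2]),
        (27, [0, 0, 1, 0, 0]), (29, [0, 3, 4, 2, 0]), (16, [0, 0, 1, 1, 2]), (29, [0, 3, 4, 2, 0]),
        (27, [0, 2, 2, 0, 0]), (30, [0, 5, 3, 2, 2]), (26, [0, 5, 1, 2, 1]), (25, [0, 0, 0, 0, 0]),
        (27, [2, 0, 4, 2, 1]), (19, [0, 0, 0, 0, 0]), (30, [0, 2, 1, 1, 2]), (16, [0, 1, 1, 1, 1]),
        (29, [0, 4, 4, 0, 1]), (30, [0, 4, 1, 0, 1]), (30, [0, 2, 4, 2, 0]), (27, [0, 5, 3, 0, 0]),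
        (26, [0, 4, 1, 0, 2]), (16, [0, 0, 0, 0, 0]), (26, [0, 4, 3, 3, 0]), (16, [0, 0, 0, 0, 0])] },
    { b := 10
      V := [
        2375304659673, 25663369544250073, 3918560043175622233, 14054376773771903756, 8788065, 219604162252,
        38845945547, 36040394843, 1333120518241, 36040394843]
      L := [
        0, 25663369544250073, 3918560043175622233, 41731908678976394988, 1272911695233803, 6773367682764,
        31330475784404903513]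
      wit := [
        [], [1], [2], [1, 1], [1, 3], [1, 5], [2, 2]]
      steps := [
        (0, [3, 4, 2, 2]), (1, [0, 0, 0, 0]), (2, [0, 0, 0, 0]), (0, [1, 0, 0, 0]), (0, [2, 0, 0, 0]),
        (0, [0, 1, 0, 0]), (0, [0, 0, 0, 2]), (0, [0, 0, 0, 1]), (0, [0, 0, 1, 0]), (0, [0, 0, 0, 1]),
        (2, [2, 0, 2, 2]), (3, [0, 0, 0, 0]), (3, [2, 4, 1, 2]), (4, [0, 0, 0, 0]), (3, [1, 4, 3, 2]),
        (5, [0, 0, 0, 0]), (2, [2, 2, 0, 1]), (5, [3, 0, 1, 0]), (4, [1, 4, 3, 1]), (5, [3, 0, 1, 0]),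
        (4, [3, 4, 1, 1]), (2, [2, 3, 0, 1]), (6, [0, 0, 0, 0]), (6, [1, 3, 0, 0]), (2, [4, 2, 0, 1]),
        (3, [1, 2, 0, 2]), (5, [0, 4, 0, 2]), (1, [5, 1, 3, 0]), (3, [2, 3, 0, 1]), (1, [5, 1, 3, 0]),
        (1, [5, 3, 0, 1]), (4, [4, 4, 1, 2]), (5, [1, 3, 1, 2]), (1, [1, 0, 0, 0]), (1, [3, 1, 1, 0]),
        (2, [5, 2, 0, 0]), (6, [5, 4, 0, 0]), (4, [4, 3, 3, 2]), (6, [5, 2, 3, 1]), (4, [4, 3, 3, 2]),
        (5, [2, 4, 0, 1]), (5, [1, 2, 0, 2]), (1, [3, 1, 1, 1]), (5, [5, 1, 3, 0]), (4, [4, 2, 0, 1]),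
        (4, [5, 2, 2, 1]), (3, [4, 4, 2, 1]), (6, [0, 0, 1, 1]), (5, [4, 4, 3, 0]), (6, [0, 0, 1, 1]),
        (3, [1, 3, 3, 2]), (0, [2, 2, 2, 1]), (0, [5, 3, 3, 0]), (3, [5, 2, 1, 1]), (6, [1, 1, 1, 0]),
        (1, [0, 0, 0, 0]), (1, [5, 2, 1, 2]), (2, [0, 2, 3, 2]), (1, [1, 2, 2, 2]), (2, [0, 2, 3, 2]),
        (6, [5, 0, 2, 1]), (6, [0, 1, 0, 2]), (4, [3, 4, 1, 2]), (2, [3, 1, 1, 1]), (5, [2, 2, 1, 2]),
        (6, [1, 3, 1, 1]), (4, [0, 0, 1, 1]), (3, [4, 4, 0, 1]), (2, [1, 1, 0, 1]), (3, [4, 4, 0, 1])] },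
    { b := 19
      V := [
        14054376773771903756, 8788065, 219604162252, 38845945547, 36040394843, 1333120518241, 36040394843]
      L := [
        0, 14054376773771903756, 8788065, 6763691427929, 1317672469196, 225573154912092876]
      wit := [
        [], [0], [1], [0, 0], [0, 3], [0, 4]]
      steps := [
        (1, [0, 0, 0]), (2, [0, 0, 0]), (0, [1, 0, 0]), (0, [0, 0, 2]), (0, [0, 0, 1]), (0, [0, 1, 0]),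
        (0, [0, 0, 1]), (3, [0, 0, 0]), (1, [0, 1, 1]), (1, [3, 1, 2]), (4, [0, 0, 0]), (5, [0, 0, 0]),
        (5, [3, 3, 2]), (5, [0, 0, 0]), (5, [4, 3, 1]), (0, [0, 0, 0]), (4, [1, 0, 2]), (2, [0, 2, 1]),
        (2, [0, 1, 0]), (2, [0, 0, 1]), (2, [0, 1, 0]), (4, [4, 1, 2]), (4, [1, 0, 0]), (5, [0, 3, 2]),
        (3, [0, 0, 1]), (3, [0, 0, 2]), (1, [2, 1, 0]), (3, [0, 0, 2]), (0, [4, 1, 2]), (3, [1, 0, 0]),
        (2, [3, 0, 0]), (5, [0, 0, 0]), (1, [0, 0, 0]), (4, [4, 0, 0]), (1, [0, 0, 0]), (2, [0, 3, 1]),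
        (5, [3, 2, 0]), (3, [0, 3, 2]), (1, [0, 0, 0]), (4, [0, 0, 0]), (3, [3, 1, 1]), (4, [0, 0, 0])] },
    { b := 20
      V := [
        219604162252, 38845945547, 36040394843, 1333120518241, 36040394843]
      L := [
        0, 219604162252, 1814113075980, 36040743180, 9448414335780955]
      wit := [
        [], [0], [0, 1], [0, 2], [0, 1, 0]]
      steps := [
        (1, [0, 0]), (0, [0, 2]), (0, [0, 1]), (0, [1, 0]), (0, [0, 1]), (0, [0, 0]), (2, [0, 0]),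
        (3, [0, 0]), (1, [2, 1]), (3, [0, 0]), (4, [0, 0]), (3, [0, 0]), (1, [0, 0]), (4, [2, 0]),
        (1, [0, 0]), (3, [3, 2]), (1, [0, 0]), (2, [0, 0]), (2, [1, 0]), (2, [0, 0]), (2, [0, 0]),
        (4, [3, 0]), (4, [2, 2]), (3, [1, 2]), (4, [2, 2])] },
    { b := 27
      V := [
        36040394843, 1333120518241, 36040394843]
      L := [
        0, 1333120518241, 7468570006315, 1387834786521]
      wit := [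
        [], [1], [1, 0], [1, 0, 0]]
      steps := [
        (0, [1]), (1, [0]), (0, [1]), (2, [0]), (2, [1]), (2, [0]), (3, [0]), (0, [2]), (3, [0]), (1, [0]),
        (3, [2]), (1, [0])] },
    { b := 7
      V := [
        36040394843]
      L := [
        0, 36040394843, 38845945547]
      wit := [
        [], [0], [0, 0]]
      steps := [
        (1, []), (2, []), (0, [])] }]

/-- The levels of stabiliser 3. -/
def levels3 : List Level := [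
    { b := 150
      V := [
        606769448182208811, 49216217727755, 50038424635739330916, 6658315, 190503461896971,
        219943785624292075, 41706541220085779044, 3208670941124875, 12884119416281667852,
        250835921622153418596, 446223969470809, 1957780209695611225, 1647632754754852441,
        1759977650466739916, 1647632754754852441, 7754956, 1755688876393478889, 1755688876393478889]
      L := [
        0, 606769448182208811, 49216217727755, 6658315, 190503461896971, 41706541220085779044,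
        49147515024140, 31348625407510230763, 16197065028396, 47713, 57822505450445156, 3433546839348957,
        394427976954587, 3150415848150763, 3684346731113593435, 49818096318261909083, 802035161648935660,
        321701977, 31330845684422522468, 104617384204, 43188308873740916457, 604804611239688939,
        7189267650573045746443, 50135340783883, 475772388161124, 3988893595459540571, 13144936557039704420,
        711301387, 112438049551944561355, 6695512589097, 674817326152201819, 124144422218494161627,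
        250788624955169157851, 115511750731415008033, 12549926003984741, 111778226084193,
        14440094802947977945, 15589611193003980633, 602126200913412844, 41724871660678826596,
        62325504590889705, 3823927036335716, 3921564451465451876, 25163718588155993, 13171958360680321833,
        62325582101530721, 159250360743517, 31930964088321783649, 1804965757731362507, 4240581889782232812,
        111820223330141, 3921705257606175076, 782894237773248233, 446223969470813, 45590397673,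
        38650334842940928715, 125317566366969346764, 84589496280396587, 241899263815895845,
        66206281105195787, 38698075603455489740, 243637031511933707, 14436762173554661068,
        14637174546131897131, 241979036630174028, 1571970538976033, 676721607140856588, 219380979267192932,
        956134267918059, 1757923760479292197, 1615575823535885067, 57261085340912364, 5398521025433352923,
        43188308873732036329, 6263159403169789531, 407470835866788025100, 15590167557467707097,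
        38541081285414503211, 206441240574475041, 103099945593213442316, 12153808469998181,
        3988833333175958235, 603923001457691357, 103140753989622438187, 123895207341383375204,
        100647940874352221, 66276745840211801, 25198285993326284, 57195233023006988, 105375699935224318305,
        345506473181367317260, 66624668256220876, 29353737565617963755, 38508932237815558875,
        1290995655034981, 219319417621623589, 33897615925895911723, 3660741171343570636,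
        234271771254558407257, 25668387442410251, 57193033471269132, 3569729245918817, 15016743295275,
        5394101538447014633, 3669079967064804107, 462592945054464603, 234244432481696985803,
        3208661810168553, 3820430881372875, 51330750623289094877, 25805241171990827, 41724493367663007467,
        14631512077553682764, 7650227501029676, 14439862734941108971, 51333350813640735467,
        201937693526301028, 7658899992057956, 25664626010511628, 15486584765077146209, 498921858277709659,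
        493621524598536997, 824869088984130491993, 41749897669700921179, 33933693867147705051,
        1646543029210060524, 3988911315427416420, 6416950069256631019]
      wit := [
        [], [0], [1], [3], [4], [6], [0, 0], [0, 3], [0, 4], [0, 5], [0, 6], [0, 8], [0, 9], [0, 10],
        [0, 11], [0, 12], [0, 13], [1, 3], [1, 6], [1, 8], [1, 9], [1, 12], [3, 0], [3, 3], [3, 4], [3, 6],
        [4, 2], [4, 3], [4, 6], [4, 8], [4, 9], [6, 0], [6, 1], [6, 2], [6, 3], [6, 6], [6, 7], [6, 8],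
        [6, 9], [0, 0, 6], [0, 0, 8], [0, 3, 3], [0, 3, 4], [0, 3, 5], [0, 3, 6], [0, 3, 8], [0, 3, 9],
        [0, 3, 10], [0, 3, 11], [0, 3, 12], [0, 3, 13], [0, 4, 3], [0, 4, 6], [0, 4, 11], [0, 5, 3],
        [0, 5, 6], [0, 6, 2], [0, 6, 3], [0, 6, 4], [0, 6, 6], [0, 6, 7], [0, 6, 9], [0, 6, 11], [0, 6, 12],
        [0, 6, 13], [0, 8, 1], [0, 8, 3], [0, 8, 5], [0, 8, 9], [0, 9, 1], [0, 9, 3], [0, 9, 5], [0, 9, 7],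
        [0, 9, 8], [0, 9, 11], [0, 10, 0], [0, 10, 6], [0, 10, 7], [0, 11, 0], [0, 11, 2], [0, 11, 3],
        [0, 11, 6], [0, 12, 2], [0, 12, 3], [0, 12, 8], [0, 12, 11], [0, 13, 1], [0, 13, 2], [0, 13, 4],
        [1, 3, 6], [1, 3, 8], [1, 3, 9], [1, 3, 12], [1, 6, 0], [1, 6, 3], [1, 6, 8], [1, 6, 12], [1, 6, 13],
        [1, 8, 0], [1, 8, 2], [1, 8, 3], [1, 9, 5], [1, 9, 6], [1, 12, 5], [3, 0, 6], [3, 0, 12], [3, 3, 3],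
        [3, 3, 4], [3, 4, 8], [3, 6, 0], [4, 2, 9], [4, 3, 11], [4, 3, 12], [4, 3, 13], [4, 6, 1], [4, 6, 4],
        [4, 6, 5], [4, 8, 1], [4, 9, 4], [6, 0, 2], [6, 0, 12], [6, 0, 13], [6, 2, 5], [6, 3, 7], [6, 3, 9],
        [6, 8, 4], [0, 0, 6, 10], [0, 3, 3, 12]]
      steps := [
        (1, [0, 0, 0, 0, 0]), (2, [0, 0, 0, 0, 0]), (1, [1, 0, 0, 1, 0]), (3, [0, 0, 0, 0, 0]),
        (4, [0, 0, 0, 0, 0]), (4, [6, 2, 1, 0, 0]), (5, [0, 0, 0, 0, 0]), (0, [1, 0, 0, 0, 0]),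
        (0, [1, 2, 0, 0, 1]), (0, [2, 0, 0, 0, 0]), (0, [0, 0, 1, 0, 1]), (0, [0, 1, 0, 0, 0]),
        (0, [0, 0, 1, 0, 0]), (0, [0, 0, 0, 1, 1]), (0, [0, 0, 1, 0, 0]), (0, [0, 0, 0, 1, 0]),
        (0, [0, 0, 0, 0, 1]), (0, [0, 0, 0, 0, 1]), (6, [0, 0, 0, 0, 0]), (6, [0, 1, 1, 1, 1]),
        (2, [3, 0, 0, 0, 0]), (7, [0, 0, 0, 0, 0]), (8, [0, 0, 0, 0, 0]), (9, [0, 0, 0, 0, 0]),
        (10, [0, 0, 0, 0, 0]), (6, [1, 1, 1, 1, 1]), (11, [0, 0, 0, 0, 0]), (12, [0, 0, 0, 0, 0]),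
        (13, [0, 0, 0, 0, 0]), (14, [0, 0, 0, 0, 0]), (15, [0, 0, 0, 0, 0]), (16, [0, 0, 0, 0, 0]),
        (15, [0, 0, 0, 0, 0]), (1, [0, 0, 0, 1, 0]), (16, [0, 0, 0, 1, 0]), (16, [0, 0, 0, 1, 0]),
        (0, [0, 1, 1, 1, 1]), (0, [0, 0, 0, 0, 0]), (6, [3, 1, 1, 1, 1]), (17, [0, 0, 0, 0, 0]),
        (9, [6, 1, 0, 1, 1]), (8, [6, 1, 0, 0, 1]), (18, [0, 0, 0, 0, 0]), (1, [3, 1, 1, 0, 1]),
        (19, [0, 0, 0, 0, 0]), (20, [0, 0, 0, 0, 0]), (14, [0, 0, 0, 0, 0]), (13, [0, 0, 0, 0, 0]),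
        (21, [0, 0, 0, 0, 0]), (12, [8, 0, 1, 0, 1]), (21, [0, 0, 0, 0, 0]), (2, [0, 0, 0, 1, 0]),
        (12, [8, 0, 1, 1, 1]), (12, [8, 0, 1, 1, 1]), (22, [0, 0, 0, 0, 0]), (7, [0, 1, 1, 1, 1]),
        (22, [1, 0, 0, 1, 0]), (23, [0, 0, 0, 0, 0]), (24, [0, 0, 0, 0, 0]), (24, [8, 0, 1, 0, 1]),
        (25, [0, 0, 0, 0, 0]), (3, [1, 0, 0, 0, 0]), (3, [1, 0, 1, 1, 1]), (3, [7, 2, 1, 0, 1]),
        (3, [0, 0, 0, 1, 1]), (3, [3, 1, 1, 1, 0]), (3, [5, 0, 1, 1, 0]), (3, [5, 0, 1, 0, 1]),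
        (3, [5, 0, 1, 1, 0]), (3, [0, 0, 0, 1, 0]), (3, [5, 0, 1, 1, 1]), (3, [5, 0, 1, 1, 1]),
        (8, [0, 0, 0, 0, 0]), (9, [6, 1, 0, 1, 1]), (26, [0, 0, 0, 0, 0]), (27, [0, 0, 0, 0, 0]),
        (0, [0, 0, 0, 0, 0]), (0, [6, 2, 1, 0, 0]), (28, [0, 0, 0, 0, 0]), (8, [3, 1, 1, 0, 1]),
        (29, [0, 0, 0, 0, 0]), (30, [0, 0, 0, 0, 0]), (4, [7, 1, 1, 1, 0]), (4, [7, 2, 0, 1, 1]),
        (29, [6, 2, 0, 1, 1]), (29, [0, 1, 0, 0, 0]), (29, [6, 2, 0, 1, 1]), (4, [0, 0, 0, 1, 0]),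
        (29, [0, 1, 0, 1, 0]), (29, [0, 1, 0, 1, 0]), (31, [0, 0, 0, 0, 0]), (32, [0, 0, 0, 0, 0]),
        (33, [0, 0, 0, 0, 0]), (34, [0, 0, 0, 0, 0]), (19, [6, 1, 1, 0, 1]), (14, [3, 1, 0, 0, 1]),
        (35, [0, 0, 0, 0, 0]), (36, [0, 0, 0, 0, 0]), (37, [0, 0, 0, 0, 0]), (38, [0, 0, 0, 0, 0]),
        (8, [8, 0, 0, 1, 1]), (9, [3, 1, 0, 0, 1]), (8, [7, 0, 0, 1, 0]), (5, [4, 0, 0, 0, 1]),
        (8, [7, 0, 0, 1, 0]), (5, [0, 0, 0, 1, 0]), (5, [4, 0, 0, 1, 1]), (5, [4, 0, 0, 1, 1]),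
        (2, [0, 1, 1, 1, 1]), (1, [0, 1, 1, 1, 1]), (0, [3, 1, 1, 1, 1]), (22, [3, 1, 1, 1, 1]),
        (26, [3, 1, 1, 1, 1]), (26, [8, 1, 0, 0, 0]), (39, [0, 0, 0, 0, 0]), (2, [1, 0, 0, 0, 0]),
        (40, [0, 0, 0, 0, 0]), (16, [9, 1, 0, 0, 0]), (35, [6, 2, 0, 1, 1]), (35, [6, 1, 1, 1, 0]),
        (28, [5, 0, 0, 1, 0]), (20, [9, 0, 1, 1, 1]), (28, [5, 0, 0, 1, 0]), (6, [0, 0, 0, 1, 0]),
        (20, [9, 0, 1, 0, 1]), (20, [9, 0, 1, 0, 1]), (3, [3, 0, 0, 0, 0]), (3, [0, 1, 1, 1, 1]),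
        (17, [1, 0, 0, 1, 0]), (41, [0, 0, 0, 0, 0]), (42, [0, 0, 0, 0, 0]), (43, [0, 0, 0, 0, 0]),
        (44, [0, 0, 0, 0, 0]), (22, [1, 0, 0, 0, 0]), (45, [0, 0, 0, 0, 0]), (46, [0, 0, 0, 0, 0]),
        (47, [0, 0, 0, 0, 0]), (48, [0, 0, 0, 0, 0]), (49, [0, 0, 0, 0, 0]), (50, [0, 0, 0, 0, 0]),
        (49, [0, 0, 0, 0, 0]), (7, [0, 0, 0, 1, 0]), (50, [0, 0, 0, 1, 0]), (50, [0, 0, 0, 1, 0]),
        (26, [3, 1, 1, 1, 1]), (26, [3, 0, 0, 0, 0]), (4, [3, 0, 0, 0, 0]), (51, [0, 0, 0, 0, 0]),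
        (1, [0, 0, 0, 0, 0]), (2, [6, 1, 0, 1, 1]), (52, [0, 0, 0, 0, 0]), (9, [9, 1, 0, 0, 0]),
        (38, [3, 1, 1, 0, 0]), (29, [9, 2, 1, 0, 0]), (5, [2, 2, 0, 1, 0]), (53, [0, 0, 0, 0, 0]),
        (5, [3, 0, 0, 0, 1]), (8, [5, 0, 1, 0, 1]), (5, [3, 0, 0, 0, 1]), (8, [0, 0, 0, 1, 0]),
        (8, [5, 0, 1, 1, 1]), (8, [5, 0, 1, 1, 1]), (4, [6, 2, 1, 1, 0]), (4, [6, 1, 0, 1, 1]),
        (8, [9, 0, 1, 1, 1]), (54, [0, 0, 0, 0, 0]), (2, [6, 1, 0, 1, 1]), (1, [0, 0, 0, 1, 0]),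
        (55, [0, 0, 0, 0, 0]), (4, [9, 0, 1, 0, 1]), (4, [9, 2, 1, 0, 0]), (8, [2, 2, 1, 1, 0]),
        (53, [6, 1, 0, 1, 1]), (5, [5, 0, 0, 1, 1]), (37, [2, 2, 0, 1, 0]), (30, [1, 0, 0, 1, 0]),
        (37, [2, 2, 0, 1, 0]), (9, [0, 0, 0, 1, 0]), (30, [1, 0, 0, 0, 0]), (30, [1, 0, 0, 0, 0]),
        (29, [1, 1, 0, 0, 1]), (38, [3, 2, 1, 0, 1]), (56, [0, 0, 0, 0, 0]), (57, [0, 0, 0, 0, 0]),
        (58, [0, 0, 0, 0, 0]), (16, [4, 0, 0, 1, 1]), (59, [0, 0, 0, 0, 0]), (60, [0, 0, 0, 0, 0]),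
        (60, [0, 2, 0, 1, 1]), (61, [0, 0, 0, 0, 0]), (61, [2, 0, 0, 1, 1]), (62, [0, 0, 0, 0, 0]),
        (63, [0, 0, 0, 0, 0]), (64, [0, 0, 0, 0, 0]), (63, [0, 0, 0, 0, 0]), (10, [0, 0, 0, 1, 0]),
        (64, [0, 0, 0, 1, 0]), (64, [0, 0, 0, 1, 0]), (59, [8, 1, 0, 0, 1]), (65, [0, 0, 0, 0, 0]),
        (28, [8, 0, 0, 0, 0]), (66, [0, 0, 0, 0, 0]), (57, [9, 0, 0, 0, 0]), (67, [0, 0, 0, 0, 0]),
        (29, [5, 2, 0, 0, 1]), (12, [6, 1, 0, 1, 1]), (20, [6, 1, 0, 0, 1]), (68, [0, 0, 0, 0, 0]),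
        (11, [6, 1, 0, 0, 1]), (11, [8, 0, 1, 1, 1]), (40, [8, 1, 0, 0, 0]), (40, [3, 0, 0, 0, 0]),
        (40, [8, 1, 0, 0, 0]), (11, [0, 0, 0, 1, 0]), (40, [3, 0, 0, 1, 0]), (40, [3, 0, 0, 1, 0]),
        (28, [7, 0, 0, 0, 1]), (69, [0, 0, 0, 0, 0]), (47, [9, 0, 0, 0, 1]), (70, [0, 0, 0, 0, 0]),
        (44, [7, 1, 0, 0, 0]), (71, [0, 0, 0, 0, 0]), (8, [7, 0, 0, 0, 1]), (72, [0, 0, 0, 0, 0]),
        (73, [0, 0, 0, 0, 0]), (28, [4, 2, 1, 1, 1]), (21, [8, 0, 1, 0, 1]), (74, [0, 0, 0, 0, 0]),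
        (14, [8, 0, 1, 0, 1]), (2, [8, 0, 1, 1, 1]), (14, [8, 0, 1, 0, 1]), (12, [0, 0, 0, 1, 0]),
        (2, [8, 0, 1, 0, 1]), (2, [8, 0, 1, 0, 1]), (75, [0, 0, 0, 0, 0]), (49, [8, 2, 1, 0, 1]),
        (70, [2, 1, 0, 1, 1]), (55, [9, 0, 1, 1, 0]), (29, [3, 1, 1, 0, 1]), (53, [6, 1, 0, 0, 1]),
        (76, [0, 0, 0, 0, 0]), (77, [0, 0, 0, 0, 0]), (21, [6, 1, 0, 1, 1]), (72, [3, 1, 1, 1, 1]),
        (1, [0, 0, 0, 0, 0]), (2, [0, 0, 0, 1, 0]), (16, [0, 0, 0, 0, 0]), (15, [0, 0, 0, 0, 0]),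
        (16, [0, 0, 0, 0, 0]), (13, [0, 0, 0, 1, 0]), (15, [0, 0, 0, 1, 0]), (15, [0, 0, 0, 1, 0]),
        (78, [0, 0, 0, 0, 0]), (58, [5, 2, 0, 0, 0]), (79, [0, 0, 0, 0, 0]), (80, [0, 0, 0, 0, 0]),
        (38, [7, 0, 0, 1, 0]), (5, [5, 0, 0, 1, 1]), (81, [0, 0, 0, 0, 0]), (78, [5, 0, 1, 1, 1]),
        (15, [6, 1, 0, 0, 1]), (73, [3, 1, 1, 1, 1]), (2, [0, 0, 0, 0, 0]), (1, [0, 0, 0, 1, 0]),
        (12, [8, 0, 1, 0, 1]), (21, [0, 0, 0, 0, 0]), (12, [8, 0, 1, 0, 1]), (14, [0, 0, 0, 1, 0]),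
        (21, [0, 0, 0, 1, 0]), (21, [0, 0, 0, 1, 0]), (41, [1, 2, 1, 1, 1]), (41, [1, 2, 1, 0, 0]),
        (82, [0, 0, 0, 0, 0]), (83, [0, 0, 0, 0, 0]), (62, [2, 1, 1, 1, 0]), (61, [3, 2, 0, 0, 0]),
        (53, [9, 1, 0, 1, 0]), (41, [0, 2, 1, 0, 0]), (84, [0, 0, 0, 0, 0]), (74, [0, 0, 0, 1, 0]),
        (16, [0, 0, 0, 1, 0]), (85, [0, 0, 0, 0, 0]), (1, [0, 0, 0, 1, 0]), (13, [0, 0, 0, 0, 0]),
        (1, [0, 0, 0, 1, 0]), (15, [0, 0, 0, 1, 0]), (13, [0, 0, 0, 1, 0]), (13, [0, 0, 0, 1, 0]),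
        (50, [8, 1, 0, 1, 1]), (86, [0, 0, 0, 0, 0]), (87, [0, 0, 0, 0, 0]), (47, [0, 0, 0, 0, 0]),
        (88, [0, 0, 0, 0, 0]), (10, [4, 0, 0, 0, 1]), (36, [6, 0, 0, 0, 0]), (73, [8, 0, 1, 1, 1]),
        (72, [8, 0, 1, 1, 1]), (21, [8, 0, 1, 0, 1]), (15, [0, 0, 0, 1, 0]), (82, [4, 0, 0, 0, 0]),
        (13, [0, 0, 0, 1, 0]), (1, [0, 0, 0, 0, 0]), (13, [0, 0, 0, 1, 0]), (16, [0, 0, 0, 1, 0]),
        (1, [0, 0, 0, 1, 0]), (1, [0, 0, 0, 1, 0]), (7, [1, 0, 0, 1, 0]), (22, [3, 1, 1, 1, 1]),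
        (3, [1, 1, 1, 0, 1]), (15, [6, 0, 0, 1, 1]), (64, [9, 1, 1, 0, 1]), (64, [3, 2, 0, 0, 1]),
        (89, [0, 0, 0, 0, 0]), (7, [3, 1, 1, 0, 1]), (90, [0, 0, 0, 0, 0]), (91, [0, 0, 0, 0, 0]),
        (70, [8, 0, 1, 0, 1]), (70, [6, 1, 0, 0, 1]), (92, [0, 0, 0, 0, 0]), (46, [8, 0, 1, 1, 1]),
        (92, [0, 0, 0, 0, 0]), (17, [0, 0, 0, 1, 0]), (46, [8, 0, 1, 0, 1]), (46, [8, 0, 1, 0, 1]),
        (93, [0, 0, 0, 0, 0]), (56, [7, 2, 0, 1, 1]), (10, [7, 2, 0, 1, 1]), (94, [0, 0, 0, 0, 0]),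
        (75, [1, 2, 1, 1, 1]), (92, [6, 2, 0, 1, 1]), (65, [9, 0, 0, 1, 0]), (93, [7, 1, 1, 1, 0]),
        (95, [0, 0, 0, 0, 0]), (93, [0, 2, 1, 1, 1]), (95, [5, 1, 1, 1, 0]), (94, [4, 2, 1, 1, 1]),
        (96, [0, 0, 0, 0, 0]), (97, [0, 0, 0, 0, 0]), (96, [0, 0, 0, 0, 0]), (18, [0, 0, 0, 1, 0]),
        (97, [0, 0, 0, 1, 0]), (97, [0, 0, 0, 1, 0]), (98, [0, 0, 0, 0, 0]), (92, [1, 1, 0, 0, 0]),
        (99, [0, 0, 0, 0, 0]), (100, [0, 0, 0, 0, 0]), (5, [1, 1, 0, 1, 1]), (38, [4, 1, 1, 0, 1]),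
        (37, [6, 0, 0, 1, 0]), (20, [6, 1, 0, 0, 1]), (12, [6, 1, 0, 1, 1]), (84, [3, 1, 1, 0, 1]),
        (19, [6, 1, 0, 1, 1]), (40, [9, 1, 0, 0, 0]), (19, [8, 0, 1, 0, 1]), (19, [3, 1, 1, 1, 1]),
        (19, [8, 0, 1, 0, 1]), (19, [0, 0, 0, 1, 0]), (19, [3, 1, 1, 0, 1]), (19, [3, 1, 1, 0, 1]),
        (99, [6, 1, 0, 1, 1]), (99, [6, 1, 1, 0, 0]), (19, [6, 1, 1, 0, 0]), (48, [6, 1, 0, 1, 1]),
        (33, [0, 0, 0, 0, 1]), (101, [0, 0, 0, 0, 0]), (102, [0, 0, 0, 0, 0]), (85, [6, 1, 0, 1, 1]),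
        (85, [8, 0, 1, 1, 1]), (15, [3, 1, 1, 0, 1]), (28, [7, 2, 1, 1, 0]), (69, [0, 1, 0, 0, 1]),
        (35, [1, 1, 1, 0, 0]), (6, [8, 1, 0, 1, 0]), (35, [1, 1, 1, 0, 0]), (20, [0, 0, 0, 1, 0]),
        (6, [8, 1, 0, 0, 0]), (6, [8, 1, 0, 0, 0]), (55, [5, 0, 0, 1, 0]), (91, [3, 0, 1, 1, 1]),
        (80, [7, 2, 0, 1, 0]), (98, [5, 1, 1, 1, 1]), (89, [2, 2, 0, 0, 1]), (103, [0, 0, 0, 0, 0]),
        (4, [4, 1, 0, 0, 0]), (84, [0, 0, 0, 0, 0]), (41, [0, 2, 1, 0, 0]), (69, [0, 1, 0, 1, 1]),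
        (12, [8, 0, 1, 1, 1]), (72, [6, 1, 0, 0, 1]), (2, [0, 0, 0, 1, 0]), (14, [0, 0, 0, 0, 0]),
        (2, [0, 0, 0, 1, 0]), (21, [0, 0, 0, 1, 0]), (14, [0, 0, 0, 1, 0]), (14, [0, 0, 0, 1, 0]),
        (17, [0, 0, 0, 0, 0]), (17, [3, 1, 1, 1, 1]), (7, [1, 1, 1, 0, 1]), (82, [4, 1, 0, 1, 1]),
        (43, [6, 2, 1, 1, 0]), (42, [6, 2, 1, 0, 0]), (104, [0, 0, 0, 0, 0]), (17, [0, 1, 1, 0, 1]),
        (99, [9, 1, 1, 0, 1]), (50, [8, 1, 0, 1, 0]), (48, [0, 1, 1, 1, 1]), (47, [0, 1, 1, 1, 1]),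
        (105, [0, 0, 0, 0, 0]), (91, [6, 2, 1, 1, 0]), (105, [0, 0, 0, 0, 0]), (22, [0, 0, 0, 1, 0]),
        (91, [6, 2, 1, 0, 0]), (91, [6, 2, 1, 0, 0]), (15, [4, 2, 1, 0, 0]), (82, [6, 2, 0, 0, 0]),
        (15, [6, 2, 0, 0, 0]), (106, [0, 0, 0, 0, 0]), (107, [0, 0, 0, 0, 0]), (107, [9, 1, 0, 1, 0]),
        (60, [5, 2, 0, 1, 1]), (23, [1, 0, 0, 0, 0]), (23, [1, 0, 0, 0, 1]), (23, [5, 1, 1, 1, 0]),
        (23, [5, 0, 1, 0, 1]), (23, [2, 2, 1, 1, 0]), (23, [8, 2, 0, 1, 1]), (23, [7, 1, 1, 0, 0]),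
        (23, [8, 2, 0, 1, 1]), (23, [0, 0, 0, 1, 0]), (23, [7, 1, 1, 1, 0]), (23, [7, 1, 1, 1, 0]),
        (43, [6, 2, 1, 1, 0]), (42, [0, 1, 1, 1, 1]), (64, [4, 0, 0, 0, 0]), (9, [9, 0, 1, 1, 1]),
        (3, [0, 0, 0, 0, 0]), (3, [8, 0, 1, 0, 1]), (92, [1, 1, 1, 1, 0]), (43, [8, 1, 0, 1, 0]),
        (108, [0, 0, 0, 0, 0]), (57, [9, 2, 1, 1, 1]), (24, [4, 0, 0, 1, 1]), (24, [2, 1, 1, 0, 0]),
        (108, [8, 0, 1, 1, 0]), (108, [3, 1, 1, 1, 0]), (108, [8, 0, 1, 1, 0]), (24, [0, 0, 0, 1, 0]),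
        (108, [3, 1, 1, 0, 0]), (108, [3, 1, 1, 0, 0]), (109, [0, 0, 0, 0, 0]), (71, [7, 2, 0, 1, 1]),
        (97, [5, 0, 0, 0, 1]), (38, [8, 1, 1, 0, 1]), (45, [4, 1, 1, 1, 0]), (47, [2, 2, 0, 1, 0]),
        (70, [4, 0, 0, 0, 1]), (67, [7, 2, 1, 1, 0]), (26, [7, 1, 1, 0, 0]), (102, [7, 0, 0, 0, 0]),
        (43, [2, 2, 0, 1, 0]), (42, [2, 0, 0, 1, 1]), (43, [2, 1, 1, 0, 1]), (25, [0, 2, 0, 1, 1]),
        (43, [2, 1, 1, 0, 1]), (25, [0, 0, 0, 1, 0]), (25, [0, 2, 0, 0, 1]), (25, [0, 2, 0, 0, 1]),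
        (9, [9, 0, 1, 1, 1]), (8, [1, 0, 0, 1, 0]), (9, [6, 1, 0, 1, 1]), (37, [5, 0, 1, 0, 1]),
        (6, [3, 1, 1, 1, 1]), (6, [9, 0, 1, 1, 1]), (48, [2, 0, 0, 1, 1]), (26, [3, 0, 0, 1, 0]),
        (67, [9, 1, 0, 0, 0]), (110, [0, 0, 0, 0, 0]), (57, [4, 0, 0, 0, 0]), (57, [9, 1, 1, 0, 1]),
        (42, [4, 2, 0, 0, 1]), (110, [8, 1, 0, 0, 0]), (42, [4, 2, 0, 0, 1]), (26, [0, 0, 0, 1, 0]),
        (110, [8, 1, 0, 1, 0]), (110, [8, 1, 0, 1, 0]), (51, [1, 0, 0, 1, 0]), (51, [0, 1, 1, 1, 1]),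
        (54, [9, 1, 0, 1, 0]), (62, [8, 1, 1, 1, 0]), (83, [0, 1, 0, 1, 1]), (105, [1, 1, 0, 1, 1]),
        (85, [1, 1, 0, 0, 0]), (51, [3, 1, 1, 0, 1]), (51, [7, 0, 0, 1, 1]), (54, [3, 0, 1, 1, 1]),
        (104, [1, 2, 1, 1, 0]), (111, [0, 0, 0, 0, 0]), (112, [0, 0, 0, 0, 0]), (113, [0, 0, 0, 0, 0]),
        (112, [0, 0, 0, 0, 0]), (27, [0, 0, 0, 1, 0]), (113, [0, 0, 0, 1, 0]), (113, [0, 0, 0, 1, 0]),
        (100, [4, 0, 0, 0, 1]), (114, [0, 0, 0, 0, 0]), (65, [8, 2, 1, 0, 0]), (75, [2, 0, 0, 0, 0]),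
        (115, [0, 0, 0, 0, 0]), (116, [0, 0, 0, 0, 0]), (57, [3, 2, 1, 0, 0]), (68, [0, 1, 0, 0, 0]),
        (68, [3, 0, 1, 1, 1]), (82, [3, 2, 1, 1, 0]), (20, [6, 2, 0, 0, 1]), (73, [8, 1, 1, 1, 1]),
        (6, [3, 1, 0, 0, 0]), (35, [4, 1, 1, 1, 1]), (6, [3, 1, 0, 0, 0]), (28, [0, 0, 0, 1, 0]),
        (35, [4, 1, 1, 0, 1]), (35, [4, 1, 1, 0, 1]), (18, [6, 2, 0, 1, 0]), (117, [0, 0, 0, 0, 0]),
        (81, [6, 2, 1, 1, 1]), (104, [1, 1, 1, 1, 0]), (13, [3, 1, 1, 0, 1]), (40, [9, 1, 0, 0, 0]),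
        (0, [6, 1, 1, 1, 1]), (30, [6, 1, 0, 0, 1]), (30, [6, 2, 1, 1, 0]), (37, [1, 1, 1, 0, 0]),
        (29, [6, 1, 0, 1, 1]), (38, [4, 1, 1, 0, 1]), (4, [7, 2, 1, 1, 0]), (4, [0, 1, 0, 1, 0]),
        (4, [7, 2, 1, 1, 0]), (29, [0, 0, 0, 1, 0]), (4, [0, 1, 0, 0, 0]), (4, [0, 1, 0, 0, 0]),
        (81, [5, 1, 0, 1, 0]), (101, [7, 1, 0, 0, 1]), (60, [9, 1, 1, 1, 0]), (111, [6, 2, 1, 1, 0]),
        (118, [0, 0, 0, 0, 0]), (87, [7, 1, 1, 1, 0]), (78, [5, 1, 0, 1, 0]), (38, [1, 2, 1, 1, 0]),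
        (9, [7, 0, 0, 0, 1]), (5, [1, 1, 1, 0, 0]), (37, [1, 2, 1, 0, 0]), (37, [4, 1, 1, 1, 1]),
        (53, [8, 1, 0, 0, 0]), (9, [3, 0, 0, 0, 0]), (53, [8, 1, 0, 0, 0]), (30, [0, 0, 0, 1, 0]),
        (9, [3, 0, 0, 1, 0]), (9, [3, 0, 0, 1, 0]), (39, [0, 0, 0, 0, 0]), (96, [8, 0, 1, 1, 0]),
        (119, [0, 0, 0, 0, 0]), (97, [9, 2, 0, 1, 1]), (98, [6, 1, 1, 0, 1]), (49, [7, 1, 1, 0, 0]),
        (2, [0, 1, 1, 1, 1]), (39, [0, 0, 1, 0, 1]), (18, [1, 1, 0, 0, 0]), (44, [1, 2, 1, 0, 1]),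
        (93, [3, 1, 1, 0, 1]), (56, [1, 2, 0, 1, 1]), (120, [0, 0, 0, 0, 0]), (121, [0, 0, 0, 0, 0]),
        (120, [0, 0, 0, 0, 0]), (31, [0, 0, 0, 1, 0]), (121, [0, 0, 0, 1, 0]), (121, [0, 0, 0, 1, 0]),
        (53, [8, 0, 0, 0, 1]), (5, [0, 0, 0, 0, 0]), (63, [8, 0, 0, 0, 1]), (109, [9, 1, 1, 0, 1]),
        (92, [7, 1, 1, 0, 0]), (75, [3, 1, 0, 1, 1]), (41, [9, 0, 1, 0, 1]), (33, [0, 0, 1, 0, 1]),
        (115, [7, 2, 0, 1, 0]), (89, [1, 2, 1, 1, 1]), (56, [1, 2, 0, 1, 1]), (93, [3, 1, 1, 0, 1]),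
        (89, [5, 1, 0, 1, 1]), (81, [1, 1, 0, 0, 0]), (89, [5, 1, 0, 1, 1]), (32, [0, 0, 0, 1, 0]),
        (81, [1, 1, 0, 1, 0]), (81, [1, 1, 0, 1, 0]), (63, [8, 0, 1, 0, 0]), (63, [8, 0, 0, 0, 1]),
        (32, [0, 0, 0, 0, 0]), (89, [9, 1, 1, 0, 1]), (20, [0, 0, 0, 0, 1]), (122, [0, 0, 0, 0, 0]),
        (40, [3, 1, 0, 1, 0]), (96, [8, 0, 1, 0, 0]), (117, [2, 0, 0, 0, 1]), (103, [1, 1, 1, 1, 1]),
        (44, [7, 1, 0, 1, 1]), (121, [1, 0, 0, 0, 1]), (101, [3, 0, 1, 1, 1]), (116, [9, 1, 1, 0, 0]),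
        (101, [3, 0, 1, 1, 1]), (33, [0, 0, 0, 1, 0]), (116, [9, 1, 1, 1, 0]), (116, [9, 1, 1, 1, 0]),
        (25, [9, 1, 1, 0, 1]), (110, [2, 1, 1, 1, 0]), (116, [6, 2, 1, 0, 0]), (76, [6, 2, 1, 1, 0]),
        (55, [6, 1, 1, 0, 0]), (114, [6, 2, 0, 1, 1]), (22, [9, 1, 1, 0, 1]), (123, [0, 0, 0, 0, 0]),
        (54, [3, 0, 1, 1, 0]), (124, [0, 0, 0, 0, 0]), (34, [4, 0, 0, 0, 1]), (123, [1, 1, 0, 1, 0]),
        (34, [4, 1, 1, 1, 0]), (34, [0, 2, 0, 0, 1]), (34, [4, 1, 1, 1, 0]), (34, [0, 0, 0, 1, 0]),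
        (34, [0, 2, 0, 1, 1]), (34, [0, 2, 0, 1, 1]), (46, [4, 0, 1, 1, 1]), (80, [4, 0, 1, 1, 0]),
        (21, [2, 0, 0, 1, 1]), (86, [1, 0, 0, 1, 1]), (67, [7, 1, 1, 0, 1]), (57, [1, 0, 1, 0, 0]),
        (32, [6, 2, 1, 1, 0]), (52, [8, 2, 0, 1, 0]), (28, [6, 0, 0, 1, 1]), (85, [7, 0, 0, 1, 0]),
        (6, [7, 2, 1, 0, 0]), (6, [7, 1, 0, 0, 1]), (20, [7, 1, 1, 0, 1]), (28, [6, 2, 1, 1, 1]),
        (20, [7, 1, 1, 0, 1]), (35, [0, 0, 0, 1, 0]), (28, [6, 2, 1, 0, 1]), (28, [6, 2, 1, 0, 1]),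
        (33, [0, 0, 0, 1, 0]), (120, [1, 0, 0, 0, 1]), (88, [6, 1, 1, 0, 1]), (123, [0, 0, 0, 0, 0]),
        (87, [6, 1, 1, 0, 1]), (118, [6, 1, 0, 0, 0]), (86, [3, 2, 0, 0, 0]), (53, [8, 0, 1, 0, 0]),
        (53, [3, 1, 1, 0, 0]), (4, [0, 1, 1, 0, 0]), (36, [0, 2, 0, 0, 1]), (36, [0, 2, 1, 0, 0]),
        (36, [1, 2, 0, 0, 0]), (36, [1, 1, 1, 1, 1]), (36, [1, 2, 0, 0, 0]), (36, [0, 0, 0, 1, 0]),
        (36, [1, 1, 1, 0, 1]), (36, [1, 1, 1, 0, 1]), (27, [5, 0, 1, 0, 1]), (54, [5, 2, 0, 1, 1]),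
        (27, [2, 2, 0, 1, 1]), (112, [7, 1, 0, 0, 0]), (125, [0, 0, 0, 0, 0]), (125, [0, 2, 1, 1, 0]),
        (13, [6, 1, 1, 1, 1]), (37, [1, 1, 0, 0, 0]), (36, [1, 1, 0, 0, 0]), (53, [7, 2, 0, 1, 1]),
        (30, [6, 2, 0, 0, 0]), (30, [6, 2, 1, 0, 1]), (9, [8, 0, 0, 0, 1]), (53, [3, 1, 0, 1, 1]),
        (9, [8, 0, 0, 0, 1]), (37, [0, 0, 0, 1, 0]), (53, [3, 1, 0, 0, 1]), (53, [3, 1, 0, 0, 1]),
        (60, [6, 0, 1, 0, 0]), (10, [6, 0, 0, 1, 1]), (18, [6, 0, 1, 0, 1]), (124, [1, 2, 0, 1, 0]),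
        (14, [3, 0, 0, 1, 1]), (19, [6, 2, 1, 1, 1]), (15, [0, 0, 0, 1, 1]), (29, [0, 1, 0, 1, 1]),
        (8, [3, 0, 1, 1, 0]), (36, [1, 2, 0, 0, 0]), (38, [4, 0, 0, 0, 1]), (29, [6, 2, 1, 1, 1]),
        (38, [4, 1, 1, 0, 0]), (38, [0, 2, 0, 1, 1]), (38, [4, 1, 1, 0, 0]), (38, [0, 0, 0, 1, 0]),
        (38, [0, 2, 0, 0, 1]), (38, [0, 2, 0, 0, 1]), (119, [0, 0, 1, 1, 1]), (88, [6, 1, 0, 0, 0]),
        (36, [0, 0, 1, 0, 1]), (116, [6, 2, 0, 0, 1]), (86, [6, 1, 0, 0, 0]), (79, [3, 1, 1, 1, 0]),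
        (84, [2, 2, 0, 0, 0]), (120, [1, 0, 0, 0, 1]), (103, [8, 0, 1, 0, 0]), (97, [6, 2, 0, 0, 1]),
        (126, [0, 0, 0, 0, 0]), (97, [8, 0, 1, 0, 0]), (115, [2, 1, 0, 0, 0]), (109, [2, 1, 0, 0, 1]),
        (115, [2, 1, 0, 0, 0]), (39, [0, 0, 0, 1, 0]), (109, [2, 1, 0, 1, 1]), (109, [2, 1, 0, 1, 1]),
        (16, [1, 1, 1, 1, 0]), (85, [1, 1, 1, 1, 0]), (50, [7, 2, 1, 1, 0]), (65, [9, 2, 0, 1, 0]),
        (53, [1, 0, 0, 0, 0]), (29, [9, 1, 0, 0, 0]), (42, [9, 0, 0, 0, 1]), (16, [1, 1, 1, 1, 1]),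
        (16, [1, 0, 0, 0, 0]), (41, [4, 2, 1, 1, 0]), (40, [6, 1, 0, 1, 1]), (19, [9, 1, 0, 0, 0]),
        (11, [9, 0, 1, 1, 1]), (11, [1, 0, 0, 1, 0]), (11, [9, 0, 1, 1, 1]), (40, [0, 0, 0, 1, 0]),
        (11, [1, 0, 0, 0, 0]), (11, [1, 0, 0, 0, 0]), (82, [0, 2, 1, 0, 0]), (15, [6, 2, 0, 0, 0]),
        (23, [0, 0, 0, 0, 0]), (105, [6, 0, 0, 0, 0]), (112, [8, 0, 0, 1, 1]), (112, [4, 1, 1, 1, 0]),
        (117, [5, 2, 0, 1, 0]), (82, [0, 1, 0, 0, 1]), (58, [8, 1, 1, 1, 0]), (13, [3, 2, 1, 1, 1]),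
        (68, [0, 2, 1, 0, 0]), (68, [6, 0, 0, 1, 1]), (127, [0, 0, 0, 0, 0]), (122, [2, 2, 1, 1, 1]),
        (127, [0, 0, 0, 0, 0]), (41, [0, 0, 0, 1, 0]), (122, [2, 2, 1, 0, 1]), (122, [2, 2, 1, 0, 1]),
        (24, [3, 0, 0, 0, 0]), (24, [0, 1, 1, 1, 1]), (43, [8, 1, 0, 0, 0]), (8, [3, 0, 0, 0, 0]),
        (7, [0, 0, 0, 0, 0]), (22, [6, 2, 1, 0, 0]), (14, [4, 2, 0, 1, 1]), (24, [1, 1, 1, 1, 1]),
        (24, [7, 1, 1, 1, 1]), (43, [0, 1, 0, 0, 0]), (110, [2, 2, 0, 1, 0]), (25, [9, 0, 0, 0, 1]),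
        (26, [5, 2, 1, 1, 1]), (57, [5, 0, 1, 1, 1]), (26, [5, 2, 1, 1, 1]), (42, [0, 0, 0, 1, 0]),
        (57, [5, 0, 1, 0, 1]), (57, [5, 0, 1, 0, 1]), (64, [7, 0, 0, 1, 0]), (64, [3, 1, 1, 0, 0]),
        (24, [8, 0, 1, 1, 1]), (4, [6, 1, 0, 0, 1]), (22, [6, 2, 1, 0, 0]), (7, [0, 0, 0, 1, 0]),
        (79, [7, 1, 1, 1, 1]), (42, [6, 2, 1, 1, 0]), (102, [2, 0, 0, 1, 1]), (108, [7, 1, 1, 0, 1]),
        (25, [8, 0, 0, 1, 1]), (110, [5, 0, 0, 0, 1]), (25, [8, 0, 1, 1, 0]), (43, [0, 0, 1, 0, 1]),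
        (25, [8, 0, 1, 1, 0]), (43, [0, 0, 0, 1, 0]), (43, [0, 0, 1, 1, 1]), (43, [0, 0, 1, 1, 1]),
        (115, [9, 0, 1, 1, 1]), (103, [6, 0, 1, 1, 0]), (104, [2, 2, 0, 0, 1]), (120, [9, 2, 0, 0, 0]),
        (12, [4, 0, 1, 0, 1]), (127, [9, 2, 1, 1, 1]), (20, [7, 2, 1, 0, 1]), (115, [4, 1, 0, 0, 0]),
        (33, [2, 2, 0, 0, 0]), (115, [8, 2, 0, 0, 1]), (33, [6, 1, 1, 1, 0]), (120, [2, 1, 1, 0, 1]),
        (116, [6, 1, 0, 0, 0]), (101, [7, 2, 0, 1, 0]), (116, [6, 1, 0, 0, 0]), (44, [0, 0, 0, 1, 0]),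
        (101, [7, 2, 0, 0, 0]), (101, [7, 2, 0, 0, 0]), (52, [5, 0, 0, 1, 1]), (127, [0, 2, 0, 0, 0]),
        (84, [9, 2, 1, 1, 0]), (40, [1, 2, 1, 1, 1]), (25, [4, 1, 1, 0, 0]), (102, [1, 1, 0, 0, 1]),
        (26, [5, 0, 1, 1, 0]), (46, [6, 1, 0, 0, 1]), (50, [3, 1, 1, 0, 1]), (118, [5, 1, 1, 0, 1]),
        (45, [6, 1, 0, 1, 1]), (90, [6, 1, 0, 1, 1]), (45, [8, 0, 1, 0, 1]), (45, [3, 1, 1, 1, 1]),
        (45, [8, 0, 1, 0, 1]), (45, [0, 0, 0, 1, 0]), (45, [3, 1, 1, 0, 1]), (45, [3, 1, 1, 0, 1]),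
        (84, [4, 2, 1, 0, 1]), (84, [4, 1, 0, 0, 0]), (45, [6, 0, 1, 0, 0]), (16, [3, 2, 1, 1, 1]),
        (97, [3, 2, 0, 1, 1]), (95, [8, 0, 0, 1, 0]), (119, [6, 1, 0, 1, 0]), (55, [2, 1, 0, 1, 1]),
        (55, [5, 1, 0, 1, 0]), (105, [1, 0, 0, 0, 0]), (92, [8, 0, 1, 1, 1]), (98, [8, 1, 0, 1, 1]),
        (70, [0, 0, 0, 0, 0]), (17, [8, 0, 1, 0, 1]), (70, [0, 0, 0, 0, 0]), (46, [0, 0, 0, 1, 0]),
        (17, [8, 0, 1, 1, 1]), (17, [8, 0, 1, 1, 1]), (114, [9, 1, 1, 1, 0]), (100, [7, 1, 1, 0, 0]),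
        (69, [2, 0, 0, 0, 1]), (77, [0, 2, 1, 1, 0]), (102, [5, 0, 0, 1, 1]), (25, [8, 0, 0, 0, 1]),
        (94, [4, 1, 0, 1, 0]), (114, [4, 0, 0, 0, 1]), (105, [6, 2, 1, 0, 0]), (80, [6, 1, 0, 1, 1]),
        (7, [0, 0, 0, 0, 0]), (22, [0, 1, 1, 0, 1]), (50, [0, 0, 0, 0, 0]), (49, [0, 0, 0, 0, 0]),
        (50, [0, 0, 0, 0, 0]), (47, [0, 0, 0, 1, 0]), (49, [0, 0, 0, 1, 0]), (49, [0, 0, 0, 1, 0]),
        (12, [4, 1, 1, 1, 0]), (72, [2, 0, 0, 0, 1]), (68, [3, 0, 1, 0, 1]), (14, [0, 2, 1, 0, 0]),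
        (108, [1, 0, 0, 0, 0]), (110, [5, 0, 0, 0, 1]), (124, [0, 1, 1, 1, 1]), (59, [3, 2, 0, 0, 1]),
        (49, [6, 1, 0, 1, 1]), (86, [0, 2, 0, 0, 0]), (22, [0, 1, 1, 1, 1]), (7, [0, 0, 0, 1, 0]),
        (91, [6, 1, 0, 0, 1]), (105, [0, 1, 1, 1, 1]), (91, [6, 1, 0, 0, 1]), (48, [0, 0, 0, 1, 0]),
        (105, [0, 1, 1, 0, 1]), (105, [0, 1, 1, 0, 1]), (14, [2, 1, 0, 0, 0]), (13, [2, 1, 0, 1, 0]),
        (77, [1, 0, 0, 1, 1]), (52, [6, 1, 1, 0, 0]), (117, [4, 0, 1, 0, 1]), (31, [7, 1, 1, 1, 0]),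
        (24, [7, 1, 0, 0, 0]), (118, [4, 0, 1, 0, 0]), (125, [3, 2, 0, 0, 0]), (98, [8, 1, 0, 0, 1]),
        (50, [0, 0, 0, 1, 0]), (86, [9, 0, 0, 1, 0]), (7, [0, 0, 0, 1, 0]), (47, [0, 0, 0, 0, 0]),
        (7, [0, 0, 0, 1, 0]), (49, [0, 0, 0, 1, 0]), (47, [0, 0, 0, 1, 0]), (47, [0, 0, 0, 1, 0]),
        (92, [0, 2, 1, 1, 1]), (98, [4, 1, 1, 1, 1]), (85, [4, 1, 1, 0, 1]), (68, [0, 2, 1, 0, 0]),
        (96, [9, 1, 1, 0, 1]), (93, [7, 0, 0, 0, 1]), (43, [7, 1, 1, 0, 0]), (86, [4, 1, 1, 1, 1]),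
        (80, [0, 0, 0, 0, 0]), (92, [8, 0, 1, 1, 1]), (49, [0, 0, 0, 1, 0]), (75, [2, 1, 0, 1, 0]),
        (47, [0, 0, 0, 1, 0]), (7, [0, 0, 0, 0, 0]), (47, [0, 0, 0, 1, 0]), (50, [0, 0, 0, 1, 0]),
        (7, [0, 0, 0, 1, 0]), (7, [0, 0, 0, 1, 0]), (54, [8, 1, 0, 1, 0]), (27, [0, 1, 1, 1, 1]),
        (37, [2, 2, 1, 1, 0]), (61, [9, 0, 1, 0, 0]), (106, [3, 1, 1, 1, 1]), (106, [9, 0, 1, 0, 1]),
        (66, [2, 1, 0, 0, 1]), (54, [9, 1, 0, 0, 0]), (123, [2, 2, 0, 0, 0]), (113, [8, 0, 1, 0, 1]),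
        (51, [5, 0, 1, 0, 1]), (51, [2, 2, 1, 1, 0]), (123, [6, 2, 0, 1, 1]), (123, [9, 0, 0, 0, 0]),
        (123, [6, 2, 0, 1, 1]), (51, [0, 0, 0, 1, 0]), (123, [9, 0, 0, 1, 0]), (123, [9, 0, 0, 1, 0]),
        (21, [7, 2, 1, 1, 1]), (74, [7, 2, 0, 0, 1]), (90, [3, 1, 1, 1, 0]), (99, [6, 0, 0, 0, 0]),
        (109, [9, 0, 1, 0, 1]), (121, [4, 1, 1, 0, 1]), (97, [5, 2, 1, 0, 0]), (127, [7, 0, 0, 1, 1]),
        (69, [1, 1, 0, 1, 1]), (40, [2, 2, 1, 1, 0]), (77, [5, 2, 1, 0, 0]), (122, [5, 1, 1, 0, 0]),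
        (77, [5, 0, 1, 0, 1]), (52, [0, 2, 0, 1, 1]), (77, [5, 0, 1, 0, 1]), (52, [0, 0, 0, 1, 0]),
        (52, [0, 2, 0, 0, 1]), (52, [0, 2, 0, 0, 1]), (88, [3, 2, 0, 0, 0]), (119, [2, 1, 1, 0, 1]),
        (31, [2, 1, 1, 0, 1]), (113, [3, 2, 0, 0, 0]), (40, [3, 0, 0, 1, 0]), (13, [6, 1, 0, 1, 1]),
        (80, [3, 2, 0, 0, 1]), (5, [2, 1, 1, 1, 1]), (5, [5, 1, 1, 1, 0]), (9, [1, 2, 0, 0, 0]),
        (9, [6, 1, 0, 1, 1]), (8, [0, 0, 0, 1, 0]), (30, [9, 0, 1, 1, 1]), (37, [5, 0, 0, 1, 1]),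
        (30, [9, 0, 1, 1, 1]), (53, [0, 0, 0, 1, 0]), (37, [5, 0, 0, 0, 1]), (37, [5, 0, 0, 0, 1]),
        (37, [6, 0, 1, 0, 0]), (37, [7, 0, 1, 1, 0]), (51, [8, 1, 0, 1, 0]), (107, [6, 1, 0, 1, 1]),
        (105, [2, 2, 0, 1, 0]), (83, [4, 2, 1, 0, 0]), (98, [0, 0, 1, 1, 0]), (27, [9, 0, 1, 0, 1]),
        (34, [3, 1, 1, 1, 0]), (123, [2, 1, 1, 0, 1]), (111, [8, 0, 1, 0, 1]), (104, [6, 0, 0, 1, 0]),
        (111, [5, 2, 0, 1, 1]), (54, [5, 0, 1, 0, 1]), (111, [5, 2, 0, 1, 1]), (54, [0, 0, 0, 1, 0]),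
        (54, [5, 0, 1, 1, 1]), (54, [5, 0, 1, 1, 1]), (45, [1, 2, 1, 1, 1]), (90, [1, 2, 1, 0, 1]),
        (52, [7, 2, 1, 0, 0]), (73, [1, 0, 1, 1, 0]), (34, [7, 1, 0, 0, 1]), (111, [3, 0, 1, 0, 0]),
        (126, [2, 2, 0, 1, 0]), (45, [2, 0, 0, 0, 0]), (22, [5, 2, 1, 0, 0]), (59, [5, 1, 1, 1, 0]),
        (83, [2, 0, 0, 1, 0]), (105, [2, 0, 1, 0, 1]), (75, [6, 0, 1, 0, 0]), (86, [5, 0, 1, 1, 0]),
        (75, [6, 0, 1, 0, 0]), (55, [0, 0, 0, 1, 0]), (86, [5, 0, 1, 0, 0]), (86, [5, 0, 1, 0, 0]),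
        (117, [4, 0, 0, 1, 0]), (18, [7, 2, 0, 0, 1]), (38, [3, 2, 1, 0, 1]), (95, [4, 0, 0, 0, 0]),
        (79, [1, 0, 1, 1, 0]), (86, [9, 1, 1, 1, 0]), (82, [5, 0, 1, 0, 0]), (117, [1, 1, 0, 1, 1]),
        (96, [7, 1, 0, 1, 0]), (116, [4, 0, 1, 0, 0]), (32, [7, 2, 0, 1, 0]), (31, [7, 2, 0, 0, 0]),
        (81, [9, 0, 0, 1, 1]), (89, [3, 2, 1, 0, 0]), (81, [9, 0, 0, 1, 1]), (56, [0, 0, 0, 1, 0]),
        (89, [3, 2, 1, 1, 0]), (89, [3, 2, 1, 1, 0]), (94, [7, 2, 0, 0, 1]), (95, [1, 1, 0, 1, 1]),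
        (111, [3, 0, 1, 0, 0]), (5, [7, 2, 1, 1, 0]), (11, [8, 1, 0, 0, 1]), (35, [5, 2, 0, 0, 0]),
        (114, [5, 2, 0, 1, 0]), (102, [9, 0, 1, 1, 0]), (42, [9, 2, 0, 0, 1]), (25, [3, 2, 0, 1, 1]),
        (26, [6, 1, 0, 1, 0]), (26, [9, 1, 0, 1, 1]), (110, [3, 0, 0, 1, 1]), (42, [5, 0, 1, 1, 1]),
        (110, [3, 0, 0, 1, 1]), (57, [0, 0, 0, 1, 0]), (42, [5, 0, 1, 0, 1]), (42, [5, 0, 1, 0, 1]),
        (13, [1, 0, 1, 0, 0]), (14, [1, 0, 1, 1, 0]), (75, [2, 1, 1, 0, 1]), (46, [2, 1, 1, 1, 0]),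
        (10, [0, 0, 0, 0, 0]), (88, [4, 0, 0, 1, 1]), (27, [9, 1, 0, 1, 0]), (13, [2, 1, 1, 1, 1]),
        (13, [2, 1, 1, 1, 0]), (6, [5, 1, 1, 1, 1]), (58, [3, 1, 1, 1, 1]), (78, [4, 2, 0, 1, 1]),
        (84, [4, 0, 0, 1, 1]), (84, [2, 1, 1, 0, 0]), (84, [4, 0, 0, 1, 1]), (58, [0, 0, 0, 1, 0]),
        (84, [2, 1, 1, 1, 0]), (84, [2, 1, 1, 1, 0]), (68, [5, 0, 1, 1, 0]), (68, [5, 2, 1, 1, 1]),
        (48, [1, 2, 0, 0, 0]), (78, [4, 0, 1, 1, 0]), (94, [1, 0, 1, 1, 0]), (126, [2, 2, 0, 1, 0]),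
        (56, [6, 2, 0, 0, 1]), (100, [1, 0, 0, 1, 1]), (83, [9, 0, 1, 0, 0]), (45, [9, 0, 1, 0, 0]),
        (79, [6, 0, 1, 1, 0]), (66, [1, 1, 1, 0, 0]), (79, [4, 2, 0, 1, 1]), (59, [4, 0, 0, 0, 1]),
        (79, [4, 2, 0, 1, 1]), (59, [0, 0, 0, 1, 0]), (59, [4, 0, 0, 1, 1]), (59, [4, 0, 0, 1, 1]),
        (56, [0, 0, 0, 1, 0]), (93, [7, 2, 0, 1, 1]), (101, [4, 0, 0, 1, 0]), (102, [9, 0, 1, 1, 0]),
        (78, [2, 1, 1, 0, 1]), (85, [9, 1, 1, 1, 0]), (68, [2, 0, 0, 0, 1]), (76, [7, 1, 1, 0, 0]),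
        (64, [7, 0, 0, 1, 1]), (119, [1, 1, 0, 0, 1]), (62, [7, 1, 1, 0, 0]), (61, [4, 1, 1, 0, 0]),
        (62, [3, 2, 0, 0, 0]), (60, [3, 1, 1, 0, 1]), (62, [3, 2, 0, 0, 0]), (60, [0, 0, 0, 1, 0]),
        (60, [3, 1, 1, 1, 1]), (60, [3, 1, 1, 1, 1]), (107, [5, 2, 1, 1, 0]), (107, [2, 0, 1, 1, 1]),
        (62, [1, 0, 0, 0, 1]), (43, [4, 2, 0, 1, 0]), (82, [1, 1, 0, 1, 1]), (15, [7, 0, 0, 1, 1]),
        (47, [8, 1, 0, 0, 1]), (107, [5, 2, 0, 0, 1]), (107, [0, 2, 1, 0, 0]), (62, [3, 2, 0, 0, 0]),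
        (10, [9, 0, 0, 1, 1]), (60, [4, 1, 1, 0, 0]), (64, [9, 0, 0, 1, 1]), (63, [9, 0, 0, 1, 1]),
        (64, [9, 0, 0, 1, 1]), (61, [0, 0, 0, 1, 0]), (63, [9, 0, 0, 0, 1]), (63, [9, 0, 0, 0, 1]),
        (112, [9, 1, 0, 1, 1]), (112, [4, 0, 1, 1, 0]), (107, [8, 2, 0, 0, 1]), (24, [8, 2, 0, 0, 0]),
        (15, [2, 1, 1, 0, 0]), (82, [6, 1, 0, 0, 1]), (69, [7, 0, 1, 0, 1]), (61, [3, 2, 0, 0, 0]),
        (119, [2, 2, 0, 0, 0]), (88, [7, 1, 1, 1, 0]), (60, [7, 1, 1, 0, 0]), (10, [0, 0, 0, 1, 0]),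
        (60, [7, 0, 0, 1, 1]), (62, [0, 2, 0, 0, 1]), (60, [7, 0, 0, 1, 1]), (62, [0, 0, 0, 1, 0]),
        (62, [0, 2, 0, 1, 1]), (62, [0, 2, 0, 1, 1]), (120, [6, 0, 1, 1, 1]), (33, [2, 2, 0, 0, 0]),
        (5, [2, 2, 0, 0, 0]), (25, [5, 1, 1, 0, 1]), (99, [3, 1, 1, 1, 1]), (70, [9, 1, 0, 1, 1]),
        (19, [4, 0, 0, 1, 0]), (119, [2, 1, 1, 1, 1]), (61, [3, 1, 1, 1, 1]), (60, [4, 1, 1, 1, 0]),
        (64, [0, 0, 0, 1, 0]), (64, [0, 2, 0, 0, 1]), (10, [0, 0, 0, 1, 0]), (61, [2, 0, 0, 1, 1]),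
        (10, [0, 0, 0, 1, 0]), (63, [0, 0, 0, 1, 0]), (61, [2, 0, 0, 0, 1]), (61, [2, 0, 0, 0, 1]),
        (42, [8, 0, 1, 0, 0]), (43, [3, 1, 1, 1, 0]), (42, [6, 2, 1, 1, 1]), (26, [6, 1, 0, 1, 0]),
        (17, [9, 1, 0, 0, 1]), (17, [1, 0, 0, 0, 1]), (16, [4, 0, 0, 0, 0]), (64, [3, 2, 0, 1, 0]),
        (76, [0, 2, 0, 0, 1]), (10, [9, 0, 0, 1, 1]), (63, [0, 0, 0, 1, 0]), (63, [0, 2, 0, 1, 1]),
        (61, [2, 0, 0, 0, 1]), (10, [0, 0, 0, 0, 0]), (61, [2, 0, 0, 0, 1]), (64, [0, 0, 0, 1, 0]),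
        (10, [0, 0, 0, 1, 0]), (10, [0, 0, 0, 1, 0]), (11, [3, 1, 1, 0, 1]), (11, [0, 0, 0, 0, 0]),
        (114, [8, 0, 0, 0, 0]), (13, [7, 1, 0, 1, 0]), (95, [6, 0, 1, 1, 1]), (97, [8, 1, 1, 0, 0]),
        (38, [8, 1, 1, 0, 1]), (47, [5, 2, 1, 0, 1]), (47, [5, 0, 1, 0, 0]), (22, [4, 2, 1, 0, 0]),
        (66, [5, 2, 0, 1, 0]), (79, [3, 0, 1, 0, 0]), (87, [2, 1, 1, 0, 1]), (125, [8, 2, 1, 1, 1]),
        (87, [2, 1, 1, 0, 1]), (65, [0, 0, 0, 1, 0]), (125, [8, 2, 1, 0, 1]), (125, [8, 2, 1, 0, 1]),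
        (58, [4, 1, 1, 1, 1]), (78, [7, 1, 0, 0, 0]), (122, [1, 0, 1, 0, 1]), (74, [3, 2, 1, 0, 1]),
        (93, [5, 2, 1, 0, 0]), (96, [3, 2, 0, 1, 1]), (30, [4, 0, 1, 0, 1]), (70, [6, 1, 0, 1, 1]),
        (70, [0, 0, 0, 0, 0]), (7, [6, 1, 0, 0, 1]), (65, [1, 0, 1, 0, 0]), (59, [7, 1, 1, 0, 1]),
        (125, [6, 1, 1, 0, 0]), (87, [9, 1, 0, 1, 1]), (125, [6, 1, 1, 0, 0]), (66, [0, 0, 0, 1, 0]),
        (87, [9, 1, 0, 0, 1]), (87, [9, 1, 0, 0, 1]), (97, [2, 0, 1, 0, 0]), (126, [6, 0, 0, 1, 1]),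
        (123, [4, 2, 0, 0, 0]), (29, [5, 0, 1, 1, 0]), (35, [1, 1, 1, 1, 0]), (11, [0, 0, 0, 1, 0]),
        (21, [6, 2, 1, 1, 0]), (110, [1, 1, 1, 0, 1]), (110, [0, 0, 0, 1, 0]), (24, [8, 1, 1, 1, 0]),
        (67, [6, 1, 0, 1, 1]), (67, [8, 0, 1, 1, 1]), (67, [6, 2, 1, 0, 0]), (67, [0, 1, 1, 0, 1]),
        (67, [6, 2, 1, 0, 0]), (67, [0, 0, 0, 1, 0]), (67, [0, 1, 1, 1, 1]), (67, [0, 1, 1, 1, 1]),
        (65, [8, 1, 1, 1, 0]), (59, [4, 2, 0, 1, 1]), (72, [3, 0, 1, 0, 0]), (49, [6, 1, 0, 0, 1]),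
        (124, [9, 1, 1, 1, 1]), (113, [4, 0, 1, 0, 0]), (93, [4, 2, 0, 0, 1]), (69, [0, 1, 0, 1, 1]),
        (127, [8, 2, 0, 1, 1]), (14, [3, 1, 1, 1, 1]), (41, [0, 2, 1, 1, 0]), (41, [3, 2, 1, 1, 1]),
        (122, [2, 1, 1, 1, 1]), (127, [0, 2, 1, 1, 0]), (122, [2, 1, 1, 1, 1]), (68, [0, 0, 0, 1, 0]),
        (127, [0, 2, 1, 0, 0]), (127, [0, 2, 1, 0, 0]), (72, [3, 1, 1, 0, 1]), (12, [0, 0, 0, 0, 0]),
        (100, [4, 1, 1, 0, 0]), (118, [9, 0, 0, 0, 0]), (103, [8, 2, 0, 0, 0]), (89, [7, 2, 0, 0, 1]),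
        (95, [8, 1, 0, 0, 1]), (28, [0, 2, 0, 1, 1]), (52, [3, 2, 0, 1, 1]), (58, [4, 1, 0, 0, 0]),
        (73, [3, 2, 1, 1, 0]), (20, [0, 2, 1, 0, 1]), (73, [0, 2, 1, 0, 1]), (69, [4, 0, 0, 0, 1]),
        (73, [0, 2, 1, 0, 1]), (69, [0, 0, 0, 1, 0]), (69, [4, 0, 0, 1, 1]), (69, [4, 0, 0, 1, 1]),
        (122, [7, 0, 1, 0, 1]), (77, [1, 1, 0, 1, 0]), (49, [0, 2, 1, 0, 1]), (21, [3, 2, 1, 0, 1]),
        (76, [0, 2, 0, 0, 0]), (63, [9, 1, 1, 0, 1]), (71, [2, 0, 1, 1, 1]), (79, [1, 1, 0, 0, 0]),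
        (92, [0, 0, 0, 0, 0]), (55, [6, 2, 1, 0, 1]), (17, [8, 0, 1, 1, 1]), (17, [6, 1, 0, 1, 1]),
        (46, [0, 0, 0, 1, 0]), (92, [8, 0, 1, 1, 1]), (46, [0, 0, 0, 1, 0]), (70, [0, 0, 0, 1, 0]),
        (92, [8, 0, 1, 0, 1]), (92, [8, 0, 1, 0, 1]), (110, [8, 1, 0, 1, 0]), (25, [7, 2, 0, 0, 1]),
        (113, [9, 0, 0, 1, 0]), (56, [7, 0, 0, 1, 1]), (127, [8, 2, 0, 0, 1]), (12, [0, 0, 0, 1, 0]),
        (125, [8, 1, 0, 0, 1]), (97, [6, 2, 0, 0, 0]), (32, [9, 2, 0, 1, 0]), (117, [3, 0, 1, 0, 0]),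
        (103, [8, 0, 1, 1, 1]), (115, [7, 2, 1, 1, 0]), (117, [2, 0, 0, 1, 0]), (94, [5, 0, 0, 0, 1]),
        (117, [2, 0, 0, 1, 0]), (71, [0, 0, 0, 1, 0]), (94, [5, 0, 0, 1, 1]), (94, [5, 0, 0, 1, 1]),
        (47, [9, 0, 0, 1, 1]), (48, [9, 0, 0, 0, 1]), (59, [5, 1, 1, 1, 1]), (79, [1, 1, 0, 0, 0]),
        (121, [0, 1, 1, 1, 1]), (109, [1, 2, 0, 0, 1]), (107, [8, 2, 1, 0, 0]), (11, [6, 1, 0, 0, 1]),
        (6, [9, 1, 0, 0, 0]), (52, [3, 1, 0, 1, 0]), (74, [3, 1, 1, 0, 1]), (21, [6, 1, 0, 1, 1]),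
        (82, [0, 0, 0, 1, 1]), (85, [6, 1, 0, 1, 1]), (82, [0, 0, 0, 1, 1]), (72, [0, 0, 0, 1, 0]),
        (85, [6, 1, 0, 0, 1]), (85, [6, 1, 0, 0, 1]), (87, [8, 0, 1, 1, 1]), (87, [5, 2, 0, 0, 1]),
        (16, [5, 2, 0, 0, 1]), (114, [8, 0, 1, 1, 0]), (120, [0, 1, 1, 0, 1]), (81, [4, 1, 0, 0, 1]),
        (103, [6, 2, 0, 1, 0]), (40, [8, 1, 0, 1, 0]), (2, [6, 1, 0, 0, 1]), (78, [6, 0, 1, 1, 0]),
        (69, [4, 2, 1, 0, 0]), (28, [9, 2, 1, 0, 0]), (69, [0, 1, 0, 0, 1]), (73, [3, 1, 1, 1, 1]),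
        (69, [0, 1, 0, 0, 1]), (73, [0, 0, 0, 1, 0]), (73, [3, 1, 1, 0, 1]), (73, [3, 1, 1, 0, 1]),
        (127, [8, 1, 0, 1, 0]), (52, [7, 2, 0, 1, 1]), (55, [0, 0, 1, 0, 1]), (87, [9, 1, 0, 0, 1]),
        (116, [7, 2, 1, 0, 0]), (115, [7, 2, 1, 1, 0]), (62, [5, 2, 0, 1, 0]), (21, [3, 1, 1, 0, 1]),
        (77, [8, 0, 1, 0, 1]), (127, [0, 2, 1, 1, 0]), (72, [3, 1, 1, 0, 1]), (12, [0, 0, 0, 1, 0]),
        (85, [8, 0, 1, 0, 1]), (82, [3, 1, 1, 0, 0]), (85, [8, 0, 1, 0, 1]), (74, [0, 0, 0, 1, 0]),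
        (82, [3, 1, 1, 1, 0]), (82, [3, 1, 1, 1, 0]), (66, [4, 0, 1, 1, 1]), (79, [5, 0, 1, 1, 1]),
        (14, [5, 0, 1, 1, 1]), (35, [1, 1, 0, 1, 0]), (18, [4, 1, 0, 1, 1]), (32, [5, 0, 0, 0, 1]),
        (54, [2, 0, 0, 0, 1]), (49, [3, 2, 0, 0, 1]), (59, [9, 2, 0, 1, 1]), (66, [8, 2, 1, 1, 1]),
        (86, [0, 1, 1, 1, 0]), (50, [8, 2, 1, 1, 1]), (55, [5, 2, 1, 1, 0]), (83, [8, 2, 1, 1, 1]),
        (55, [5, 2, 1, 1, 0]), (75, [0, 0, 0, 1, 0]), (83, [8, 2, 1, 0, 1]), (83, [8, 2, 1, 0, 1]),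
        (101, [1, 1, 0, 0, 1]), (81, [0, 1, 1, 1, 1]), (29, [4, 0, 0, 0, 0]), (108, [8, 2, 0, 1, 0]),
        (70, [0, 1, 1, 0, 0]), (99, [9, 1, 1, 1, 0]), (49, [9, 0, 1, 0, 0]), (10, [7, 1, 1, 1, 0]),
        (10, [7, 0, 0, 1, 1]), (107, [2, 0, 0, 1, 0]), (76, [4, 0, 0, 1, 1]), (76, [9, 1, 1, 1, 0]),
        (76, [2, 1, 1, 1, 0]), (76, [3, 1, 1, 1, 1]), (76, [2, 1, 1, 1, 0]), (76, [0, 0, 0, 1, 0]),
        (76, [3, 1, 1, 0, 1]), (76, [3, 1, 1, 0, 1]), (70, [2, 1, 0, 0, 1]), (70, [4, 0, 1, 0, 0]),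
        (13, [5, 0, 1, 1, 1]), (45, [0, 0, 0, 1, 0]), (81, [4, 1, 0, 1, 1]), (120, [0, 1, 1, 0, 1]),
        (109, [3, 1, 0, 1, 0]), (58, [8, 0, 1, 0, 0]), (82, [0, 0, 0, 0, 1]), (19, [6, 1, 0, 0, 1]),
        (52, [6, 0, 1, 0, 0]), (127, [3, 2, 1, 1, 1]), (52, [5, 0, 1, 1, 1]), (77, [6, 1, 0, 1, 1]),
        (52, [5, 0, 1, 1, 1]), (77, [0, 0, 0, 1, 0]), (77, [6, 1, 0, 0, 1]), (77, [6, 1, 0, 0, 1]),
        (79, [5, 0, 1, 0, 1]), (66, [4, 0, 1, 0, 1]), (118, [5, 2, 0, 1, 1]), (90, [5, 0, 1, 0, 1]),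
        (60, [8, 0, 1, 0, 0]), (119, [3, 1, 1, 1, 0]), (64, [5, 0, 0, 0, 0]), (122, [5, 0, 0, 0, 1]),
        (74, [5, 0, 0, 0, 0]), (11, [5, 2, 1, 1, 0]), (78, [0, 0, 1, 1, 1]), (58, [5, 2, 1, 0, 1]),
        (78, [0, 2, 1, 1, 0]), (78, [0, 2, 0, 1, 1]), (78, [0, 2, 1, 1, 0]), (78, [0, 0, 0, 1, 0]),
        (78, [0, 2, 0, 0, 1]), (78, [0, 2, 0, 0, 1]), (49, [3, 2, 0, 0, 1]), (75, [5, 0, 1, 1, 1]),
        (58, [5, 2, 0, 0, 0]), (84, [1, 2, 0, 0, 1]), (56, [5, 2, 0, 0, 0]), (39, [3, 1, 1, 1, 0]),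
        (101, [6, 2, 1, 0, 0]), (66, [4, 0, 1, 1, 1]), (98, [3, 0, 1, 0, 1]), (90, [4, 0, 1, 0, 0]),
        (59, [5, 2, 1, 1, 0]), (65, [6, 0, 0, 1, 0]), (59, [5, 2, 1, 0, 1]), (79, [0, 0, 0, 0, 1]),
        (59, [5, 2, 1, 0, 1]), (79, [0, 0, 0, 1, 0]), (79, [0, 0, 0, 1, 1]), (79, [0, 0, 0, 1, 1]),
        (35, [3, 0, 1, 1, 1]), (35, [1, 1, 0, 0, 0]), (91, [5, 2, 1, 1, 0]), (19, [0, 2, 1, 1, 0]),
        (126, [6, 0, 1, 0, 1]), (94, [8, 0, 1, 0, 0]), (31, [3, 0, 1, 1, 1]), (90, [0, 0, 0, 1, 0]),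
        (7, [3, 1, 1, 1, 1]), (114, [2, 1, 1, 0, 0]), (98, [5, 1, 1, 1, 1]), (92, [3, 1, 1, 1, 1]),
        (98, [4, 0, 1, 0, 0]), (80, [3, 1, 1, 0, 1]), (98, [4, 0, 1, 0, 0]), (80, [0, 0, 0, 1, 0]),
        (80, [3, 1, 1, 1, 1]), (80, [3, 1, 1, 1, 1]), (76, [7, 2, 0, 1, 1]), (76, [0, 1, 1, 1, 1]),
        (117, [4, 1, 1, 1, 1]), (115, [0, 0, 0, 0, 0]), (77, [1, 2, 1, 1, 1]), (73, [1, 2, 1, 1, 1]),
        (75, [7, 2, 0, 1, 1]), (56, [0, 1, 1, 1, 1]), (94, [6, 2, 1, 1, 1]), (81, [7, 0, 1, 1, 1]),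
        (89, [6, 2, 0, 1, 1]), (116, [8, 0, 0, 0, 0]), (56, [2, 0, 0, 0, 1]), (32, [4, 0, 1, 1, 0]),
        (56, [2, 0, 0, 0, 1]), (81, [0, 0, 0, 1, 0]), (32, [4, 0, 1, 0, 0]), (32, [4, 0, 1, 0, 0]),
        (23, [0, 2, 1, 0, 1]), (23, [1, 2, 1, 0, 0]), (41, [1, 2, 1, 0, 0]), (125, [5, 2, 0, 0, 0]),
        (61, [6, 1, 1, 0, 1]), (62, [6, 1, 0, 1, 1]), (96, [4, 1, 0, 1, 0]), (15, [0, 0, 0, 0, 1]),
        (78, [6, 0, 1, 0, 1]), (122, [4, 0, 0, 0, 1]), (85, [6, 1, 0, 1, 0]), (16, [6, 1, 0, 0, 0]),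
        (72, [0, 0, 0, 0, 1]), (74, [3, 1, 1, 1, 0]), (72, [0, 0, 0, 0, 1]), (82, [0, 0, 0, 1, 0]),
        (74, [3, 1, 1, 0, 0]), (74, [3, 1, 1, 0, 0]), (106, [1, 2, 1, 0, 0]), (106, [3, 2, 1, 0, 1]),
        (125, [2, 0, 0, 1, 0]), (6, [1, 2, 1, 1, 1]), (27, [0, 2, 1, 0, 1]), (54, [3, 2, 1, 0, 0]),
        (116, [8, 2, 0, 0, 1]), (105, [6, 2, 1, 0, 0]), (114, [4, 0, 0, 0, 1]), (65, [1, 0, 1, 0, 0]),
        (55, [9, 0, 1, 1, 0]), (91, [6, 1, 0, 0, 1]), (86, [9, 0, 0, 1, 0]), (75, [2, 1, 0, 0, 0]),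
        (86, [9, 0, 0, 1, 0]), (83, [0, 0, 0, 1, 0]), (75, [2, 1, 0, 1, 0]), (75, [2, 1, 0, 1, 0]),
        (80, [7, 2, 0, 0, 0]), (46, [7, 2, 1, 1, 1]), (127, [9, 1, 0, 0, 0]), (92, [8, 0, 1, 0, 1]),
        (113, [8, 1, 0, 0, 1]), (124, [3, 2, 0, 0, 1]), (88, [7, 0, 0, 0, 1]), (74, [3, 1, 1, 1, 1]),
        (122, [3, 1, 1, 0, 0]), (35, [5, 1, 1, 0, 0]), (84, [3, 1, 1, 1, 1]), (84, [8, 0, 1, 0, 1]),
        (58, [4, 0, 0, 0, 1]), (58, [2, 1, 1, 1, 0]), (58, [4, 0, 0, 0, 1]), (84, [0, 0, 0, 1, 0]),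
        (58, [2, 1, 1, 0, 0]), (58, [2, 1, 1, 0, 0]), (19, [7, 1, 1, 0, 0]), (40, [7, 1, 1, 0, 1]),
        (98, [0, 0, 0, 1, 0]), (59, [3, 2, 0, 0, 1]), (119, [1, 1, 0, 0, 1]), (60, [9, 1, 1, 1, 0]),
        (120, [2, 2, 0, 0, 0]), (19, [0, 0, 0, 0, 0]), (1, [3, 1, 1, 0, 1]), (77, [3, 1, 1, 1, 1]),
        (82, [4, 0, 0, 0, 0]), (15, [0, 0, 0, 1, 0]), (74, [8, 0, 1, 0, 1]), (72, [6, 1, 0, 1, 1]),
        (74, [8, 0, 1, 0, 1]), (85, [0, 0, 0, 1, 0]), (72, [6, 1, 0, 0, 1]), (72, [6, 1, 0, 0, 1]),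
        (85, [0, 0, 0, 0, 0]), (16, [0, 0, 0, 0, 0]), (73, [7, 0, 1, 0, 0]), (69, [4, 1, 1, 0, 0]),
        (39, [4, 0, 0, 1, 0]), (56, [9, 1, 1, 1, 0]), (51, [2, 1, 1, 1, 0]), (99, [0, 0, 0, 0, 0]),
        (17, [8, 1, 0, 0, 1]), (79, [1, 0, 1, 0, 0]), (75, [0, 2, 0, 1, 0]), (49, [8, 1, 0, 0, 1]),
        (83, [8, 1, 0, 0, 1]), (55, [5, 0, 1, 0, 0]), (83, [8, 1, 0, 0, 1]), (86, [0, 0, 0, 1, 0]),
        (55, [5, 0, 1, 1, 0]), (55, [5, 0, 1, 1, 0]), (20, [7, 1, 0, 1, 1]), (73, [7, 0, 1, 0, 0]),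
        (86, [0, 0, 0, 0, 0]), (72, [2, 0, 0, 1, 1]), (36, [1, 1, 0, 1, 1]), (30, [7, 1, 1, 0, 0]),
        (115, [9, 2, 1, 0, 1]), (98, [7, 1, 1, 1, 0]), (66, [1, 0, 1, 0, 1]), (47, [1, 1, 0, 1, 0]),
        (125, [1, 1, 0, 1, 1]), (125, [4, 0, 0, 0, 0]), (65, [8, 0, 1, 1, 0]), (66, [9, 1, 1, 1, 1]),
        (65, [8, 0, 1, 1, 0]), (87, [0, 0, 0, 1, 0]), (66, [9, 1, 1, 0, 1]), (66, [9, 1, 1, 0, 1]),
        (96, [3, 1, 1, 1, 1]), (39, [4, 0, 0, 1, 0]), (120, [7, 0, 1, 1, 1]), (110, [3, 1, 1, 1, 0]),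
        (16, [0, 0, 0, 0, 0]), (58, [4, 0, 0, 0, 1]), (23, [2, 1, 1, 0, 0]), (63, [3, 1, 1, 1, 1]),
        (63, [2, 1, 1, 1, 0]), (64, [9, 1, 1, 0, 0]), (88, [3, 1, 1, 1, 1]), (119, [2, 2, 0, 0, 0]),
        (107, [6, 1, 1, 0, 0]), (107, [5, 2, 0, 0, 1]), (107, [6, 1, 1, 0, 0]), (88, [0, 0, 0, 1, 0]),
        (107, [5, 2, 0, 1, 1]), (107, [5, 2, 0, 1, 1]), (34, [9, 1, 0, 0, 1]), (123, [9, 1, 0, 1, 0]),
        (67, [7, 2, 1, 0, 1]), (18, [1, 1, 1, 0, 0]), (21, [2, 1, 0, 1, 1]), (69, [7, 2, 0, 0, 1]),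
        (118, [8, 0, 0, 0, 0]), (126, [5, 1, 0, 0, 0]), (31, [2, 1, 1, 1, 1]), (101, [5, 2, 1, 0, 1]),
        (81, [7, 2, 1, 0, 0]), (101, [4, 0, 1, 1, 1]), (32, [6, 0, 1, 0, 1]), (56, [4, 2, 1, 1, 0]),
        (32, [6, 0, 1, 0, 1]), (89, [0, 0, 0, 1, 0]), (56, [4, 2, 1, 0, 0]), (56, [4, 2, 1, 0, 0]),
        (91, [5, 2, 1, 1, 0]), (55, [4, 1, 0, 0, 1]), (74, [1, 2, 0, 1, 0]), (20, [6, 0, 0, 1, 1]),
        (110, [1, 1, 0, 1, 1]), (108, [6, 2, 1, 0, 0]), (61, [0, 0, 0, 0, 1]), (91, [6, 1, 0, 1, 1]),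
        (91, [8, 0, 1, 1, 1]), (125, [7, 1, 1, 1, 0]), (90, [6, 1, 0, 0, 1]), (45, [6, 1, 0, 0, 1]),
        (99, [0, 2, 0, 1, 0]), (99, [4, 1, 1, 1, 1]), (99, [0, 2, 0, 1, 0]), (90, [0, 0, 0, 1, 0]),
        (99, [4, 1, 1, 0, 1]), (99, [4, 1, 1, 0, 1]), (74, [2, 0, 1, 1, 1]), (21, [4, 2, 1, 1, 1]),
        (35, [7, 2, 1, 1, 1]), (85, [3, 2, 1, 1, 1]), (123, [2, 1, 0, 0, 0]), (104, [5, 1, 0, 0, 1]),
        (67, [5, 2, 1, 0, 1]), (80, [6, 1, 0, 1, 1]), (86, [0, 2, 0, 0, 0]), (49, [3, 1, 1, 0, 1]),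
        (105, [6, 2, 1, 1, 0]), (83, [6, 1, 0, 1, 1]), (48, [6, 1, 0, 1, 1]), (22, [6, 2, 1, 0, 0]),
        (48, [6, 1, 0, 1, 1]), (91, [0, 0, 0, 1, 0]), (22, [6, 2, 1, 1, 0]), (22, [6, 2, 1, 1, 0]),
        (40, [4, 0, 0, 0, 1]), (19, [4, 0, 1, 1, 0]), (20, [1, 1, 1, 1, 0]), (12, [3, 2, 1, 0, 1]),
        (32, [7, 1, 1, 0, 0]), (18, [7, 2, 1, 1, 0]), (63, [0, 2, 0, 0, 0]), (87, [4, 0, 1, 1, 0]),
        (87, [5, 1, 1, 0, 1]), (83, [6, 1, 0, 0, 1]), (46, [8, 0, 1, 0, 1]), (80, [3, 1, 1, 0, 1]),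
        (17, [0, 0, 0, 1, 0]), (70, [8, 0, 1, 0, 1]), (17, [0, 0, 0, 1, 0]), (92, [0, 0, 0, 1, 0]),
        (70, [8, 0, 1, 1, 1]), (70, [8, 0, 1, 1, 1]), (10, [0, 1, 1, 1, 1]), (60, [7, 2, 0, 0, 1]),
        (30, [4, 2, 0, 0, 0]), (103, [8, 1, 1, 0, 1]), (66, [6, 0, 1, 0, 0]), (50, [3, 2, 0, 1, 0]),
        (6, [0, 1, 1, 1, 1]), (101, [4, 1, 1, 0, 1]), (71, [4, 1, 1, 0, 1]), (121, [7, 2, 1, 0, 0]),
        (31, [3, 1, 1, 0, 1]), (32, [3, 1, 1, 1, 1]), (121, [3, 1, 1, 0, 1]), (120, [3, 1, 1, 0, 1]),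
        (121, [3, 1, 1, 0, 1]), (93, [0, 0, 0, 1, 0]), (120, [3, 1, 1, 1, 1]), (120, [3, 1, 1, 1, 1]),
        (124, [9, 0, 1, 1, 1]), (124, [7, 0, 1, 1, 1]), (121, [0, 2, 0, 0, 0]), (32, [7, 1, 0, 0, 1]),
        (59, [5, 2, 0, 0, 0]), (80, [2, 1, 1, 1, 1]), (12, [8, 0, 0, 0, 1]), (103, [3, 0, 1, 1, 1]),
        (120, [9, 1, 1, 1, 1]), (94, [5, 1, 1, 1, 0]), (117, [9, 1, 0, 0, 1]), (18, [3, 0, 1, 0, 1]),
        (103, [6, 1, 1, 0, 1]), (71, [3, 1, 0, 0, 1]), (103, [6, 1, 1, 0, 1]), (94, [0, 0, 0, 1, 0]),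
        (71, [3, 1, 0, 1, 1]), (71, [3, 1, 0, 1, 1]), (57, [6, 1, 0, 1, 0]), (57, [6, 1, 1, 0, 1]),
        (115, [6, 2, 0, 1, 0]), (39, [0, 1, 1, 1, 0]), (65, [5, 1, 0, 1, 1]), (46, [8, 2, 1, 0, 0]),
        (100, [3, 0, 1, 0, 1]), (44, [3, 1, 0, 0, 1]), (89, [3, 1, 0, 0, 1]), (56, [8, 2, 0, 0, 0]),
        (18, [7, 0, 1, 1, 1]), (117, [4, 2, 1, 0, 0]), (97, [7, 0, 1, 1, 1]), (96, [7, 0, 1, 1, 1]),
        (97, [7, 0, 1, 1, 1]), (95, [0, 0, 0, 1, 0]), (96, [7, 0, 1, 0, 1]), (96, [7, 0, 1, 0, 1]),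
        (32, [2, 1, 1, 1, 1]), (31, [2, 1, 1, 1, 1]), (53, [0, 0, 0, 1, 0]), (126, [4, 1, 0, 1, 0]),
        (50, [9, 1, 0, 0, 1]), (66, [1, 0, 0, 1, 1]), (46, [8, 1, 1, 0, 1]), (32, [2, 2, 0, 0, 0]),
        (97, [5, 1, 1, 0, 0]), (32, [3, 2, 1, 1, 0]), (97, [0, 0, 0, 1, 0]), (126, [2, 1, 1, 1, 1]),
        (18, [0, 0, 0, 1, 0]), (95, [5, 1, 1, 1, 0]), (18, [0, 0, 0, 1, 0]), (96, [0, 0, 0, 1, 0]),
        (95, [5, 1, 1, 0, 0]), (95, [5, 1, 1, 0, 0]), (113, [2, 2, 1, 1, 0]), (113, [2, 2, 1, 1, 1]),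
        (71, [1, 2, 1, 1, 1]), (117, [9, 1, 0, 0, 1]), (46, [1, 0, 0, 0, 1]), (65, [9, 2, 0, 1, 1]),
        (90, [3, 0, 1, 0, 1]), (116, [1, 1, 0, 0, 1]), (121, [4, 0, 1, 0, 0]), (31, [3, 2, 1, 1, 0]),
        (96, [0, 0, 0, 1, 0]), (39, [2, 1, 1, 1, 1]), (95, [5, 1, 1, 0, 0]), (18, [0, 0, 0, 0, 0]),
        (95, [5, 1, 1, 0, 0]), (97, [0, 0, 0, 1, 0]), (18, [0, 0, 0, 1, 0]), (18, [0, 0, 0, 1, 0]),
        (86, [7, 1, 1, 0, 0]), (50, [6, 2, 1, 1, 1]), (40, [7, 1, 1, 1, 1]), (11, [4, 2, 0, 0, 1]),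
        (31, [1, 1, 0, 1, 1]), (117, [6, 1, 0, 1, 1]), (33, [3, 1, 1, 0, 1]), (92, [9, 1, 1, 1, 1]),
        (79, [6, 1, 1, 1, 1]), (100, [1, 1, 0, 1, 0]), (80, [1, 0, 1, 0, 1]), (46, [9, 0, 0, 0, 0]),
        (80, [1, 1, 0, 0, 0]), (98, [0, 1, 1, 0, 1]), (80, [1, 1, 0, 0, 0]), (98, [0, 0, 0, 1, 0]),
        (98, [0, 1, 1, 1, 1]), (98, [0, 1, 1, 1, 1]), (73, [7, 0, 1, 1, 0]), (20, [7, 1, 0, 0, 1]),
        (92, [1, 1, 0, 0, 0]), (28, [4, 0, 0, 0, 1]), (63, [3, 1, 1, 1, 1]), (76, [9, 1, 1, 1, 0]),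
        (108, [4, 0, 0, 0, 0]), (50, [6, 2, 1, 0, 1]), (46, [3, 0, 0, 1, 1]), (87, [9, 2, 1, 0, 1]),
        (99, [4, 0, 0, 1, 1]), (99, [9, 1, 1, 1, 0]), (90, [0, 1, 1, 0, 0]), (90, [6, 2, 1, 1, 1]),
        (90, [0, 1, 1, 0, 0]), (99, [0, 0, 0, 1, 0]), (90, [6, 2, 1, 0, 1]), (90, [6, 2, 1, 0, 1]),
        (48, [7, 1, 1, 1, 0]), (47, [7, 1, 1, 0, 0]), (12, [4, 1, 1, 1, 0]), (122, [3, 0, 1, 1, 0]),
        (104, [2, 1, 0, 0, 0]), (123, [5, 1, 0, 1, 1]), (9, [5, 1, 0, 0, 1]), (48, [0, 0, 0, 1, 0]),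
        (48, [6, 1, 0, 1, 1]), (17, [6, 1, 0, 1, 1]), (100, [3, 1, 1, 1, 1]), (114, [2, 1, 1, 0, 0]),
        (118, [8, 1, 0, 0, 1]), (118, [9, 1, 0, 1, 1]), (118, [8, 1, 0, 0, 1]), (100, [0, 0, 0, 1, 0]),
        (118, [9, 1, 0, 0, 1]), (118, [9, 1, 0, 0, 1]), (30, [6, 1, 0, 0, 1]), (30, [6, 1, 1, 0, 0]),
        (93, [6, 2, 0, 0, 0]), (121, [4, 0, 0, 1, 1]), (122, [0, 0, 0, 0, 1]), (20, [0, 0, 0, 1, 0]),
        (58, [2, 0, 1, 0, 1]), (18, [6, 2, 0, 1, 0]), (39, [9, 0, 0, 0, 1]), (109, [2, 1, 0, 0, 0]),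
        (116, [7, 2, 1, 0, 0]), (89, [7, 1, 0, 0, 0]), (33, [4, 2, 1, 0, 1]), (44, [1, 2, 0, 1, 1]),
        (33, [4, 2, 1, 0, 1]), (101, [0, 0, 0, 1, 0]), (44, [1, 2, 0, 0, 1]), (44, [1, 2, 0, 0, 1]),
        (111, [9, 0, 1, 0, 0]), (104, [5, 0, 0, 1, 0]), (44, [4, 0, 0, 1, 1]), (36, [2, 1, 0, 0, 1]),
        (47, [3, 1, 0, 1, 1]), (45, [6, 1, 1, 0, 1]), (105, [3, 0, 1, 0, 0]), (108, [0, 2, 1, 0, 0]),
        (43, [8, 2, 0, 0, 0]), (67, [3, 0, 0, 0, 0]), (102, [1, 1, 1, 1, 1]), (108, [6, 2, 0, 0, 0]),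
        (102, [9, 1, 0, 0, 0]), (102, [6, 1, 0, 1, 1]), (102, [9, 1, 0, 0, 0]), (102, [0, 0, 0, 1, 0]),
        (102, [6, 1, 0, 0, 1]), (102, [6, 1, 0, 0, 1]), (121, [5, 0, 0, 1, 1]), (44, [5, 2, 1, 1, 0]),
        (102, [5, 2, 1, 1, 1]), (33, [4, 1, 0, 1, 0]), (69, [2, 2, 1, 0, 1]), (21, [0, 0, 0, 1, 0]),
        (83, [9, 0, 1, 1, 0]), (121, [2, 2, 0, 1, 0]), (116, [3, 2, 0, 0, 1]), (18, [7, 0, 1, 0, 1]),
        (71, [8, 0, 1, 0, 1]), (109, [4, 1, 0, 0, 0]), (94, [1, 1, 0, 0, 1]), (117, [7, 1, 1, 0, 1]),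
        (94, [1, 1, 0, 0, 1]), (103, [0, 0, 0, 1, 0]), (117, [7, 1, 1, 1, 1]), (117, [7, 1, 1, 1, 1]),
        (108, [4, 2, 0, 1, 1]), (102, [3, 1, 0, 1, 0]), (103, [1, 0, 0, 1, 1]), (63, [5, 0, 1, 0, 0]),
        (100, [8, 2, 1, 1, 1]), (91, [6, 0, 1, 1, 1]), (73, [7, 1, 0, 1, 1]), (111, [7, 2, 0, 0, 0]),
        (111, [7, 2, 1, 0, 1]), (27, [7, 1, 0, 1, 0]), (27, [6, 2, 0, 1, 0]), (54, [3, 0, 1, 0, 0]),
        (113, [6, 2, 0, 1, 0]), (112, [6, 2, 0, 1, 0]), (113, [6, 2, 0, 1, 0]), (104, [0, 0, 0, 1, 0]),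
        (112, [6, 2, 0, 0, 0]), (112, [6, 2, 0, 0, 0]), (125, [3, 1, 1, 0, 0]), (125, [5, 0, 0, 0, 1]),
        (83, [4, 1, 1, 0, 1]), (2, [0, 1, 0, 1, 1]), (54, [8, 0, 0, 1, 1]), (27, [6, 1, 1, 1, 1]),
        (110, [5, 0, 0, 1, 1]), (125, [3, 0, 0, 1, 1]), (118, [4, 2, 1, 1, 1]), (75, [0, 2, 0, 0, 1]),
        (91, [6, 2, 1, 0, 0]), (55, [9, 2, 1, 1, 1]), (22, [0, 0, 0, 1, 0]), (48, [0, 1, 1, 1, 1]),
        (22, [0, 0, 0, 1, 0]), (105, [0, 0, 0, 1, 0]), (48, [0, 1, 1, 0, 1]), (48, [0, 1, 1, 0, 1]),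
        (105, [6, 0, 0, 0, 0]), (83, [6, 0, 0, 1, 1]), (105, [5, 2, 0, 0, 0]), (0, [3, 0, 0, 0, 0]),
        (51, [3, 1, 1, 1, 1]), (51, [8, 1, 0, 1, 0]), (111, [3, 0, 1, 0, 0]), (106, [1, 0, 0, 0, 0]),
        (106, [4, 2, 1, 0, 1]), (106, [8, 2, 1, 0, 1]), (106, [7, 1, 1, 0, 0]), (106, [7, 2, 0, 0, 1]),
        (106, [9, 1, 1, 1, 0]), (106, [4, 0, 0, 0, 1]), (106, [9, 1, 1, 1, 0]), (106, [0, 0, 0, 1, 0]),
        (106, [4, 0, 0, 1, 1]), (106, [4, 0, 0, 1, 1]), (62, [3, 0, 1, 0, 0]), (61, [9, 2, 1, 1, 1]),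
        (112, [8, 0, 0, 1, 1]), (42, [3, 1, 1, 1, 1]), (23, [0, 0, 0, 0, 0]), (23, [9, 1, 0, 1, 0]),
        (127, [5, 0, 1, 0, 1]), (62, [3, 2, 1, 0, 1]), (88, [4, 1, 0, 1, 1]), (63, [4, 1, 0, 0, 1]),
        (107, [0, 2, 0, 0, 1]), (107, [1, 2, 0, 0, 0]), (88, [7, 1, 0, 1, 1]), (88, [7, 0, 1, 0, 0]),
        (88, [7, 1, 0, 1, 1]), (107, [0, 0, 0, 1, 0]), (88, [7, 0, 1, 1, 0]), (88, [7, 0, 1, 1, 0]),
        (44, [4, 1, 0, 1, 1]), (121, [8, 2, 0, 0, 1]), (94, [2, 2, 0, 1, 0]), (53, [0, 1, 1, 0, 0]),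
        (48, [3, 0, 0, 1, 0]), (90, [6, 2, 1, 0, 0]), (3, [5, 2, 1, 1, 1]), (57, [2, 2, 1, 1, 0]),
        (57, [3, 0, 1, 0, 1]), (26, [9, 2, 0, 0, 1]), (108, [6, 1, 0, 0, 1]), (102, [1, 2, 1, 1, 0]),
        (24, [2, 1, 1, 0, 1]), (24, [3, 1, 1, 0, 0]), (24, [2, 1, 1, 0, 1]), (108, [0, 0, 0, 1, 0]),
        (24, [3, 1, 1, 1, 0]), (24, [3, 1, 1, 1, 0]), (89, [0, 0, 0, 0, 0]), (116, [3, 0, 0, 0, 0]),
        (34, [9, 1, 0, 0, 0]), (101, [2, 0, 0, 1, 1]), (52, [8, 1, 0, 0, 0]), (72, [7, 2, 0, 1, 0]),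
        (7, [1, 0, 0, 1, 0]), (89, [0, 0, 0, 1, 1]), (44, [0, 0, 0, 1, 1]), (96, [2, 1, 0, 0, 0]),
        (115, [6, 1, 0, 0, 1]), (103, [7, 2, 1, 0, 1]), (126, [2, 2, 0, 0, 1]), (39, [2, 2, 0, 1, 1]),
        (126, [2, 2, 0, 0, 1]), (109, [0, 0, 0, 1, 0]), (39, [2, 2, 0, 0, 1]), (39, [2, 2, 0, 0, 1]),
        (123, [2, 2, 0, 1, 1]), (34, [2, 1, 1, 0, 0]), (109, [5, 1, 1, 0, 0]), (30, [3, 2, 1, 1, 0]),
        (90, [6, 1, 1, 0, 1]), (48, [3, 1, 0, 1, 1]), (77, [3, 1, 1, 1, 1]), (25, [5, 1, 1, 1, 0]),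
        (25, [4, 0, 1, 1, 1]), (42, [1, 2, 1, 1, 1]), (42, [8, 0, 0, 1, 1]), (43, [3, 1, 0, 1, 1]),
        (57, [7, 0, 0, 0, 0]), (26, [9, 0, 1, 0, 1]), (57, [7, 0, 0, 0, 0]), (110, [0, 0, 0, 1, 0]),
        (26, [9, 0, 1, 1, 1]), (26, [9, 0, 1, 1, 1]), (103, [7, 1, 1, 0, 1]), (115, [6, 0, 0, 1, 1]),
        (95, [0, 1, 1, 0, 1]), (119, [0, 2, 1, 1, 0]), (114, [6, 0, 0, 1, 1]), (55, [6, 0, 0, 1, 0]),
        (87, [2, 2, 0, 0, 0]), (124, [1, 2, 1, 0, 0]), (112, [6, 1, 0, 0, 1]), (34, [0, 0, 1, 0, 0]),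
        (54, [8, 0, 1, 1, 1]), (27, [0, 0, 0, 1, 0]), (54, [7, 0, 1, 0, 0]), (111, [7, 1, 1, 1, 0]),
        (54, [7, 0, 1, 0, 0]), (111, [0, 0, 0, 1, 0]), (111, [7, 1, 1, 0, 0]), (111, [7, 1, 1, 0, 0]),
        (61, [1, 2, 0, 0, 1]), (62, [1, 1, 0, 0, 0]), (61, [0, 2, 1, 0, 1]), (64, [8, 1, 0, 1, 1]),
        (41, [2, 2, 0, 1, 0]), (41, [4, 1, 1, 1, 0]), (91, [3, 0, 1, 1, 0]), (112, [7, 1, 0, 1, 1]),
        (124, [4, 1, 1, 0, 1]), (104, [0, 0, 0, 1, 1]), (113, [0, 0, 0, 1, 0]), (113, [7, 1, 1, 1, 0]),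
        (27, [0, 0, 0, 1, 0]), (104, [1, 2, 1, 1, 0]), (27, [0, 0, 0, 1, 0]), (112, [0, 0, 0, 1, 0]),
        (104, [1, 2, 1, 0, 0]), (104, [1, 2, 1, 0, 0]), (126, [0, 1, 0, 0, 0]), (97, [8, 2, 0, 1, 0]),
        (25, [4, 0, 1, 0, 0]), (60, [5, 1, 0, 0, 0]), (84, [9, 0, 0, 0, 0]), (68, [1, 1, 0, 0, 0]),
        (45, [8, 1, 1, 0, 0]), (34, [1, 1, 0, 1, 1]), (27, [7, 2, 0, 1, 1]), (111, [6, 2, 0, 1, 1]),
        (112, [0, 0, 0, 1, 0]), (112, [7, 1, 1, 0, 0]), (104, [1, 2, 1, 0, 0]), (27, [0, 0, 0, 0, 0]),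
        (104, [1, 2, 1, 0, 0]), (113, [0, 0, 0, 1, 0]), (27, [0, 0, 0, 1, 0]), (27, [0, 0, 0, 1, 0]),
        (69, [3, 2, 0, 0, 0]), (28, [0, 0, 0, 0, 0]), (11, [8, 2, 1, 0, 0]), (58, [7, 2, 0, 0, 1]),
        (111, [3, 2, 1, 0, 1]), (34, [7, 2, 1, 1, 0]), (112, [1, 2, 1, 1, 1]), (65, [6, 0, 1, 0, 0]),
        (75, [9, 0, 1, 1, 0]), (99, [8, 0, 0, 1, 1]), (114, [3, 1, 1, 1, 1]), (100, [2, 1, 1, 0, 0]),
        (114, [3, 1, 1, 1, 0]), (114, [0, 0, 0, 1, 1]), (114, [3, 1, 1, 1, 0]), (114, [0, 0, 0, 1, 0]),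
        (114, [0, 0, 0, 0, 1]), (114, [0, 0, 0, 0, 1]), (104, [9, 0, 1, 1, 1]), (111, [3, 2, 1, 0, 1]),
        (57, [0, 1, 1, 0, 1]), (31, [7, 1, 0, 1, 1]), (28, [0, 0, 0, 0, 0]), (74, [6, 2, 0, 1, 1]),
        (17, [9, 0, 1, 1, 1]), (95, [4, 1, 1, 1, 1]), (93, [9, 0, 0, 0, 0]), (39, [9, 1, 1, 1, 0]),
        (109, [6, 1, 0, 0, 1]), (71, [6, 2, 0, 1, 1]), (39, [8, 2, 1, 0, 1]), (126, [8, 2, 1, 1, 1]),
        (39, [8, 2, 1, 0, 1]), (115, [0, 0, 0, 1, 0]), (126, [8, 2, 1, 0, 1]), (126, [8, 2, 1, 0, 1]),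
        (71, [3, 2, 0, 1, 0]), (109, [1, 0, 0, 1, 0]), (110, [8, 2, 1, 1, 1]), (81, [7, 2, 0, 1, 1]),
        (74, [6, 2, 0, 1, 1]), (28, [0, 0, 0, 1, 0]), (122, [9, 0, 0, 0, 1]), (71, [0, 2, 0, 1, 1]),
        (101, [0, 2, 0, 1, 1]), (71, [3, 1, 0, 1, 1]), (101, [6, 2, 0, 1, 1]), (81, [8, 2, 1, 1, 0]),
        (44, [4, 0, 0, 0, 0]), (33, [9, 1, 1, 1, 0]), (44, [4, 0, 0, 0, 0]), (116, [0, 0, 0, 1, 0]),
        (33, [9, 1, 1, 0, 0]), (33, [9, 1, 1, 0, 0]), (38, [0, 2, 0, 0, 0]), (29, [0, 0, 0, 0, 0]),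
        (76, [6, 1, 0, 1, 0]), (44, [3, 1, 1, 0, 0]), (49, [7, 1, 0, 0, 0]), (98, [6, 1, 0, 0, 1]),
        (11, [9, 1, 0, 0, 1]), (81, [6, 2, 0, 1, 0]), (109, [7, 2, 0, 1, 1]), (95, [1, 1, 1, 0, 0]),
        (94, [9, 1, 1, 0, 1]), (95, [3, 2, 1, 0, 0]), (71, [9, 0, 1, 0, 0]), (103, [1, 1, 1, 1, 0]),
        (71, [9, 0, 1, 0, 0]), (117, [0, 0, 0, 1, 0]), (103, [1, 1, 1, 0, 0]), (103, [1, 1, 1, 0, 0]),
        (77, [7, 0, 1, 1, 0]), (122, [1, 1, 0, 1, 1]), (66, [0, 1, 1, 0, 0]), (127, [9, 0, 0, 1, 0]),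
        (30, [0, 0, 0, 0, 0]), (36, [4, 0, 0, 0, 0]), (123, [9, 2, 1, 1, 1]), (75, [7, 0, 1, 1, 0]),
        (65, [9, 2, 1, 1, 1]), (70, [9, 0, 0, 0, 0]), (118, [0, 1, 1, 0, 1]), (118, [7, 2, 0, 0, 1]),
        (100, [9, 0, 0, 1, 0]), (100, [9, 1, 1, 1, 1]), (100, [9, 0, 0, 1, 0]), (118, [0, 0, 0, 1, 0]),
        (100, [9, 1, 1, 0, 1]), (100, [9, 1, 1, 0, 1]), (5, [0, 0, 1, 1, 1]), (53, [8, 0, 1, 0, 0]),
        (96, [8, 0, 1, 1, 0]), (67, [5, 1, 1, 0, 1]), (85, [6, 1, 1, 1, 1]), (78, [3, 1, 1, 1, 0]),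
        (1, [0, 0, 1, 1, 1]), (88, [6, 1, 0, 1, 0]), (62, [8, 0, 1, 0, 1]), (76, [8, 0, 1, 1, 1]),
        (119, [5, 0, 1, 0, 1]), (88, [8, 0, 0, 1, 1]), (119, [5, 0, 1, 1, 0]), (119, [0, 0, 0, 0, 1]),
        (119, [5, 0, 1, 1, 0]), (119, [0, 0, 0, 1, 0]), (119, [0, 0, 0, 1, 1]), (119, [0, 0, 0, 1, 1]),
        (36, [5, 2, 0, 1, 0]), (36, [3, 2, 0, 1, 1]), (39, [5, 2, 0, 0, 0]), (71, [4, 2, 1, 1, 1]),
        (73, [0, 1, 1, 0, 1]), (77, [0, 1, 1, 1, 1]), (50, [7, 1, 0, 1, 1]), (31, [5, 2, 0, 1, 0]),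
        (126, [4, 2, 0, 1, 1]), (120, [9, 2, 1, 0, 0]), (121, [0, 0, 0, 1, 0]), (44, [8, 0, 1, 1, 0]),
        (31, [0, 0, 0, 1, 0]), (93, [3, 1, 1, 0, 1]), (31, [0, 0, 0, 1, 0]), (120, [0, 0, 0, 1, 0]),
        (93, [3, 1, 1, 1, 1]), (93, [3, 1, 1, 1, 1]), (102, [9, 0, 1, 1, 1]), (108, [8, 2, 0, 1, 1]),
        (124, [7, 1, 0, 0, 1]), (96, [9, 2, 0, 0, 1]), (72, [0, 1, 1, 1, 1]), (52, [6, 2, 1, 1, 1]),
        (99, [1, 0, 0, 1, 0]), (94, [7, 2, 0, 0, 0]), (56, [3, 0, 1, 1, 1]), (33, [4, 2, 0, 1, 1]),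
        (120, [0, 0, 0, 1, 0]), (33, [3, 2, 0, 0, 1]), (93, [3, 1, 1, 1, 1]), (31, [0, 0, 0, 0, 0]),
        (93, [3, 1, 1, 1, 1]), (121, [0, 0, 0, 1, 0]), (31, [0, 0, 0, 1, 0]), (31, [0, 0, 0, 1, 0]),
        (118, [6, 1, 0, 0, 0]), (118, [6, 1, 1, 0, 1]), (78, [3, 1, 1, 0, 0]), (91, [8, 0, 1, 1, 0]),
        (101, [0, 0, 0, 0, 1]), (33, [0, 0, 0, 1, 0]), (34, [2, 0, 0, 1, 0]), (14, [3, 1, 1, 1, 0]),
        (14, [8, 0, 1, 1, 0]), (1, [6, 1, 0, 0, 0]), (127, [8, 2, 0, 0, 0]), (52, [7, 0, 1, 1, 1]),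
        (68, [8, 0, 1, 0, 0]), (41, [8, 2, 0, 1, 0]), (68, [8, 0, 1, 0, 0]), (122, [0, 0, 0, 1, 0]),
        (41, [8, 2, 0, 0, 0]), (41, [8, 2, 0, 0, 0]), (116, [6, 2, 1, 1, 0]), (89, [9, 1, 0, 0, 0]),
        (126, [7, 2, 0, 1, 0]), (10, [6, 2, 0, 1, 1]), (91, [8, 2, 1, 1, 1]), (100, [6, 0, 1, 0, 1]),
        (106, [0, 0, 0, 1, 0]), (113, [6, 1, 1, 1, 1]), (113, [6, 2, 0, 1, 0]), (112, [0, 1, 1, 1, 0]),
        (123, [1, 1, 1, 1, 1]), (34, [4, 0, 1, 1, 0]), (51, [7, 2, 1, 1, 0]), (51, [8, 1, 0, 0, 1]),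
        (51, [7, 2, 1, 1, 0]), (123, [0, 0, 0, 1, 0]), (51, [8, 1, 0, 1, 1]), (51, [8, 1, 0, 1, 1]),
        (95, [6, 1, 1, 0, 1]), (94, [5, 1, 1, 1, 0]), (108, [6, 0, 1, 0, 0]), (88, [8, 2, 1, 1, 1]),
        (68, [9, 1, 0, 1, 1]), (84, [1, 0, 0, 0, 1]), (72, [7, 1, 0, 0, 1]), (104, [4, 0, 0, 1, 1]),
        (104, [4, 0, 1, 1, 0]), (51, [7, 2, 1, 1, 0]), (124, [0, 2, 0, 0, 1]), (124, [4, 1, 1, 0, 0]),
        (124, [1, 2, 0, 1, 0]), (124, [1, 1, 1, 0, 1]), (124, [1, 2, 0, 1, 0]), (124, [0, 0, 0, 1, 0]),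
        (124, [1, 1, 1, 1, 1]), (124, [1, 1, 1, 1, 1]), (83, [1, 0, 1, 1, 0]), (105, [3, 1, 0, 0, 1]),
        (106, [4, 2, 1, 0, 1]), (1, [5, 0, 1, 0, 1]), (37, [0, 0, 0, 0, 0]), (37, [0, 2, 1, 1, 0]),
        (121, [8, 2, 0, 0, 0]), (83, [7, 0, 1, 0, 0]), (100, [7, 0, 0, 1, 1]), (48, [7, 1, 1, 1, 0]),
        (87, [6, 1, 1, 0, 1]), (87, [6, 1, 0, 0, 0]), (66, [7, 1, 0, 1, 1]), (65, [2, 1, 0, 0, 0]),
        (66, [7, 1, 0, 1, 1]), (125, [0, 0, 0, 1, 0]), (65, [2, 1, 0, 1, 0]), (65, [2, 1, 0, 1, 0]),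
        (67, [0, 2, 1, 1, 0]), (67, [3, 2, 1, 0, 1]), (89, [6, 0, 1, 1, 1]), (93, [4, 2, 1, 1, 1]),
        (80, [5, 1, 0, 0, 1]), (59, [8, 0, 0, 0, 1]), (74, [4, 1, 1, 0, 0]), (109, [6, 0, 1, 0, 1]),
        (81, [8, 0, 1, 1, 0]), (126, [3, 2, 1, 1, 0]), (39, [0, 0, 0, 0, 0]), (96, [8, 0, 1, 0, 0]),
        (109, [2, 1, 0, 0, 1]), (115, [2, 1, 0, 0, 0]), (109, [2, 1, 0, 0, 1]), (126, [0, 0, 0, 1, 0]),
        (115, [2, 1, 0, 1, 0]), (115, [2, 1, 0, 1, 0]), (90, [0, 1, 1, 1, 0]), (45, [0, 1, 1, 0, 0]),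
        (46, [5, 1, 0, 0, 0]), (50, [6, 0, 0, 0, 1]), (71, [8, 2, 0, 1, 1]), (44, [2, 0, 1, 0, 1]),
        (113, [4, 2, 0, 0, 1]), (35, [3, 1, 0, 0, 1]), (35, [5, 0, 1, 1, 0]), (2, [3, 2, 1, 1, 1]),
        (122, [2, 2, 1, 0, 1]), (77, [6, 0, 0, 1, 1]), (41, [0, 0, 0, 1, 0]), (68, [0, 2, 1, 0, 0]),
        (41, [0, 0, 0, 1, 0]), (127, [0, 0, 0, 1, 0]), (68, [0, 2, 1, 1, 0]), (68, [0, 2, 1, 1, 0])] },
    { b := 199
      V := [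
        3208670941124875, 12884119416281667852, 250835921622153418596, 446223969470809, 1957780209695611225,
        1647632754754852441, 1759977650466739916, 1647632754754852441, 7754956, 1755688876393478889,
        1755688876393478889]
      L := [
        0, 3208670941124875, 250835921622153418596, 147012997985057, 1615857503716094683, 1177265072159521,
        234505719958249543948, 100646283845716684, 13996974459659, 1755720672907473641]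
      wit := [
        [], [0], [2], [0, 0], [0, 2], [0, 4], [0, 5], [0, 6], [2, 1], [0, 0, 2]]
      steps := [
        (1, [0, 0, 0, 0]), (1, [2, 0, 0, 1]), (2, [0, 0, 0, 0]), (0, [0, 1, 0, 1]), (0, [1, 0, 0, 0]),
        (0, [0, 1, 0, 0]), (0, [0, 0, 1, 1]), (0, [0, 1, 0, 0]), (0, [0, 0, 1, 0]), (0, [0, 0, 0, 1]),
        (0, [0, 0, 0, 1]), (3, [0, 0, 0, 0]), (3, [0, 0, 0, 1]), (4, [0, 0, 0, 0]), (4, [2, 1, 1, 1]),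
        (5, [0, 0, 0, 0]), (6, [0, 0, 0, 0]), (7, [0, 0, 0, 0]), (6, [0, 0, 0, 0]), (1, [0, 0, 1, 0]),
        (7, [0, 0, 1, 0]), (7, [0, 0, 1, 0]), (5, [2, 1, 0, 0]), (8, [0, 0, 0, 0]), (6, [0, 0, 0, 0]),
        (2, [0, 0, 1, 1]), (2, [0, 1, 1, 0]), (8, [1, 0, 0, 1]), (8, [1, 0, 1, 0]), (8, [1, 0, 0, 1]),
        (2, [0, 0, 1, 0]), (8, [1, 0, 0, 0]), (8, [1, 0, 0, 0]), (0, [0, 0, 1, 0]), (7, [1, 1, 0, 0]),
        (9, [0, 0, 0, 0]), (5, [1, 1, 0, 1]), (4, [0, 1, 1, 0]), (5, [2, 0, 1, 0]), (3, [2, 0, 1, 1]),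
        (5, [2, 0, 1, 0]), (3, [0, 0, 1, 0]), (3, [2, 0, 0, 1]), (3, [2, 0, 0, 1]), (2, [1, 0, 1, 0]),
        (2, [0, 1, 1, 1]), (5, [2, 0, 1, 0]), (1, [1, 0, 0, 1]), (3, [0, 1, 1, 0]), (7, [1, 0, 0, 1]),
        (6, [1, 0, 0, 1]), (7, [1, 0, 0, 1]), (4, [0, 0, 1, 0]), (6, [1, 0, 1, 1]), (6, [1, 0, 1, 1]),
        (4, [2, 0, 1, 0]), (9, [2, 0, 1, 1]), (8, [1, 1, 0, 1]), (3, [1, 1, 0, 1]), (1, [0, 0, 1, 0]),
        (3, [1, 1, 0, 0]), (5, [0, 0, 1, 1]), (3, [1, 1, 0, 0]), (5, [0, 0, 1, 0]), (5, [0, 0, 0, 1]),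
        (5, [0, 0, 0, 1]), (9, [2, 0, 0, 0]), (4, [2, 0, 0, 1]), (3, [0, 1, 0, 0]), (7, [0, 0, 1, 0]),
        (7, [0, 0, 1, 1]), (1, [0, 0, 1, 0]), (4, [2, 1, 1, 1]), (1, [0, 0, 1, 0]), (6, [0, 0, 1, 0]),
        (4, [2, 1, 0, 1]), (4, [2, 1, 0, 1]), (7, [2, 0, 0, 0]), (0, [1, 1, 0, 0]), (1, [1, 0, 0, 1]),
        (6, [0, 0, 1, 0]), (6, [0, 0, 0, 1]), (4, [2, 1, 0, 1]), (1, [0, 0, 0, 0]), (4, [2, 1, 0, 1]),
        (7, [0, 0, 1, 0]), (1, [0, 0, 1, 0]), (1, [0, 0, 1, 0]), (6, [2, 0, 1, 1]), (6, [2, 1, 1, 0]),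
        (7, [1, 0, 1, 0]), (8, [2, 0, 0, 1]), (9, [2, 0, 0, 1]), (2, [2, 1, 0, 1]), (2, [1, 0, 0, 0]),
        (2, [2, 1, 0, 1]), (8, [0, 0, 1, 0]), (2, [1, 0, 1, 0]), (2, [1, 0, 1, 0]), (8, [1, 1, 1, 1]),
        (5, [1, 0, 1, 1]), (0, [0, 1, 1, 0]), (9, [2, 0, 1, 1]), (8, [2, 0, 1, 1]), (9, [2, 1, 0, 0]),
        (9, [0, 1, 1, 1]), (9, [2, 1, 0, 0]), (9, [0, 0, 1, 0]), (9, [0, 1, 0, 1]), (9, [0, 1, 0, 1])] },
    { b := 252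
      V := [
        446223969470809, 1957780209695611225, 1647632754754852441, 1759977650466739916, 1647632754754852441,
        7754956, 1755688876393478889, 1755688876393478889]
      L := [
        0, 1957780209695611225, 3660497113029326572]
      wit := [
        [], [1], [1, 2]]
      steps := [
        (0, [1, 0, 1]), (1, [0, 0, 0]), (0, [1, 0, 0]), (0, [0, 1, 1]), (0, [1, 0, 0]), (0, [0, 1, 0]),
        (0, [0, 0, 1]), (0, [0, 0, 1]), (1, [1, 1, 1]), (0, [0, 1, 0]), (2, [0, 0, 0]), (2, [1, 1, 1]),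
        (2, [0, 0, 0]), (1, [0, 1, 0]), (2, [1, 0, 1]), (2, [1, 0, 1]), (2, [1, 0, 1]), (2, [1, 0, 0]),
        (1, [0, 1, 0]), (1, [1, 1, 1]), (1, [0, 1, 0]), (2, [0, 1, 0]), (1, [1, 0, 1]), (1, [1, 0, 1])] },
    { b := 402
      V := [
        1759977650466739916, 1647632754754852441, 7754956, 1755688876393478889, 1755688876393478889]
      L := [
        0, 1647632754754852441]
      wit := [
        [], [1]]
      steps := [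
        (0, [1, 1]), (1, [0, 0]), (0, [1, 0]), (0, [0, 1]), (0, [0, 1]), (1, [0, 1]), (0, [1, 0]),
        (1, [1, 0]), (1, [1, 1]), (1, [1, 1])] },
    { b := 9
      V := [
        7754956, 1755688876393478889, 1755688876393478889]
      L := [
        0, 7754956]
      wit := [
        [], [0]]
      steps := [
        (1, [0]), (0, [1]), (0, [1]), (0, [0]), (1, [1]), (1, [1])] },
    { b := 0
      V := [
        1755688876393478889]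
      L := [
        0, 1755688876393478889]
      wit := [
        [], [0]]
      steps := [
        (1, []), (0, [])] }]

/-- The levels of stabiliser 4. -/
def levels4 : List Level := [
    { b := 0
      V := [
        8787545, 25539275, 8788065, 42, 250642038757419505388, 441122588510308, 1317907773017,
        54162950506587, 3679302363, 120134721910361, 7157008300815972, 7157008300815972, 1814113075980,
        1333120518241, 1333120518241, 1410279192153, 38845945547]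
      L := [
        0, 42]
      wit := [
        [], [3]]
      steps := [
        (0, [0, 4, 1, 3, 2]), (0, [5, 5, 4, 1, 1]), (0, [0, 2, 3, 3, 0]), (1, [0, 0, 0, 0, 0]),
        (0, [1, 0, 0, 0, 0]), (0, [2, 0, 0, 0, 0]), (0, [0, 1, 0, 0, 0]), (0, [0, 2, 0, 0, 0]),
        (0, [0, 2, 3, 2, 2]), (0, [0, 3, 0, 0, 0]), (0, [0, 0, 1, 0, 0]), (0, [0, 0, 1, 0, 0]),
        (0, [0, 0, 2, 0, 0]), (0, [0, 0, 0, 1, 0]), (0, [0, 0, 0, 1, 0]), (0, [0, 0, 0, 2, 0]),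
        (0, [0, 0, 0, 0, 1]), (1, [0, 2, 4, 0, 1]), (1, [5, 5, 4, 0, 2]), (1, [0, 2, 3, 2, 1]),
        (0, [0, 0, 0, 0, 0]), (1, [1, 4, 0, 2, 1]), (1, [4, 2, 4, 2, 0]), (1, [0, 0, 3, 2, 2]),
        (1, [0, 1, 4, 2, 1]), (1, [0, 2, 3, 0, 0]), (1, [0, 2, 2, 1, 1]), (1, [0, 4, 4, 1, 2]),
        (1, [0, 4, 4, 1, 2]), (1, [0, 5, 2, 1, 2]), (1, [0, 0, 0, 3, 2]), (1, [0, 0, 0, 3, 2]),
        (1, [0, 0, 0, 0, 1]), (1, [0, 0, 0, 2, 0])] },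
    { b := 10
      V := [
        250642038757419505388, 441122588510308, 1317907773017, 54162950506587, 3679302363, 120134721910361,
        7157008300815972, 7157008300815972, 1814113075980, 1333120518241, 1333120518241, 1410279192153,
        38845945547]
      L := [
        0, 250642038757419505388, 441122588510308, 14054377266217096801, 3664107393281005836,
        5285868988743595852, 29627965709925897003]
      wit := [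
        [], [0], [1], [0, 0], [0, 4], [0, 6], [0, 9]]
      steps := [
        (1, [0, 0, 0, 0]), (2, [0, 0, 0, 0]), (0, [1, 0, 0, 0]), (0, [2, 0, 0, 0]), (0, [2, 3, 2, 2]),
        (0, [3, 0, 0, 0]), (0, [0, 1, 0, 0]), (0, [0, 1, 0, 0]), (0, [0, 2, 0, 0]), (0, [0, 0, 1, 0]),
        (0, [0, 0, 1, 0]), (0, [0, 0, 2, 0]), (0, [0, 0, 0, 1]), (3, [0, 0, 0, 0]), (0, [1, 3, 1, 1]),
        (2, [2, 2, 3, 0]), (2, [1, 1, 1, 0]), (4, [0, 0, 0, 0]), (2, [4, 2, 2, 1]), (5, [0, 0, 0, 0]),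
        (5, [0, 0, 0, 0]), (2, [1, 0, 3, 0]), (6, [0, 0, 0, 0]), (6, [0, 0, 0, 0]), (5, [5, 2, 1, 1]),
        (5, [0, 0, 2, 2]), (4, [3, 4, 1, 0]), (3, [5, 4, 1, 1]), (6, [2, 0, 3, 0]), (6, [0, 4, 3, 0]),
        (3, [5, 1, 0, 1]), (5, [5, 1, 0, 2]), (3, [5, 0, 1, 0]), (3, [5, 0, 1, 0]), (3, [1, 4, 2, 1]),
        (1, [5, 2, 3, 1]), (1, [5, 2, 3, 1]), (1, [1, 0, 2, 1]), (3, [5, 0, 3, 2]), (5, [4, 1, 2, 1]),
        (1, [2, 1, 3, 2]), (1, [1, 4, 0, 2]), (3, [4, 1, 0, 2]), (2, [5, 3, 2, 1]), (3, [1, 1, 0, 2]),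
        (4, [4, 0, 3, 2]), (4, [4, 0, 3, 2]), (6, [2, 2, 3, 2]), (5, [2, 4, 2, 1]), (5, [2, 4, 2, 1]),
        (6, [2, 1, 1, 2]), (6, [2, 0, 2, 2]), (6, [1, 4, 0, 2]), (5, [4, 3, 2, 0]), (3, [0, 4, 2, 0]),
        (4, [3, 2, 0, 2]), (1, [0, 0, 0, 0]), (4, [1, 3, 2, 2]), (2, [0, 2, 3, 1]), (2, [0, 2, 3, 1]),
        (4, [3, 4, 0, 1]), (3, [1, 3, 1, 0]), (3, [1, 3, 1, 0]), (3, [3, 3, 3, 0]), (1, [0, 4, 1, 0]),
        (2, [4, 4, 3, 2]), (4, [5, 4, 0, 2]), (5, [2, 0, 0, 1]), (5, [4, 2, 3, 1]), (5, [0, 2, 0, 2]),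
        (1, [1, 1, 3, 2]), (6, [1, 0, 1, 0]), (6, [1, 0, 1, 0]), (1, [5, 2, 2, 1]), (4, [3, 3, 1, 0]),
        (4, [3, 3, 1, 0]), (2, [4, 4, 3, 1]), (4, [0, 4, 0, 1]), (0, [5, 1, 2, 1]), (6, [1, 2, 0, 2]),
        (4, [5, 3, 2, 2]), (1, [1, 3, 2, 2]), (6, [3, 3, 0, 1]), (6, [4, 1, 0, 0]), (1, [1, 0, 1, 0]),
        (1, [1, 0, 1, 0]), (5, [3, 1, 1, 2]), (2, [4, 4, 1, 2]), (2, [4, 4, 1, 2]), (4, [3, 3, 0, 1]),
        (2, [3, 1, 1, 1])] },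
    { b := 19
      V := [
        1317907773017, 54162950506587, 3679302363, 120134721910361, 7157008300815972, 7157008300815972,
        1814113075980, 1333120518241, 1333120518241, 1410279192153, 38845945547]
      L := [
        0, 1317907773017, 54162950506587, 120134721910361, 201366428009150156, 458009912802063137]
      wit := [
        [], [0], [1], [3], [0, 1], [0, 3]]
      steps := [
        (1, [0, 0, 0]), (2, [0, 0, 0]), (2, [3, 2, 2]), (3, [0, 0, 0]), (0, [1, 0, 0]), (0, [1, 0, 0]),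
        (0, [2, 0, 0]), (0, [0, 1, 0]), (0, [0, 1, 0]), (0, [0, 2, 0]), (0, [0, 0, 1]), (3, [1, 0, 1]),
        (4, [0, 0, 0]), (1, [4, 1, 1]), (5, [0, 0, 0]), (2, [4, 0, 0]), (2, [4, 0, 0]), (4, [2, 0, 2]),
        (4, [4, 2, 0]), (4, [4, 2, 0]), (5, [2, 3, 2]), (3, [1, 2, 1]), (2, [2, 3, 1]), (5, [0, 3, 0]),
        (0, [1, 3, 0]), (0, [4, 1, 2]), (3, [2, 2, 1]), (3, [2, 2, 1]), (1, [0, 1, 1]), (2, [0, 1, 0]),
        (2, [0, 1, 0]), (2, [2, 2, 2]), (2, [1, 2, 1]), (5, [3, 1, 0]), (1, [0, 3, 0]), (5, [2, 1, 1]),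
        (2, [4, 1, 2]), (1, [4, 1, 1]), (1, [4, 1, 1]), (5, [0, 1, 1]), (1, [4, 0, 0]), (1, [4, 0, 0]),
        (3, [0, 2, 0]), (5, [0, 0, 2]), (0, [4, 1, 1]), (3, [0, 2, 0]), (4, [3, 0, 0]), (1, [3, 1, 0]),
        (4, [0, 3, 0]), (4, [0, 3, 0]), (3, [1, 0, 2]), (3, [2, 0, 1]), (3, [2, 0, 1]), (1, [3, 3, 0]),
        (4, [2, 2, 1]), (4, [2, 3, 2]), (0, [0, 2, 0]), (3, [1, 1, 1]), (4, [3, 1, 0]), (5, [0, 3, 0]),
        (5, [0, 3, 0]), (2, [3, 3, 0]), (5, [0, 3, 2]), (5, [0, 3, 2]), (4, [1, 3, 0]), (1, [4, 2, 1])] },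
    { b := 20
      V := [
        7157008300815972, 7157008300815972, 1814113075980, 1333120518241, 1333120518241, 1410279192153,
        38845945547]
      L := [
        0, 7157008300815972, 1814113075980, 25198894630409825, 147510842996321]
      wit := [
        [], [0], [2], [0, 2], [2, 2]]
      steps := [
        (1, [0, 0]), (1, [0, 0]), (2, [0, 0]), (0, [1, 0]), (0, [1, 0]), (0, [2, 0]), (0, [0, 1]),
        (2, [2, 2]), (2, [2, 2]), (3, [0, 0]), (2, [0, 2]), (2, [0, 2]), (1, [1, 1]), (3, [1, 2]),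
        (0, [2, 2]), (0, [2, 2]), (4, [0, 0]), (4, [3, 2]), (4, [3, 2]), (3, [0, 0]), (1, [3, 0]),
        (3, [2, 0]), (3, [2, 0]), (0, [3, 0]), (3, [2, 1]), (3, [2, 1]), (4, [2, 2]), (2, [1, 0]),
        (4, [0, 2]), (4, [0, 2]), (1, [2, 0]), (1, [3, 1]), (1, [3, 1]), (2, [2, 2]), (4, [3, 0])] },
    { b := 27
      V := [
        1333120518241, 1333120518241, 1410279192153, 38845945547]
      L := [
        0, 1333120518241, 1410279192153, 1387834786521]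
      wit := [
        [], [0], [2], [0, 3]]
      steps := [
        (1, [0]), (1, [0]), (2, [0]), (0, [1]), (2, [1]), (2, [1]), (1, [1]), (3, [0]), (0, [2]), (0, [2]),
        (3, [0]), (1, [1]), (3, [1]), (3, [1]), (0, [0]), (2, [2])] },
    { b := 7
      V := [
        38845945547]
      L := [
        0, 38845945547, 36040394843]
      wit := [
        [], [0], [0, 0]]
      steps := [
        (1, []), (2, []), (0, [])] }]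

/-- The levels of stabiliser 5. -/
def levels5 : List Level := [
    { b := 0
      V := [
        111835068347083, 1175611391755019, 1815884903180, 394496700470508, 6695508953177, 3147578785284825,
        1815885170785, 7654964694725387, 10183293561870027, 7654964842338572, 2486138877540, 1333120518241,
        1813976494795, 38845945547]
      L := [
        0, 6695508953177, 3147578785284825, 3664072759734802123]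
      wit := [
        [], [4], [5], [4, 5]]
      steps := [
        (0, [1, 3, 1, 2]), (0, [1, 3, 2, 1]), (0, [2, 0, 2, 2]), (0, [2, 4, 3, 1]), (1, [0, 0, 0, 0]),
        (2, [0, 0, 0, 0]), (0, [1, 0, 0, 0]), (0, [2, 0, 0, 0]), (0, [0, 1, 0, 0]), (0, [0, 2, 0, 0]),
        (0, [0, 2, 1, 0]), (0, [0, 0, 1, 0]), (0, [0, 0, 2, 0]), (0, [0, 0, 0, 1]), (1, [5, 2, 0, 2]),
        (1, [1, 4, 3, 2]), (1, [0, 1, 2, 2]), (1, [0, 1, 2, 0]), (0, [0, 0, 0, 0]), (3, [0, 0, 0, 0]),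
        (1, [4, 3, 2, 2]), (1, [1, 4, 1, 0]), (1, [4, 4, 2, 1]), (1, [0, 4, 0, 1]), (1, [3, 1, 0, 2]),
        (1, [3, 1, 0, 1]), (1, [4, 3, 1, 1]), (1, [0, 2, 0, 2]), (2, [1, 3, 3, 0]), (2, [3, 2, 2, 0]),
        (2, [0, 0, 2, 0]), (2, [0, 3, 2, 2]), (3, [4, 4, 1, 0]), (0, [2, 1, 2, 0]), (2, [5, 3, 0, 1]),
        (2, [3, 1, 3, 2]), (2, [5, 0, 2, 1]), (2, [0, 1, 1, 1]), (2, [2, 2, 0, 0]), (2, [2, 3, 3, 2]),
        (2, [5, 1, 3, 1]), (2, [0, 1, 3, 2]), (3, [4, 4, 3, 1]), (3, [2, 3, 1, 1]), (3, [4, 3, 1, 1]),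
        (3, [4, 4, 2, 0]), (2, [4, 4, 1, 0]), (1, [3, 3, 0, 2]), (3, [5, 3, 0, 1]), (3, [2, 4, 2, 1]),
        (3, [0, 0, 3, 2]), (3, [3, 4, 3, 1]), (3, [1, 1, 1, 0]), (3, [1, 2, 1, 1]), (3, [5, 1, 3, 1]),
        (3, [5, 4, 3, 1])] },
    { b := 19
      V := [
        1815885170785, 7654964694725387, 10183293561870027, 7654964842338572, 2486138877540, 1333120518241,
        1813976494795, 38845945547]
      L := [
        0, 1815885170785, 7654964694725387, 1317907339532, 1756814879378233676, 1387834775643]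
      wit := [
        [], [0], [1], [0, 0], [0, 4], [1, 3]]
      steps := [
        (1, [0, 0, 0]), (2, [0, 0, 0]), (0, [1, 0, 0]), (0, [2, 0, 0]), (0, [2, 1, 0]), (0, [0, 1, 0]),
        (0, [0, 2, 0]), (0, [0, 0, 1]), (3, [0, 0, 0]), (0, [2, 0, 0]), (3, [3, 0, 1]), (1, [3, 1, 0]),
        (4, [0, 0, 0]), (4, [0, 1, 0]), (3, [0, 2, 0]), (1, [4, 2, 2]), (4, [4, 2, 1]), (3, [4, 1, 1]),
        (2, [0, 0, 1]), (5, [0, 0, 0]), (1, [3, 2, 0]), (1, [0, 2, 2]), (4, [1, 0, 2]), (4, [3, 2, 1]),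
        (0, [0, 0, 0]), (1, [3, 1, 0]), (5, [0, 0, 2]), (2, [0, 0, 0]), (2, [3, 3, 1]), (3, [3, 3, 1]),
        (1, [0, 2, 0]), (2, [4, 0, 1]), (5, [3, 1, 0]), (5, [1, 1, 2]), (4, [3, 3, 0]), (4, [0, 3, 0]),
        (5, [0, 2, 0]), (2, [0, 2, 0]), (2, [4, 2, 0]), (3, [2, 3, 2]), (2, [3, 2, 0]), (4, [4, 0, 1]),
        (1, [4, 3, 2]), (3, [0, 0, 0]), (3, [4, 0, 0]), (5, [4, 0, 0]), (5, [4, 0, 2]), (5, [3, 3, 0])] },
    { b := 20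
      V := [
        10183293561870027, 7654964842338572, 2486138877540, 1333120518241, 1813976494795, 38845945547]
      L := [
        0, 10183293561870027, 7654964842338572, 287115680011, 7156954643347044]
      wit := [
        [], [0], [1], [0, 2], [1, 1]]
      steps := [
        (1, [0, 0]), (2, [0, 0]), (2, [1, 0]), (0, [1, 0]), (0, [2, 0]), (0, [0, 1]), (2, [3, 2]),
        (1, [3, 2]), (3, [0, 0]), (3, [2, 1]), (2, [0, 1]), (1, [3, 0]), (0, [2, 2]), (4, [0, 0]),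
        (4, [1, 1]), (2, [1, 1]), (1, [0, 2]), (4, [0, 2]), (3, [0, 2]), (3, [1, 1]), (0, [0, 1]),
        (4, [0, 1]), (4, [1, 1]), (2, [1, 0]), (4, [3, 2]), (0, [0, 0]), (1, [1, 1]), (1, [1, 0]),
        (3, [2, 1]), (3, [3, 1])] },
    { b := 27
      V := [
        1333120518241, 1813976494795, 38845945547]
      L := [
        0, 1333120518241, 1813976494795, 1317909410593]
      wit := [
        [], [0], [1], [0, 0]]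
      steps := [
        (1, [0]), (2, [0]), (0, [1]), (3, [0]), (3, [2]), (2, [2]), (2, [1]), (0, [0]), (3, [2]), (0, [0]),
        (1, [1]), (1, [2])] },
    { b := 7
      V := [
        38845945547]
      L := [
        0, 38845945547, 36040394843]
      wit := [
        [], [0], [0, 0]]
      steps := [
        (1, []), (2, []), (0, [])] }]

/-- The levels of stabiliser 6. -/
def levels6 : List Level := [
    { b := 33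
      V := [
        129576570501851, 7649520819943012, 13139653004358735716, 59042335471195, 3660069314690856801]
      L := [
        0, 129576570501851, 7649520819943012, 13139653004358735716, 59042335471195, 1815884903180,
        29497219423587449612, 27450026546812761, 112509372459815581420, 897984853350747, 27462271498573657,
        31910728811504908129, 1572410531632740, 1642602371218195244, 28577167836367627, 29609879782961829729,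
        3948299897004668507, 28594004174444121, 28594004168586841, 29312969097448700649, 6438932272257086155,
        97862355183325913, 7711643467662043, 826095722452646467404, 201938059605750493, 498611714262352681,
        6295308417819783897, 29283727227078678220, 66593198069634796, 457509156344870500, 3145953404828395,
        601623852917901921, 15486601036611504929, 532605996249172779, 459768255518394465,
        4831401535121176396, 241979038780016993, 242461664456524523, 5213317660134261451,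
        3669138297081088809, 12901852339823102299, 1931114925745608427, 1613860645523737185,
        5213389182010037857, 38648597100215251745, 5394579763659913825, 201701367180801889,
        1755046208558446433, 4241658277306677996, 28341813998695131, 1828939020663895652, 12162500658116299,
        82583935530679083, 4817028968051227372, 34086529341022450380, 1181521271438041, 84607123063445209,
        4853584850602838827, 75486658791086169, 235873883865, 31339254141426718988, 112507569896151204585,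
        490212564267255897, 4241042952373979947, 2022043333420, 29425162973971790569, 457508808490533673,
        460939751004150107, 3779942290929252, 33965415742858187467, 57861572507519756, 15594894965856392801,
        786773854123333979, 61241445500472041, 6254284592097924812, 12910841250184074843, 66575252592113509,
        228607807071865643, 5416544725537495140, 402038125802277, 125317639091495159908, 25673429702195019,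
        6425658203260179179, 38536341417838369035, 5407888270655666986, 603893269342339873,
        205817403977550173, 219996706575399657, 103103586704147503201, 457556027459815521,
        12923508227389675817, 411590431451433, 51330178801827207436, 3948308695277246763, 82619050880291617,
        244723488670926949, 98206534363, 29281052477911053068, 38507099287668807259, 15639930964508849755,
        606770674126935899, 966242478167785, 3687160332011542361, 493572637439871323, 10188251024185164,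
        9418100275786533, 9409450246294117, 124735483875163526745, 6259320450504768233,
        234575810992102225497, 674856919947391692, 75881383464385115, 234541613459092388569,
        201384028018153177, 1754546063553639145, 219962020696020684, 1647593138508634380, 61698867572292313,
        498611733828376153, 61200150209403148, 234532662193607785196, 243623976923608780, 97300015225943755,
        1651464091198474596, 8275102308636253, 41711607020399018793, 241389304486926059, 30595795664423012]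
      wit := [
        [], [0], [1], [2], [3], [0, 1], [0, 2], [0, 3], [0, 4], [1, 2], [1, 3], [1, 4], [2, 0], [2, 1],
        [2, 2], [2, 3], [2, 4], [3, 0], [3, 1], [3, 2], [3, 4], [0, 1, 2], [0, 1, 3], [0, 1, 4], [0, 2, 1],
        [0, 2, 2], [0, 2, 3], [0, 2, 4], [0, 3, 0], [0, 3, 1], [0, 3, 2], [0, 3, 4], [0, 4, 0], [0, 4, 1],
        [0, 4, 2], [0, 4, 3], [0, 4, 4], [1, 2, 0], [1, 2, 1], [1, 2, 2], [1, 2, 3], [1, 3, 2], [1, 4, 0],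
        [1, 4, 1], [1, 4, 2], [1, 4, 3], [1, 4, 4], [2, 0, 1], [2, 0, 3], [2, 1, 2], [2, 1, 4], [2, 2, 1],
        [2, 2, 3], [2, 2, 4], [2, 3, 0], [2, 3, 1], [2, 3, 2], [2, 3, 4], [2, 4, 1], [2, 4, 2], [2, 4, 3],
        [2, 4, 4], [3, 0, 2], [3, 0, 4], [3, 1, 3], [3, 2, 0], [3, 2, 1], [3, 2, 2], [3, 2, 4], [3, 4, 0],
        [3, 4, 1], [3, 4, 2], [0, 1, 2, 1], [0, 1, 2, 3], [0, 1, 2, 4], [0, 1, 3, 4], [0, 1, 4, 0],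
        [0, 1, 4, 2], [0, 1, 4, 3], [0, 2, 1, 2], [0, 2, 1, 4], [0, 2, 2, 1], [0, 2, 2, 4], [0, 2, 3, 0],
        [0, 2, 3, 1], [0, 2, 4, 1], [0, 3, 0, 2], [0, 3, 0, 3], [0, 3, 0, 4], [0, 3, 2, 0], [0, 3, 2, 1],
        [0, 3, 4, 1], [0, 3, 4, 2], [0, 3, 4, 4], [0, 4, 0, 1], [0, 4, 0, 3], [0, 4, 1, 4], [0, 4, 2, 4],
        [0, 4, 3, 4], [0, 4, 4, 0], [0, 4, 4, 1], [0, 4, 4, 2], [1, 2, 0, 1], [1, 2, 0, 3], [1, 2, 0, 4],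
        [1, 2, 2, 1], [1, 2, 2, 2], [1, 2, 2, 3], [1, 2, 3, 0], [1, 3, 2, 1], [1, 3, 2, 2], [1, 3, 2, 4],
        [1, 4, 0, 1], [1, 4, 0, 3], [1, 4, 3, 0], [1, 4, 3, 2], [1, 4, 3, 4], [1, 4, 4, 2], [2, 0, 1, 3],
        [2, 1, 2, 0], [2, 2, 3, 1], [2, 3, 1, 4], [2, 3, 2, 1], [2, 3, 4, 1], [2, 4, 4, 3], [3, 1, 3, 4],
        [0, 2, 3, 0, 3], [0, 4, 4, 0, 1]]
      steps := [
        (1, [0]), (2, [0]), (3, [0]), (4, [0]), (0, [1]), (0, [0]), (5, [0]), (6, [0]), (7, [0]), (8, [0]),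
        (5, [0]), (0, [0]), (9, [0]), (10, [0]), (11, [0]), (12, [0]), (13, [0]), (14, [0]), (15, [0]),
        (16, [0]), (17, [0]), (18, [0]), (19, [0]), (0, [0]), (20, [0]), (2, [0]), (1, [0]), (21, [0]),
        (22, [0]), (23, [0]), (16, [4]), (24, [0]), (25, [0]), (26, [0]), (27, [0]), (28, [0]), (29, [0]),
        (30, [0]), (1, [0]), (31, [0]), (32, [0]), (33, [0]), (34, [0]), (35, [0]), (36, [0]), (37, [0]),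
        (38, [0]), (39, [0]), (40, [0]), (6, [1]), (29, [0]), (28, [0]), (41, [0]), (2, [0]), (10, [1]),
        (42, [0]), (43, [0]), (44, [0]), (45, [0]), (46, [0]), (3, [0]), (47, [0]), (46, [0]), (48, [0]),
        (12, [1]), (47, [0]), (3, [0]), (49, [0]), (41, [0]), (50, [0]), (39, [0]), (51, [0]), (43, [2]),
        (52, [0]), (53, [0]), (54, [0]), (55, [0]), (56, [0]), (3, [0]), (57, [0]), (6, [1]), (58, [0]),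
        (59, [0]), (60, [0]), (61, [0]), (4, [0]), (22, [0]), (62, [0]), (46, [3]), (63, [0]), (22, [0]),
        (4, [0]), (55, [0]), (64, [0]), (18, [1]), (65, [0]), (66, [0]), (67, [0]), (38, [0]), (68, [0]),
        (69, [0]), (70, [0]), (71, [0]), (43, [0]), (29, [2]), (50, [4]), (72, [0]), (53, [4]), (73, [0]),
        (74, [0]), (18, [0]), (17, [0]), (68, [4]), (5, [0]), (75, [0]), (76, [0]), (34, [4]), (77, [0]),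
        (78, [0]), (59, [4]), (58, [4]), (6, [0]), (79, [0]), (68, [4]), (80, [0]), (53, [4]), (81, [0]),
        (11, [2]), (65, [1]), (82, [0]), (83, [0]), (84, [0]), (54, [1]), (6, [0]), (17, [2]), (74, [0]),
        (85, [0]), (50, [1]), (69, [1]), (76, [2]), (7, [0]), (10, [0]), (86, [0]), (87, [0]), (88, [0]),
        (10, [0]), (7, [0]), (84, [0]), (80, [3]), (67, [4]), (89, [0]), (90, [0]), (66, [1]), (72, [0]),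
        (70, [1]), (56, [4]), (91, [0]), (92, [0]), (34, [4]), (93, [0]), (8, [0]), (94, [0]), (74, [0]),
        (95, [0]), (38, [1]), (94, [0]), (8, [0]), (33, [1]), (75, [0]), (96, [0]), (61, [4]), (23, [1]),
        (94, [2]), (31, [1]), (97, [0]), (52, [4]), (67, [4]), (35, [1]), (8, [0]), (98, [0]), (99, [0]),
        (100, [0]), (101, [0]), (62, [1]), (64, [3]), (9, [0]), (102, [0]), (0, [2]), (103, [0]), (104, [0]),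
        (102, [0]), (9, [0]), (23, [1]), (19, [0]), (100, [0]), (14, [0]), (105, [0]), (106, [0]),
        (107, [0]), (72, [2]), (108, [0]), (86, [0]), (31, [1]), (9, [0]), (62, [1]), (71, [4]), (109, [0]),
        (110, [0]), (13, [0]), (111, [0]), (11, [0]), (112, [0]), (16, [0]), (113, [0]), (32, [1]),
        (112, [0]), (11, [0]), (37, [1]), (20, [0]), (42, [1]), (104, [0]), (79, [0]), (1, [3]), (54, [1]),
        (44, [1]), (114, [0]), (88, [0]), (115, [0]), (11, [0]), (116, [0]), (87, [2]), (80, [0]),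
        (117, [0]), (17, [2]), (39, [1]), (13, [0]), (12, [0]), (85, [0]), (118, [0]), (37, [1]), (109, [0]),
        (71, [4]), (69, [1]), (12, [0]), (115, [0]), (119, [0]), (77, [0]), (112, [2]), (92, [0]), (25, [1]),
        (21, [1]), (59, [4]), (36, [1]), (93, [0]), (106, [0]), (105, [0]), (14, [0]), (2, [3]), (110, [0]),
        (101, [0]), (35, [1]), (120, [0]), (4, [3]), (14, [0]), (109, [2]), (25, [1]), (82, [0]), (119, [2]),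
        (86, [2]), (21, [3]), (15, [0]), (118, [0]), (116, [0]), (44, [4]), (65, [1]), (118, [0]), (15, [0]),
        (120, [0]), (101, [3]), (121, [0]), (31, [1]), (122, [0]), (113, [2]), (77, [0]), (108, [2]),
        (62, [1]), (123, [0]), (90, [2]), (59, [4]), (91, [2]), (24, [1]), (16, [0]), (58, [1]), (111, [0]),
        (94, [2]), (72, [2]), (50, [1]), (24, [3]), (57, [1]), (33, [3]), (98, [0]), (121, [0]), (60, [1]),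
        (16, [0]), (95, [2]), (34, [1]), (76, [2]), (5, [4]), (124, [0]), (79, [2]), (57, [4]), (73, [0]),
        (40, [1]), (36, [4]), (45, [1]), (124, [3]), (78, [0]), (122, [0]), (106, [3]), (123, [0]),
        (80, [3]), (87, [0]), (82, [3]), (18, [0]), (125, [0]), (19, [0]), (103, [0]), (18, [2]), (25, [4]),
        (41, [1]), (103, [0]), (19, [0]), (63, [1]), (82, [3]), (30, [1]), (120, [0]), (35, [1]), (91, [2]),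
        (105, [0]), (73, [2]), (121, [0]), (98, [0]), (108, [2]), (24, [1]), (114, [2]), (20, [0]),
        (113, [0]), (121, [0]), (27, [4]), (110, [0]), (113, [0]), (20, [0]), (65, [1]), (125, [0]),
        (69, [1]), (41, [1]), (48, [1]), (22, [3]), (79, [0]), (71, [1]), (59, [3]), (21, [0]), (13, [1]),
        (30, [0]), (2, [2]), (123, [4]), (62, [0]), (15, [1]), (21, [0]), (4, [2]), (27, [0]), (125, [1]),
        (81, [1]), (88, [1]), (85, [1]), (110, [4]), (107, [4]), (78, [1]), (33, [0]), (90, [1]), (23, [0]),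
        (61, [3]), (27, [0]), (122, [4]), (102, [1]), (106, [4]), (49, [0]), (80, [1]), (56, [0]), (47, [2]),
        (92, [4]), (63, [0]), (95, [1]), (23, [0]), (83, [1]), (101, [4]), (44, [0]), (42, [2]), (71, [0]),
        (81, [1]), (64, [2]), (46, [0]), (100, [1]), (29, [2]), (119, [1]), (82, [4]), (25, [0]), (87, [3]),
        (108, [1]), (3, [2]), (81, [1]), (53, [0]), (8, [3]), (66, [2]), (117, [1]), (26, [0]), (111, [4]),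
        (83, [1]), (126, [0]), (52, [0]), (111, [4]), (26, [0]), (103, [1]), (96, [4]), (113, [1]),
        (125, [1]), (27, [0]), (126, [2]), (114, [1]), (14, [1]), (115, [4]), (40, [0]), (75, [1]),
        (53, [3]), (84, [1]), (46, [3]), (64, [0]), (104, [4]), (28, [0]), (87, [1]), (116, [4]), (45, [0]),
        (118, [1]), (74, [4]), (22, [2]), (30, [0]), (93, [4]), (73, [1]), (99, [4]), (78, [1]), (93, [4]),
        (30, [0]), (109, [1]), (100, [4]), (28, [2]), (122, [4]), (31, [0]), (52, [0]), (119, [4]),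
        (60, [0]), (78, [1]), (124, [4]), (17, [3]), (49, [0]), (48, [2]), (90, [1]), (89, [1]), (26, [2]),
        (50, [0]), (35, [2]), (33, [0]), (32, [0]), (64, [2]), (120, [4]), (13, [1]), (107, [4]), (110, [4]),
        (28, [2]), (32, [0]), (15, [1]), (97, [4]), (117, [4]), (47, [2]), (84, [1]), (5, [3]), (96, [1]),
        (126, [2]), (97, [1]), (121, [1]), (51, [2]), (60, [0]), (68, [0]), (48, [2]), (117, [4]), (7, [3]),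
        (36, [0]), (127, [0]), (96, [1]), (89, [1]), (105, [1]), (127, [0]), (36, [0]), (38, [2]), (90, [1]),
        (43, [2]), (79, [1]), (104, [1]), (76, [3]), (55, [2]), (127, [2]), (38, [0]), (37, [0]), (125, [1]),
        (115, [4]), (9, [1]), (66, [0]), (65, [0]), (88, [1]), (37, [0]), (19, [1]), (44, [0]), (101, [4]),
        (32, [2]), (109, [1]), (126, [2]), (51, [0]), (39, [0]), (105, [1]), (67, [0]), (24, [2]), (77, [1]),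
        (119, [1]), (51, [2]), (63, [2]), (58, [2]), (95, [1]), (75, [1]), (107, [1]), (39, [0]), (26, [2]),
        (40, [0]), (115, [4]), (20, [1]), (81, [4]), (86, [1]), (48, [0]), (41, [0]), (124, [4]), (104, [4]),
        (89, [1]), (75, [1]), (95, [1]), (45, [2]), (51, [0]), (66, [2]), (84, [1]), (83, [1]), (93, [1]),
        (58, [0]), (122, [1]), (43, [0]), (42, [0]), (127, [0]), (116, [4]), (49, [0]), (70, [0]), (69, [0]),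
        (89, [1]), (42, [0]), (56, [0]), (45, [0]), (116, [4]), (57, [0]), (85, [4]), (124, [4]), (86, [1]),
        (108, [1]), (10, [3]), (102, [1]), (55, [2]), (88, [1]), (114, [1]), (111, [1]), (112, [1]),
        (120, [1]), (126, [2]), (96, [1]), (102, [3]), (98, [1]), (112, [3]), (55, [0]), (54, [0]),
        (29, [2]), (47, [0]), (118, [1]), (49, [0]), (106, [4]), (61, [0]), (91, [1]), (99, [1]), (67, [0]),
        (52, [0]), (70, [2]), (94, [1]), (40, [2]), (68, [0]), (60, [0]), (123, [1]), (97, [4]), (92, [1]),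
        (91, [1]), (56, [0]), (7, [3]), (76, [1]), (54, [2]), (73, [1]), (57, [0]), (98, [1]), (127, [0]),
        (107, [1]), (63, [2]), (92, [1]), (114, [3]), (61, [0]), (103, [3]), (85, [4]), (74, [4]), (12, [1]),
        (70, [0]), (1, [2]), (117, [3]), (97, [3]), (99, [0]), (83, [0]), (77, [0]), (100, [0]), (99, [0]),
        (72, [2]), (123, [0]), (34, [1])] },
    { b := 0
      V := [
        3660069314690856801]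
      L := [
        0, 3660069314690856801, 29626247121537456459, 38833561341935925068, 1685531217980605196]
      wit := [
        [], [0], [0, 0], [0, 0, 0], [0, 0, 0, 0]]
      steps := [
        (1, []), (2, []), (3, []), (4, []), (0, [])] }]

/-- The levels of stabiliser 7. -/
def levels7 : List Level := [
    { b := 0
      V := [
        164709111905, 6294191399664137961, 75488853503297625, 651663727727134813, 147510856300236,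
        97722227692980555, 57861632636568285, 30547434857188107, 1175611391755019, 1825565709921,
        49216217727755]
      L := [
        0, 651663727727134813]
      wit := [
        [], [3]]
      steps := [
        (0, [0, 4, 1]), (0, [4, 2, 1]), (0, [6, 3, 0]), (1, [0, 0, 0]), (0, [1, 0, 0]), (0, [2, 0, 0]),
        (0, [3, 0, 0]), (0, [4, 0, 0]), (0, [0, 1, 0]), (0, [0, 2, 0]), (0, [0, 0, 1]), (1, [14, 2, 0]),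
        (1, [9, 2, 0]), (1, [12, 4, 1]), (0, [16, 0, 0]), (1, [16, 4, 1]), (1, [7, 4, 1]), (1, [24, 2, 0]),
        (1, [0, 4, 1]), (1, [0, 2, 0]), (1, [3, 2, 0]), (1, [22, 0, 0])] },
    { b := 4
      V := [
        147510856300236, 97722227692980555, 57861632636568285, 30547434857188107, 1175611391755019,
        1825565709921, 49216217727755]
      L := [
        0, 147510856300236, 97722227692980555, 57861632636568285, 30547434857188107, 14060631331661722331,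
        489605119590844516, 147501179319905, 3431336801777241, 7148703041566299, 1822700188377,
        5285868842682529629, 428914143762009, 863190359210798208865, 61239732741387980, 27462170568966873,
        3660447615512101643, 219380825467492619, 6438298856803453707, 4241043143433033572,
        6438852599116253531, 3678145768762513499, 233562805860, 22037272665, 116975284275163085515]
      wit := [
        [], [0], [1], [2], [3], [0, 0], [0, 2], [0, 4], [0, 5], [0, 6], [1, 0], [1, 1], [1, 4], [2, 1],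
        [2, 2], [2, 4], [3, 0], [3, 1], [3, 5], [0, 0, 2], [0, 2, 1], [0, 4, 6], [0, 5, 4], [1, 0, 6],
        [1, 4, 3]]
      steps := [
        (1, [0, 0]), (2, [0, 0]), (3, [0, 0]), (4, [0, 0]), (0, [1, 0]), (0, [2, 0]), (0, [0, 1]),
        (5, [0, 0]), (3, [0, 0]), (6, [0, 0]), (1, [3, 1]), (7, [0, 0]), (8, [0, 0]), (9, [0, 0]),
        (10, [0, 0]), (11, [0, 0]), (0, [4, 1]), (7, [0, 0]), (12, [0, 0]), (3, [4, 0]), (4, [3, 1]),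
        (9, [2, 0]), (13, [0, 0]), (14, [0, 0]), (5, [1, 0]), (15, [0, 0]), (2, [3, 0]), (6, [4, 0]),
        (16, [0, 0]), (17, [0, 0]), (9, [3, 1]), (0, [0, 0]), (6, [4, 1]), (18, [0, 0]), (2, [3, 1]),
        (17, [1, 0]), (6, [0, 0]), (19, [0, 0]), (3, [1, 0]), (5, [1, 0]), (5, [2, 0]), (5, [0, 1]),
        (18, [4, 0]), (20, [0, 0]), (5, [4, 1]), (16, [3, 0]), (4, [4, 1]), (19, [4, 0]), (3, [3, 0]),
        (4, [3, 0]), (16, [4, 1]), (17, [3, 0]), (2, [0, 0]), (1, [0, 0]), (17, [2, 0]), (21, [0, 0]),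
        (12, [1, 0]), (7, [1, 0]), (1, [0, 1]), (18, [1, 0]), (22, [0, 0]), (1, [0, 0]), (13, [2, 1]),
        (19, [2, 0]), (14, [2, 0]), (21, [3, 1]), (15, [3, 0]), (13, [2, 1]), (21, [0, 0]), (1, [0, 0]),
        (6, [0, 0]), (0, [4, 1]), (20, [0, 0]), (14, [1, 0]), (19, [1, 0]), (12, [0, 1]), (23, [0, 0]),
        (13, [0, 0]), (15, [2, 1]), (23, [0, 1]), (19, [1, 0]), (11, [1, 0]), (11, [2, 0]), (11, [0, 1]),
        (7, [2, 0]), (1, [2, 1]), (16, [3, 0]), (24, [0, 0]), (2, [0, 0]), (10, [0, 1]), (18, [3, 1]),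
        (20, [0, 0]), (23, [0, 1]), (10, [4, 1]), (13, [3, 1]), (9, [1, 1]), (16, [1, 1]), (8, [1, 1]),
        (23, [3, 0]), (8, [0, 1]), (22, [2, 0]), (10, [1, 0]), (21, [0, 0]), (22, [0, 0]), (17, [2, 0]),
        (2, [1, 0]), (24, [1, 0]), (11, [1, 0]), (9, [4, 0]), (3, [0, 0]), (23, [4, 1]), (19, [2, 1]),
        (3, [1, 0]), (9, [3, 1]), (13, [1, 0]), (6, [4, 0]), (17, [2, 0]), (13, [2, 1]), (22, [0, 0]),
        (11, [1, 0]), (19, [1, 0]), (15, [0, 1]), (17, [2, 0]), (16, [2, 0]), (7, [2, 0]), (14, [2, 0]),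
        (15, [4, 0]), (5, [2, 0]), (24, [2, 0]), (8, [1, 0]), (23, [4, 0]), (4, [0, 0]), (12, [3, 1]),
        (14, [4, 1]), (21, [2, 1]), (8, [3, 0]), (11, [1, 0]), (10, [1, 0]), (6, [3, 0]), (15, [1, 1]),
        (21, [2, 1]), (10, [4, 1]), (12, [1, 1]), (23, [2, 1]), (20, [1, 0]), (20, [2, 0]), (20, [0, 1]),
        (24, [1, 0]), (12, [4, 0]), (18, [3, 1]), (21, [1, 0]), (14, [0, 0]), (9, [0, 0]), (7, [0, 0]),
        (0, [3, 0]), (4, [3, 1]), (2, [3, 0]), (22, [4, 1]), (8, [0, 0]), (14, [0, 0]), (16, [0, 0]),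
        (8, [0, 0]), (22, [4, 1]), (7, [1, 0]), (20, [1, 1]), (18, [3, 0]), (15, [4, 1]), (10, [0, 0]),
        (22, [2, 0]), (18, [4, 0]), (4, [2, 1]), (12, [0, 0]), (24, [3, 1]), (24, [0, 1]), (24, [2, 0])] },
    { b := 7
      V := [
        1175611391755019, 1825565709921, 49216217727755]
      L := [
        0, 1175611391755019, 1825565709921, 54109634868939, 147019333945433]
      wit := [
        [], [0], [1], [0, 1], [1, 0]]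
      steps := [
        (1, [0]), (2, [0]), (0, [1]), (0, [0]), (3, [0]), (2, [1]), (4, [0]), (0, [0]), (1, [1]), (3, [1]),
        (1, [0]), (4, [1]), (2, [0]), (4, [1]), (3, [1])] },
    { b := 10
      V := [
        49216217727755]
      L := [
        0, 49216217727755]
      wit := [
        [], [0]]
      steps := [
        (1, []), (0, [])] }]

/-- The levels of stabiliser 8. -/
def levels8 : List Level := [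
    { b := 0
      V := [
        253286017317674597100, 25163106815619788, 173433263705, 5213811274444620505, 3678370069156862220,
        1537497853483339, 3660355670863819532, 41710517045544665868, 53613190759115, 25564876,
        159662751135329]
      L := [
        0, 5213811274444620505]
      wit := [
        [], [3]]
      steps := [
        (0, [1, 0, 3, 2]), (0, [1, 1, 0, 2]), (0, [0, 4, 0, 2]), (1, [0, 0, 0, 0]), (0, [1, 0, 0, 0]),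
        (0, [1, 3, 0, 2]), (0, [0, 1, 0, 0]), (0, [0, 2, 0, 0]), (0, [0, 0, 1, 0]), (0, [0, 0, 2, 0]),
        (0, [0, 0, 0, 1]), (1, [1, 4, 2, 2]), (1, [1, 0, 1, 1]), (1, [0, 3, 2, 1]), (0, [0, 0, 2, 1]),
        (1, [1, 4, 2, 0]), (1, [1, 3, 1, 2]), (1, [0, 2, 0, 2]), (1, [0, 4, 3, 1]), (1, [0, 0, 3, 1]),
        (1, [0, 0, 0, 1]), (1, [0, 0, 1, 2])] },
    { b := 4
      V := [
        3678370069156862220, 1537497853483339, 3660355670863819532, 41710517045544665868, 53613190759115,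
        25564876, 159662751135329]
      L := [
        0, 3678370069156862220]
      wit := [
        [], [0]]
      steps := [
        (1, [0, 0, 0]), (1, [3, 0, 2]), (0, [1, 0, 0]), (0, [2, 0, 0]), (0, [0, 1, 0]), (0, [0, 2, 0]),
        (0, [0, 0, 1]), (0, [3, 0, 1]), (0, [1, 3, 0]), (1, [1, 1, 2]), (1, [3, 1, 2]), (1, [4, 0, 2]),
        (1, [0, 0, 2]), (1, [1, 0, 1])] },
    { b := 14
      V := [
        3660355670863819532, 41710517045544665868, 53613190759115, 25564876, 159662751135329]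
      L := [
        0, 3660355670863819532, 41710517045544665868, 459795517793507595, 428914294961761]
      wit := [
        [], [0], [1], [0, 1], [0, 4]]
      steps := [
        (1, [0, 0]), (2, [0, 0]), (0, [1, 0]), (0, [2, 0]), (0, [0, 1]), (0, [0, 0]), (3, [0, 0]),
        (2, [0, 1]), (3, [3, 2]), (4, [0, 0]), (4, [2, 0]), (1, [3, 2]), (1, [0, 2]), (1, [2, 1]),
        (1, [1, 1]), (3, [3, 1]), (4, [3, 0]), (4, [0, 1]), (2, [0, 2]), (3, [3, 0]), (2, [3, 2]),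
        (0, [1, 0]), (3, [0, 2]), (4, [2, 2]), (2, [3, 0])] },
    { b := 149
      V := [
        53613190759115, 25564876, 159662751135329]
      L := [
        0, 53613190759115, 25564876, 70301281]
      wit := [
        [], [0], [1], [1, 0]]
      steps := [
        (1, [0]), (2, [0]), (0, [1]), (0, [0]), (1, [2]), (2, [2]), (3, [0]), (3, [2]), (3, [1]), (2, [0]),
        (0, [1]), (1, [0])] },
    { b := 7
      V := [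
        159662751135329]
      L := [
        0, 159662751135329, 49788790556763]
      wit := [
        [], [0], [0, 0]]
      steps := [
        (1, []), (2, []), (0, [])] }]

/-- The levels. -/
def levels (j : Nat) : List Level :=
  [[], levels1, levels2, levels3, levels4, levels5, levels6, levels7, levels8].getD j []

end CfsgLib.HNCert
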