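import Cfsg.Agent.HNCert.Relations

/-!
The presented group acts transitively on the 1539000 positions: the index of the image of `P`,
the order of the group, and faithfulness of the map of `P`.
-/

set_option autoImplicit false
set_option Elab.async false
set_option maxRecDepth 100000

namespace CfsgLib.HNCert

open CfsgLib.CosetEnum Cfsg.Spor

noncomputable section

/-- The left action of `P` on positions. -/
def rho : P →* Equiv.Perm X where
  toFun p :=
    { toFun := fun x => ⟨x.1, p • x.2⟩
      invFun := fun x => ⟨x.1, p⁻¹ • x.2⟩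
      left_inv := fun x => by rcases x with ⟨j, q⟩; simp
      right_inv := fun x => by rcases x with ⟨j, q⟩; simp }
  map_one' := Equiv.ext fun x => by rcases x with ⟨j, q⟩; simp
  map_mul' a b := Equiv.ext fun x => by rcases x with ⟨j, q⟩; simp [mul_smul]

theorem rho_inv_apply (p : P) (x : X) : (rho p)⁻¹ x = R p x := rfl

/-- The map of `t`, as a permutation. -/
def tPerm (hB : Bound) : Equiv.Perm X where
  toFun := T
  invFun x := T (T (T (T x)))
  left_inv x := by
    have h := five hB x
    simpa [runX, opL] using h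
  right_inv x := by
    have h := five hB x
    simpa [runX, opL] using h

/-- The values of the generators. -/
def fGen (hB : Bound) : HN.Gen → Equiv.Perm X
  | .x => rho (pg 0)
  | .y => rho (pg 2)
  | .z => rho (pg 4)
  | .t => (tPerm hB)⁻¹

/-- The values of the letters. -/
def V (hB : Bound) : ℕ → Equiv.Perm X :=
  val (fGen hB .x) (fGen hB .y) (fGen hB .z) (fGen hB .t)

theorem V_low (hB : Bound) {x : ℕ} (hx : x < 5) : V hB x = rho (pg x) := by
  interval_cases x <;> simp [V, val, fGen, pg, map_inv]

theorem V_inv_apply (hB : Bound) {x : ℕ} (hx : x < 6) (q : X) : (V hB x)⁻¹ q = opL x q := by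
  by_cases h5 : x = 5
  · subst h5
    rw [opL, if_pos rfl]
    show ((tPerm hB)⁻¹)⁻¹ q = T q
    rw [inv_inv]
    rfl
  · rw [opL, if_neg h5, V_low hB (by omega)]
    exact rho_inv_apply _ _

theorem prodw_V (hB : Bound) : ∀ (w : List ℕ), (∀ x ∈ w, x < 6) → ∀ q : X,
    (prodw (V hB) w)⁻¹ q = runX w q
  | [], _, q => by rw [prodw_nil, inv_one, Equiv.Perm.one_apply]; rfl
  | x :: w, hw, q => by
    rw [prodw_cons, mul_inv_rev, Equiv.Perm.mul_apply, V_inv_apply hB (hw x List.mem_cons_self),
      prodw_V hB w (fun y hy => hw y (List.mem_cons_of_mem x hy))]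
    rfl

theorem prodw_V_one (hB : Bound) {w : List ℕ} (hw : ∀ x ∈ w, x < 6)
    (h : ∀ q, runX w q = q) : prodw (V hB) w = 1 := by
  rw [← inv_eq_one]
  refine Equiv.ext fun q => ?_
  rw [prodw_V hB w hw, Equiv.Perm.one_apply, h]

theorem rotate {w : List ℕ} {K : Type*} [Group K] (v : ℕ → K) (n : ℕ) (h : prodw v w = 1) :
    prodw v (w.drop n ++ w.take n) = 1 := by
  rw [prodw_append]
  refine mul_eq_one_comm.mp ?_
  rw [← prodw_append, List.take_append_drop, h]

theorem V_rels (hB : Bound) : ∀ w ∈ relP ++ relT, prodw (V hB) w = 1 := by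
  intro w hw
  rcases List.mem_append.mp hw with h | h
  · rw [prodw_congr fun i hi => V_low hB (relP_lt w h i hi), ← map_prodw, pg_rel w h, map_one]
  · have h5 := prodw_V_one hB (w := [5, 5, 5, 5, 5]) (by simp) (five hB)
    have hx := rotate (V hB) 4 (prodw_V_one hB (w := [5, 0, 5, 5, 1]) (by simp) (rel_x hB))
    have hz := rotate (V hB) 5 (prodw_V_one hB (w := [5, 4, 5, 4, 5, 4]) (by simp) (rel_z hB))
    simp only [relT, List.mem_cons, List.not_mem_nil, or_false] at h
    rcases h with rfl | rfl | rfl | rfl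
    · exact h5
    · exact hx
    · have hy : mv pi (pg 2) 0 = 0 := by
        refine Fin.ext ?_
        have h2 := mv_prodw (w := [2]) (by simp) (0 : Fin 1408)
        rw [prodw_cons, prodw_nil, mul_one] at h2
        rw [h2]
        decide +kernel
      have hc : Commute (V hB 5) (V hB 2) := by
        refine Commute.inv_inv_iff.mp (Equiv.ext fun q => ?_)
        rw [Equiv.Perm.mul_apply, Equiv.Perm.mul_apply, V_inv_apply hB (by norm_num),
          V_inv_apply hB (by norm_num), V_inv_apply hB (by norm_num), V_inv_apply hB (by norm_num)]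
        simp only [opL, if_true, show (2 : ℕ) ≠ 5 by norm_num, if_false]
        exact T_fix hB hy q
      have e6 : V hB 6 = (V hB 5)⁻¹ := rfl
      have e3 : V hB 3 = (V hB 2)⁻¹ := rfl
      simp only [prodw, List.map_cons, List.map_nil, List.prod_cons, List.prod_nil, mul_one, e6, e3]
      rw [hc.eq]
      group
    · exact hz

/-- The action of the presented group on positions. -/
def phi (hB : Bound) : Cfsg.Spor.HN →* Equiv.Perm X :=
  PresentedGroup.toGroup (f := fGen hB) (lift_eq_one (fGen hB) (V_rels hB))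

theorem phi_g (hB : Bound) {x : ℕ} (_hx : x < 7) : phi hB (g x) = V hB x := by
  rw [g, map_val]
  simp only [phi, PresentedGroup.toGroup.of]
  rfl

theorem phi_emb (hB : Bound) (p : P) : phi hB (emb p) = rho p := by
  have h : (phi hB).comp emb = rho := by
    refine PresentedGroup.ext fun a => ?_
    cases a
    · show phi hB (emb (pg 0)) = rho (pg 0)
      rw [emb_pg (by norm_num), phi_g hB (by norm_num), V_low hB (by norm_num)]
    · show phi hB (emb (pg 2)) = rho (pg 2)
      rw [emb_pg (by norm_num), phi_g hB (by norm_num), V_low hB (by norm_num)]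
    · show phi hB (emb (pg 4)) = rho (pg 4)
      rw [emb_pg (by norm_num), phi_g hB (by norm_num), V_low hB (by norm_num)]
  exact DFunLike.congr_fun h p

/-- The position of the trivial coset. -/
def x0 : X := mk 0 1

theorem rho_x0 (p : P) : rho p x0 = x0 := by
  rw [show rho p x0 = (rho p⁻¹)⁻¹ x0 by rw [map_inv, inv_inv], rho_inv_apply, x0, R_mk, one_mul]
  exact (mk_eq (by rw [show M ((0 : Fin 9).val) = ⊤ from M_zero]; exact Subgroup.mem_top _)).symm

/-- The tree on the orbits is right. -/
def okOrb : Bool :=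
  decide (orbOrder.length = 9) && ((List.range 9).all fun j => orbOrder.contains j) &&
    decide (orbOrder.headD 1 = 0) &&
      (List.range 8).all fun i =>
        Nat.blt (orbEdge (orbOrder.getD (i + 1) 0)) nE &&
          (Nat.beq (edgeK (orbEdge (orbOrder.getD (i + 1) 0))) (orbOrder.getD (i + 1) 0) &&
            (orbOrder.take (i + 1)).contains (edgeJ (orbEdge (orbOrder.getD (i + 1) 0))))

theorem orb_ok : okOrb = true := by decide +kernel

theorem reach_P (hB : Bound) {j : Fin 9} {h : P} (y : Cfsg.Spor.HN) (hy : phi hB y x0 = mk j h) (h' : P) :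
    ∃ y', phi hB y' x0 = mk j h' := by
  refine ⟨(emb (h⁻¹ * h'))⁻¹ * y, ?_⟩
  rw [map_mul, map_inv, phi_emb, Equiv.Perm.mul_apply, hy, rho_inv_apply, R_mk, mul_inv_cancel_left]

theorem reach (hB : Bound) (x : X) : ∃ y, phi hB y x0 = x := by
  obtain ⟨j, h, rfl⟩ := exists_mk x
  have hok := orb_ok
  simp only [okOrb, Bool.and_eq_true, decide_eq_true_eq, List.all_eq_true, List.mem_range,
    Nat.blt_eq] at hok
  obtain ⟨⟨⟨hlen, hall⟩, hhead⟩, hstep⟩ := hok
  suffices key : ∀ i, i < 9 → ∀ h : P, ∃ y, phi hB y x0 = mk (oj (orbOrder.getD i 0)) h by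
    obtain ⟨i, hi, hij⟩ := List.getElem_of_mem (List.contains_iff_mem.mp (hall j.val j.isLt))
    have := key i (hlen ▸ hi) h
    rwa [List.getD_eq_getElem _ _ hi, hij, show oj j.val = j from Fin.ext (oj_val j.isLt)] at this
  intro i
  induction i using Nat.strong_induction_on with
  | _ i ih =>
    intro hi h
    cases i with
    | zero =>
      have h0 : oj (orbOrder.getD 0 0) = 0 := by
        have : orbOrder.getD 0 0 = 0 := by decide +kernel
        rw [this]; rfl
      rw [h0]
      exact reach_P hB (j := 0) (h := 1) 1 (by rw [map_one, Equiv.Perm.one_apply]; rfl) h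
    | succ i =>
      obtain ⟨he, hk, hpre⟩ := hstep i (by omega)
      set e := orbEdge (orbOrder.getD (i + 1) 0) with hedef
      obtain ⟨m, hm, hme⟩ := List.getElem_of_mem (List.contains_iff_mem.mp hpre)
      rw [List.length_take] at hm
      rw [List.getElem_take] at hme
      have hm' : orbOrder.getD m 0 = edgeJ e := by
        rw [List.getD_eq_getElem _ _ (by omega), hme]
      obtain ⟨y, hy⟩ := ih m (by omega) (by omega) (eA e)
      rw [hm'] at hy
      have hcl : clsOf (oj (edgeJ e)) (eA e) = e := by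
        have hc : ∀ e < nE, clsAt (edgeJ e) (rootN e) = e := by decide +kernel
        rw [clsOf, oj_val (edgeJ_lt he), show mv pi (eA e)⁻¹ 0 = root e from rfl, root_val, hc e he]
      have hT : T (mk (oj (edgeJ e)) (eA e)) = val5 e 1 (eA e) := by
        rw [T_mk hB _ _ (one_mem _) (by rw [hcl, mv_one]; rfl), hcl]
      rw [show orbOrder.getD (i + 1) 0 = edgeK e from (Nat.eq_of_beq_eq_true hk).symm]
      refine reach_P hB (h := eB e * (eA e)⁻¹ * 1 * eA e) ((g 5)⁻¹ * y) ?_ h
      rw [map_mul, map_inv, Equiv.Perm.mul_apply, hy, phi_g hB (by norm_num),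
        V_inv_apply hB (by norm_num), opL, if_pos rfl, hT]
      rfl

theorem card_X (hB : Bound) : Nat.card X = 1539000 := by
  have := hB.1
  rw [Nat.card_sigma]
  calc ∑ j : Fin 9, Nat.card (P ⧸ M j.val) = ∑ j : Fin 9, sSize j.val :=
        Finset.sum_congr rfl fun j _ => index_M hB j.isLt
    _ = 1539000 := by decide +kernel

theorem index_KH (hB : Bound) : KH.index = 1539000 := by
  have := hB.1
  refine le_antisymm (index_le hB) ?_
  have := finite_quot hB
  have hle : ∀ k ∈ KH, phi hB k x0 = x0 := by
    rintro _ ⟨p, rfl⟩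
    rw [phi_emb, rho_x0]
  let f : Cfsg.Spor.HN ⧸ KH → X := fun q => Quotient.liftOn' q (fun y => phi hB y x0) fun a b hab => by
    have h := hle _ (QuotientGroup.leftRel_apply.mp hab)
    rw [map_mul, map_inv, Equiv.Perm.mul_apply, Equiv.Perm.inv_eq_iff_eq] at h
    exact h.symm
  have hf : Function.Surjective f := fun x => by
    obtain ⟨y, hy⟩ := reach hB x
    exact ⟨(y : Cfsg.Spor.HN ⧸ KH), hy⟩
  rw [← card_X hB]
  exact Nat.card_le_card_of_surjective f hf

theorem one_fix : (sGens 1).all (fun e => Nat.beq (walk (dec e.2) 0) 0) = true := by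
  decide +kernel

theorem exists_move_zero (b : Fin 1408) : ∃ h : P, mv pi h (pt 0) = b := by
  have hb : b.val < (topWords.map fun u => walk (dec u) 0).length := by
    rw [top_range, List.length_range]; exact b.isLt
  refine ⟨el (topWords[b.val]'(by simpa using hb)), Fin.ext ?_⟩
  rw [mv_el, pt_val (by decide)]
  have h : (topWords.map fun u => walk (dec u) 0)[b.val]'hb = (List.range 1408)[b.val]'(by simp) := by
    simp only [top_range]
  rwa [List.getElem_map, List.getElem_range] at h

theorem fix_M_one {m : P} (hm : m ∈ M 1) : mv pi m (pt 0) = pt 0 := by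
  induction hm using Subgroup.closure_induction'' with
  | mem s hs =>
    obtain ⟨e, he, rfl⟩ := hs
    refine Fin.ext ?_
    rw [mv_el, pt_val (by decide)]
    exact Nat.eq_of_beq_eq_true (List.all_eq_true.mp one_fix e he)
  | inv_mem s hs =>
    obtain ⟨e, he, rfl⟩ := hs
    refine fix_inv (Fin.ext ?_)
    rw [mv_el, pt_val (by decide)]
    exact Nat.eq_of_beq_eq_true (List.all_eq_true.mp one_fix e he)
  | one => rw [mv_one]
  | mul a b _ _ ha hb => rw [mv_mul, ha, hb]

theorem rho_injective (hB : Bound) : Function.Injective rho := by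
  have := hB.1
  rw [injective_iff_map_eq_one]
  intro p hp
  have hconj : ∀ h : P, h * p * h⁻¹ ∈ M 1 := fun h => by
    have e := DFunLike.congr_fun hp (mk 1 h)
    rw [show rho p (mk 1 h) = ⟨1, p • ((h⁻¹ : P) : P ⧸ M 1)⟩ from rfl, Equiv.Perm.one_apply, mk] at e
    have e' := eq_of_heq (Sigma.mk.inj_iff.mp e).2
    rw [MulAction.Quotient.smul_coe, smul_eq_mul, QuotientGroup.eq] at e'
    have := inv_mem e'
    simpa [mul_assoc] using this
  refine eq_of_imgs full_ok full_mem (card_top_le hB) (Subgroup.mem_top p) (Subgroup.mem_top 1) ?_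
  refine List.map_inj_left.mpr fun b _ => ?_
  rw [mv_one]
  obtain ⟨h, hh⟩ := exists_move_zero b.1
  have := fix_M_one (hconj h)
  rw [mv_mul, mv_mul, hh] at this
  have h2 := congrArg (mv pi h) this
  rw [← mv_mul, inv_mul_cancel, mv_one, hh] at h2
  exact h2

theorem emb_injective (hB : Bound) : Function.Injective emb := fun a b h =>
  rho_injective hB (by rw [← phi_emb hB, ← phi_emb hB, h])

theorem card_KH (hB : Bound) : Nat.card KH = 177408000 := by
  rw [← card_P hB]
  exact (Nat.card_congr (MonoidHom.ofInjective (emb_injective hB)).toEquiv).symm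

theorem card_HN (hB : Bound) : Nat.card Cfsg.Spor.HN = 273030912000000 := by
  rw [← Subgroup.index_mul_card KH, index_KH hB, card_KH hB]

theorem finite_HN (hB : Bound) : Finite Cfsg.Spor.HN := (card_le hB).1

theorem mem_KH_of_fix (hB : Bound) {y : Cfsg.Spor.HN} (hy : phi hB y x0 = x0) : y ∈ KH := by
  have := hB.1
  have := finite_HN hB
  have hle : ∀ k ∈ KH, phi hB k x0 = x0 := by
    rintro _ ⟨p, rfl⟩
    rw [phi_emb, rho_x0]
  let f : Cfsg.Spor.HN ⧸ KH → X := fun q => Quotient.liftOn' q (fun z => phi hB z x0)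
    fun a b hab => by
      have h := hle _ (QuotientGroup.leftRel_apply.mp hab)
      rw [map_mul, map_inv, Equiv.Perm.mul_apply, Equiv.Perm.inv_eq_iff_eq] at h
      exact h.symm
  have hf : Function.Surjective f := fun x => by
    obtain ⟨z, hz⟩ := reach hB x
    exact ⟨(z : Cfsg.Spor.HN ⧸ KH), hz⟩
  have := finite_quot hB
  have hinj := (hf.bijective_of_nat_card_le (by
    rw [card_X hB]; exact (index_KH hB).le)).1
  have he : f (y : Cfsg.Spor.HN ⧸ KH) = f ((1 : Cfsg.Spor.HN) : Cfsg.Spor.HN ⧸ KH) := by
    show phi hB y x0 = phi hB 1 x0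
    rw [hy, map_one]
    rfl
  have hq := QuotientGroup.eq.mp (hinj he)
  rw [mul_one] at hq
  exact inv_mem_iff.mp hq

theorem phi_injective (hB : Bound) : Function.Injective (phi hB) := by
  rw [injective_iff_map_eq_one]
  intro y hy
  obtain ⟨p, rfl⟩ := mem_KH_of_fix hB (y := y) (by rw [hy]; rfl)
  rw [phi_emb] at hy
  rw [rho_injective hB (hy.trans (map_one rho).symm), map_one]

end

end CfsgLib.HNCert
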