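import Cfsg.Agent.HNCert.Classes

/-!
The map of `t` on the positions `(j, M_j h)`.
-/

set_option autoImplicit false
set_option Elab.async false
set_option maxRecDepth 100000

namespace CfsgLib.HNCert

open CfsgLib.CosetEnum

noncomputable section

/-- The 1539000 positions. -/
abbrev X : Type := Σ j : Fin 9, P ⧸ M j.val

/-- The orbit named by a number. -/
def oj (j : ℕ) : Fin 9 := ⟨j % 9, Nat.mod_lt _ (by norm_num)⟩

theorem oj_val {j : ℕ} (h : j < 9) : (oj j).val = j := Nat.mod_eq_of_lt h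

/-- The position `(j, M_j h)`. -/
def mk (j : Fin 9) (h : P) : X := ⟨j, ((h⁻¹ : P) : P ⧸ M j.val)⟩

theorem mk_eq {j : Fin 9} {h h' : P} (hh : h' * h⁻¹ ∈ M j.val) : mk j h = mk j h' := by
  have : ((h⁻¹ : P) : P ⧸ M j.val) = ((h'⁻¹ : P) : P ⧸ M j.val) := by
    rw [QuotientGroup.eq, inv_inv]
    simpa using inv_mem hh
  rw [mk, mk, this]

theorem mk_left {j : Fin 9} {m : P} (hm : m ∈ M j.val) (h : P) : mk j (m * h) = mk j h :=
  (mk_eq (by simpa using hm)).symm

theorem mk_out (j : Fin 9) (h : P) :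
    ∃ m ∈ M j.val, ((h⁻¹ : P) : P ⧸ M j.val).out⁻¹ = m * h := by
  obtain ⟨m, hm⟩ := QuotientGroup.mk_out_eq_mul (M j.val) h⁻¹
  exact ⟨m.1⁻¹, inv_mem m.2, by rw [hm, mul_inv_rev, inv_inv]⟩

theorem exists_mk (x : X) : ∃ j h, x = mk j h :=
  ⟨x.1, x.2.out⁻¹, by rw [mk, inv_inv, QuotientGroup.out_eq']⟩

/-- The class of a position. -/
def clsOf (j : Fin 9) (h : P) : ℕ := clsAt j.val (mv pi h⁻¹ 0).val

/-- An element of `M_j` carrying the root to the point of a position. -/
def uOf (j : Fin 9) (h : P) : P := (carry j.isLt (mv pi h⁻¹ 0)).choose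

theorem uOf_spec (j : Fin 9) (h : P) :
    uOf j h ∈ M j.val ∧ mv pi (uOf j h) (root (clsOf j h)) = mv pi h⁻¹ 0 :=
  (carry j.isLt (mv pi h⁻¹ 0)).choose_spec

/-- The other end of an edge. -/
def val5 (e : ℕ) (U h : P) : X := mk (oj (edgeK e)) (eB e * (eA e)⁻¹ * U * h)

/-- The image of a position under `t`. -/
def T (x : X) : X := val5 (clsOf x.1 x.2.out⁻¹) (uOf x.1 x.2.out⁻¹) x.2.out⁻¹

theorem T_mk (hB : Bound) (j : Fin 9) (h : P) {U : P} (hU : U ∈ M j.val)
    (hp : mv pi U (root (clsOf j h)) = mv pi h⁻¹ 0) : T (mk j h) = val5 (clsOf j h) U h := by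
  obtain ⟨m, hm, hout⟩ := mk_out j h
  show val5 (clsOf j ((h⁻¹ : P) : P ⧸ M j.val).out⁻¹) (uOf j ((h⁻¹ : P) : P ⧸ M j.val).out⁻¹)
    ((h⁻¹ : P) : P ⧸ M j.val).out⁻¹ = _
  rw [hout]
  have hpt : mv pi (m * h)⁻¹ 0 = mv pi m⁻¹ (mv pi h⁻¹ 0) := by rw [mul_inv_rev, mv_mul]
  have hc : clsOf j (m * h) = clsOf j h := by
    rw [clsOf, clsOf, hpt, cls_inv j.isLt (inv_mem hm)]
  obtain ⟨hU', hp'⟩ := uOf_spec j (m * h)
  rw [hc] at hp' ⊢
  generalize uOf j (m * h) = U' at hU' hp' ⊢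
  obtain ⟨he, hj, -⟩ := cls_ok j.isLt (mv pi h⁻¹ 0)
  set e := clsOf j h with hedef
  have hmem : U' * m * U⁻¹ ∈ StE e := by
    refine mem_StE.mpr ⟨?_, ?_⟩
    · rw [hedef, clsOf, hj]
      exact mul_mem (mul_mem hU' hm) (inv_mem hU)
    · rw [mv_mul, mv_mul, hp', hpt, ← mv_mul pi m⁻¹ m, inv_mul_cancel, mv_one, ← hp, mv_inv]
  have hk : edgeK e < 9 := by
    have h := e_ok he
    simp only [okE, Bool.and_eq_true, Nat.blt_eq] at h
    exact h.2.1
  refine (mk_eq ?_).symm
  rw [oj_val hk]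
  have := conj_StE hB (e := e) he hmem
  convert this using 1
  group

/-- The right action of `P` on positions. -/
def R (p : P) (x : X) : X := ⟨x.1, p⁻¹ • x.2⟩

theorem R_mk (p : P) (j : Fin 9) (h : P) : R p (mk j h) = mk j (h * p) := by
  rw [R, mk, mk, MulAction.Quotient.smul_coe, smul_eq_mul, mul_inv_rev]

theorem T_fix (hB : Bound) {p : P} (hp : mv pi p 0 = 0) (x : X) : T (R p x) = R p (T x) := by
  obtain ⟨j, h, rfl⟩ := exists_mk x
  have hpt : mv pi (h * p)⁻¹ 0 = mv pi h⁻¹ 0 := by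
    rw [mul_inv_rev, mv_mul]
    congr 1
    conv_lhs => rw [← hp]
    rw [mv_inv]
  have hc : clsOf j (h * p) = clsOf j h := by rw [clsOf, clsOf, hpt]
  obtain ⟨hU, hu⟩ := uOf_spec j h
  rw [T_mk hB j h hU hu, R_mk, T_mk hB j (h * p) hU (by rw [hc, hpt]; exact hu), hc, val5, val5,
    R_mk, mul_assoc _ h p]

/-- A letter on positions. -/
def opL (x : ℕ) (q : X) : X := if x = 5 then T q else R (pg x) q

/-- A word on positions. -/
def runX : List ℕ → X → X
  | [], q => q
  | x :: w, q => runX w (opL x q)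

/-- One step of a trace from `(j, h)`. -/
def stepOk (j h : ℕ) (s : ℕ × List ℕ × ℕ) : Bool :=
  bif Nat.beq s.1 5 then
    force (clsAt j (walk (wi (dec h)) 0)) fun e =>
      s.2.1.all (fun k => Nat.blt k (sGens j).length) &&
        (Nat.beq (walk (genWord j s.2.1) (rootN e)) (walk (wi (dec h)) 0) &&
          same (wB e ++ wi (wA e) ++ genWord j s.2.1 ++ dec h) (dec s.2.2))
  else Nat.blt s.1 5 && same (dec h ++ [s.1]) (dec s.2.2)

/-- The orbit after a step. -/
def stepJ (j h : ℕ) (s : ℕ × List ℕ × ℕ) : ℕ :=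
  bif Nat.beq s.1 5 then edgeK (clsAt j (walk (wi (dec h)) 0)) else j

/-- A closed trace from `(j0, h0)`. -/
def traceOk (j0 h0 : ℕ) : List (ℕ × List ℕ × ℕ) → List ℕ → ℕ → ℕ → Bool
  | [], w, j, h => Nat.beq j j0 && (w.all (fun k => Nat.blt k (sGens j0).length) &&
      same (genWord j0 w ++ dec h0) (dec h))
  | s :: ss, w, j, h =>
    stepOk j h s && force (stepJ j h s) fun j' => traceOk j0 h0 ss w j' s.2.2

/-- The check of a trace for a word. -/
def okTrace (j h : ℕ) (word : List ℕ) (tr : List (ℕ × List ℕ × ℕ) × List ℕ) : Bool :=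
  decide (tr.1.map Prod.fst = word) && traceOk j h tr.1 tr.2 j h

theorem trace_sound (hB : Bound) {j0 h0 : ℕ} (hj0 : j0 < 9) :
    ∀ (ss : List (ℕ × List ℕ × ℕ)) (w : List ℕ) (j h : ℕ), j < 9 →
      traceOk j0 h0 ss w j h = true →
      runX (ss.map Prod.fst) (mk (oj j) (el h)) = mk (oj j0) (el h0)
  | [], w, j, h, hj, hok => by
    simp only [traceOk, Bool.and_eq_true, List.all_eq_true, Nat.blt_eq] at hok
    obtain ⟨hjj, hw, hs⟩ := hok
    have e := eq_of_same hB (app_lt (genWord_lt _ _) (dec_lt _)) (dec_lt _) hs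
    rw [prodw_append] at e
    rw [Nat.eq_of_beq_eq_true hjj]
    show mk (oj j0) (prodw pg (dec h)) = _
    rw [← e]
    exact mk_left (by rw [oj_val hj0]; exact genWord_memM _ _ hw) _
  | s :: ss, w, j, h, hj, hok => by
    rw [traceOk, force_eq, Bool.and_eq_true] at hok
    obtain ⟨hs, hrest⟩ := hok
    show runX (ss.map Prod.fst) (opL s.1 (mk (oj j) (el h))) = _
    rw [stepOk] at hs
    rw [stepJ] at hrest
    cases h5 : Nat.beq s.1 5
    · simp only [h5, cond_false, Bool.and_eq_true, Nat.blt_eq] at hs hrest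
      obtain ⟨hlt, hsame⟩ := hs
      rw [opL, if_neg (by omega), R_mk]
      have e := eq_of_same hB (app_lt (dec_lt _) (by simpa using hlt)) (dec_lt _) hsame
      rw [prodw_append] at e
      have e' : el h * pg s.1 = el s.2.2 := by
        rw [el, el, ← e]
        simp [prodw]
      rw [e']
      exact trace_sound hB hj0 ss w j _ hj hrest
    · simp only [h5, cond_true, force_eq, Bool.and_eq_true, List.all_eq_true, Nat.blt_eq] at hs hrest
      obtain ⟨hU, hroot, hsame⟩ := hs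
      rw [opL, if_pos (Nat.eq_of_beq_eq_true h5)]
      have hpv : (mv pi (el h)⁻¹ 0).val = walk (wi (dec h)) 0 := by
        have h2 := mv_prodw (wi_lt (dec_lt h)) (0 : Fin 1408)
        rw [prodw_wi (dec_lt h)] at h2
        exact h2
      have hcl : clsOf (oj j) (el h) = clsAt j (walk (wi (dec h)) 0) := by
        rw [clsOf, oj_val hj, hpv]
      have hp : mv pi (prodw pg (genWord j s.2.1)) (root (clsOf (oj j) (el h))) =
          mv pi (el h)⁻¹ 0 := by
        refine Fin.ext ?_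
        rw [mv_prodw (genWord_lt _ _), root_val, hcl, hpv]
        exact Nat.eq_of_beq_eq_true hroot
      rw [T_mk hB (oj j) (el h) (by rw [oj_val hj]; exact genWord_memM _ _ hU) hp, val5, hcl]
      have hwA : ∀ e, ∀ x ∈ wA e, x < 5 := fun e => dec_lt _
      have hwB : ∀ e, ∀ x ∈ wB e, x < 5 := fun e => dec_lt _
      have e := eq_of_same hB
        (app_lt (app_lt (app_lt (hwB _) (wi_lt (hwA _))) (genWord_lt _ _)) (dec_lt _)) (dec_lt _) hsame
      rw [prodw_append, prodw_append, prodw_append, prodw_wi (hwA _)] at e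
      have e' : eB (clsAt j (walk (wi (dec h)) 0)) * (eA (clsAt j (walk (wi (dec h)) 0)))⁻¹ *
          prodw pg (genWord j s.2.1) * el h = el s.2.2 := e
      rw [e']
      refine trace_sound hB hj0 ss w _ _ ?_ hrest
      have hj9 := cls_ok hj ⟨_, hpv ▸ (mv pi (el h)⁻¹ 0).isLt⟩
      have he := e_ok hj9.1
      simp only [okE, Bool.and_eq_true, Nat.blt_eq] at he
      exact he.2.1

theorem runX_of_trace (hB : Bound) {j h : ℕ} (hj : j < 9) {word : List ℕ}
    {tr : List (ℕ × List ℕ × ℕ) × List ℕ} (h' : okTrace j h word tr = true) :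
    runX word (mk (oj j) (el h)) = mk (oj j) (el h) := by
  simp only [okTrace, Bool.and_eq_true, decide_eq_true_eq] at h'
  rw [← h'.1]
  exact trace_sound hB hj _ _ _ _ hj h'.2

end

end CfsgLib.HNCert
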