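import Cfsg.Agent.HNCert.Upper
import Cfsg.Agent.HNCert.LevelData

/-!
The exact orders of the stabilisers of the nine orbit starts, as subgroups of `P`.
-/

set_option autoImplicit false
set_option Elab.async false
set_option maxRecDepth 100000

namespace CfsgLib.HNCert

open CfsgLib.CosetEnum

noncomputable section

/-- The subgroup spanned by the stabiliser generators of an orbit. -/
def M (j : ℕ) : Subgroup P := Subgroup.closure {s | ∃ e ∈ sGens j, s = el e.2}

theorem el_gen_mem {j : ℕ} {e : ℕ × ℕ} (he : e ∈ sGens j) : el e.2 ∈ M j :=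
  Subgroup.subset_closure ⟨e, he, rfl⟩

theorem genWord_memM (j : ℕ) : ∀ L : List ℕ, (∀ i ∈ L, i < (sGens j).length) →
    prodw pg (genWord j L) ∈ M j
  | [], _ => by rw [genWord, List.flatMap_nil, prodw_nil]; exact one_mem _
  | i :: L, h => by
    rw [genWord, List.flatMap_cons, prodw_append]
    refine mul_mem ?_ (genWord_memM j L fun k hk => h k (List.mem_cons_of_mem _ hk))
    have hi := h i List.mem_cons_self
    rw [List.getD_eq_getElem _ _ hi]
    exact el_gen_mem (List.getElem_mem hi)

/-- A word in the generators of a level. -/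
def vWord (V : List ℕ) (w : List ℕ) : List ℕ := w.flatMap fun i => dec (V.getD i 0)

theorem vWord_lt (V w : List ℕ) : ∀ x ∈ vWord V w, x < 5 := by
  intro x hx
  obtain ⟨i, -, hi⟩ := List.mem_flatMap.mp hx
  exact dec_lt _ x hi

theorem vWord_mem (V : List ℕ) : ∀ w : List ℕ, (∀ i ∈ w, i < V.length) →
    prodw pg (vWord V w) ∈ Subgroup.closure (el '' {v | v ∈ V})
  | [], _ => by rw [vWord, List.flatMap_nil, prodw_nil]; exact one_mem _
  | i :: w, h => by
    rw [vWord, List.flatMap_cons, prodw_append]
    refine mul_mem ?_ (vWord_mem V w fun k hk => h k (List.mem_cons_of_mem _ hk))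
    have hi := h i List.mem_cons_self
    rw [List.getD_eq_getElem _ _ hi]
    exact Subgroup.subset_closure ⟨_, List.getElem_mem hi, rfl⟩

/-- The word of a product along levels. -/
def tupWord : List Level → List ℕ → List ℕ
  | [], _ => []
  | l :: D, idx => tupWord D idx.tail ++ dec (l.L.getD (idx.headD 0) 0)

theorem tupWord_lt : ∀ (D : List Level) (idx : List ℕ), ∀ x ∈ tupWord D idx, x < 5
  | [], _, x, hx => absurd hx List.not_mem_nil
  | l :: D, idx, x, hx => by
    rcases List.mem_append.mp hx with h | h
    exacts [tupWord_lt D _ x h, dec_lt _ x h]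

/-- Indices are in range. -/
def okTup : List Level → List ℕ → Bool
  | [], idx => idx.isEmpty
  | l :: D, idx => Nat.blt (idx.headD 0) l.L.length && okTup D idx.tail

/-- The generators of the first level. -/
def topV : List Level → List ℕ
  | [] => []
  | l :: _ => l.V

/-- One product of a transversal element and a generator. -/
def okStep (l : Level) (D : List Level) (u v : ℕ) (s : ℕ × List ℕ) : Bool :=
  Nat.blt s.1 l.L.length && (okTup D s.2 &&
    same (dec u ++ dec v) (tupWord D s.2 ++ dec (l.L.getD s.1 0)))

/-- The products of one transversal element with the generators. -/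
def okRow (l : Level) (D : List Level) (u : ℕ) : List ℕ → List (ℕ × List ℕ) → Bool
  | [], _ => true
  | _ :: _, [] => false
  | v :: vs, s :: ss => okStep l D u v s && okRow l D u vs ss

/-- All products at a level, row by row. -/
def okRows (l : Level) (D : List Level) : List ℕ → List (ℕ × List ℕ) → Bool
  | [], _ => true
  | u :: us, ss => okRow l D u l.V ss && okRows l D us (ss.drop l.V.length)

/-- The words of a transversal in the generators. -/
def okWit (V : List ℕ) : List ℕ → List (List ℕ) → Bool
  | [], _ => true
  | _ :: _, [] => false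
  | u :: us, w :: ws =>
    (w.all fun k => Nat.blt k V.length) && (same (dec u) (vWord V w) && okWit V us ws)

theorem okRows_spec {l : Level} {D : List Level} : ∀ (us : List ℕ) (ss : List (ℕ × List ℕ)),
    okRows l D us ss = true → ∀ u ∈ us, ∀ v ∈ l.V, ∃ s, okStep l D u v s = true
  | [], _, _, u, hu => absurd hu List.not_mem_nil
  | a :: us, ss, h, u, hu => by
    rw [okRows, Bool.and_eq_true] at h
    rcases List.mem_cons.mp hu with rfl | hu
    · have key : ∀ (vs : List ℕ) (ss : List (ℕ × List ℕ)), okRow l D u vs ss = true →
          ∀ v ∈ vs, ∃ s, okStep l D u v s = true := by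
        intro vs
        induction vs with
        | nil => intro _ _ v hv; exact absurd hv List.not_mem_nil
        | cons c vs ih =>
          intro ss hh v hv
          cases ss with
          | nil => simp [okRow] at hh
          | cons s ss =>
            rw [okRow, Bool.and_eq_true] at hh
            rcases List.mem_cons.mp hv with rfl | hv
            · exact ⟨s, hh.1⟩
            · exact ih ss hh.2 v hv
      exact key _ _ h.1
    · exact okRows_spec us _ h.2 u hu

theorem okWit_spec {V : List ℕ} : ∀ (us : List ℕ) (ws : List (List ℕ)), okWit V us ws = true →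
    ∀ u ∈ us, ∃ w : List ℕ, (∀ k ∈ w, k < V.length) ∧ same (dec u) (vWord V w) = true
  | [], _, _, u, hu => absurd hu List.not_mem_nil
  | _ :: _, [], h, _, _ => by simp [okWit] at h
  | a :: us, w :: ws, h, u, hu => by
    simp only [okWit, Bool.and_eq_true, List.all_eq_true, Nat.blt_eq] at h
    rcases List.mem_cons.mp hu with rfl | hu
    · exact ⟨w, h.1, h.2.1⟩
    · exact okWit_spec us ws h.2.2 u hu

/-- The check of levels. -/
def okLevels : List Level → Bool
  | [] => true
  | l :: D => decide (l.L.headD 1 = 0) && (okWit l.V l.L l.wit &&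
      (((topV D).all fun v => l.V.contains v) && (okRows l D l.L l.steps && okLevels D)))

/-- The chain of levels. -/
def lC (D : List Level) : List (Fin 1408 × List P) := D.map fun l => (pt l.b, l.L.map el)

theorem tup_elt : ∀ (D : List Level) (idx : List ℕ), okTup D idx = true →
    ∃ i : Idx (lC D), elt (lC D) i = prodw pg (tupWord D idx)
  | [], _, _ => ⟨PUnit.unit, rfl⟩
  | l :: D, idx, h => by
    simp only [okTup, Bool.and_eq_true, Nat.blt_eq] at h
    obtain ⟨hk, hD⟩ := h
    obtain ⟨i, hi⟩ := tup_elt D _ hD
    refine ⟨(i, ⟨idx.headD 0, by simpa using hk⟩), ?_⟩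
    show elt (lC D) i * (l.L.map el).get ⟨idx.headD 0, _⟩ = _
    rw [hi, tupWord, prodw_append, List.get_eq_getElem, List.getElem_map,
      List.getD_eq_getElem _ _ hk]
    rfl

theorem levels_spec (hB : Bound) : ∀ D : List Level, okLevels D = true →
    ∀ g, g ∈ Subgroup.closure (el '' {v | v ∈ topV D}) ↔ ∃ i : Idx (lC D), elt (lC D) i = g
  | [], _, g => by
    simp only [topV, List.not_mem_nil, Set.ofPred_false, Set.image_empty, Subgroup.closure_empty,
      Subgroup.mem_bot]
    exact ⟨fun h => ⟨PUnit.unit, h.symm⟩, fun ⟨_, h⟩ => h.symm⟩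
  | l :: D, h, g => by
    have := hB.1
    simp only [okLevels, Bool.and_eq_true, decide_eq_true_eq, List.all_eq_true] at h
    obtain ⟨h0, hwit, hsub, hstep, hD⟩ := h
    have ih := levels_spec hB D hD
    have hL : ∀ u ∈ l.L, el u ∈ Subgroup.closure (el '' {v | v ∈ l.V}) := by
      intro u hu
      obtain ⟨w, hw, he⟩ := okWit_spec _ _ hwit u hu
      rw [el, eq_of_same hB (dec_lt _) (vWord_lt _ _) he]
      exact vWord_mem _ _ hw
    refine level_closed (T := Subgroup.closure (el '' {v | v ∈ topV D})) (C := lC D)
      ?_ ih ?_ ?_ ?_ g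
    · have hm : 0 ∈ l.L := by
        cases hl : l.L with
        | nil => rw [hl] at h0; simp at h0
        | cons a as => rw [hl] at h0; simp at h0; exact h0 ▸ List.mem_cons_self
      exact List.mem_map.mpr ⟨0, hm, by rw [el, show dec 0 = [] from rfl, prodw_nil]⟩
    · intro e he u hu
      have : u ∈ Subgroup.closure (el '' {v | v ∈ topV D}) := by
        have hmono : ∀ D' : List Level, okLevels D' = true → ∀ e ∈ lC D', ∀ u ∈ e.2,
            u ∈ Subgroup.closure (el '' {v | v ∈ topV D'}) := by
          intro D'
          induction D' with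
          | nil => intro _ e he; exact absurd he List.not_mem_nil
          | cons a as iha =>
            intro hok e he u hu
            simp only [okLevels, Bool.and_eq_true, decide_eq_true_eq, List.all_eq_true] at hok
            obtain ⟨-, hw', hsub', -, hD'⟩ := hok
            rcases List.mem_cons.mp he with rfl | he
            · obtain ⟨u', hu', rfl⟩ := List.mem_map.mp hu
              obtain ⟨w, hw, heq⟩ := okWit_spec _ _ hw' u' hu'
              rw [el, eq_of_same hB (dec_lt _) (vWord_lt _ _) heq]
              exact vWord_mem _ _ hw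
            · refine Subgroup.closure_mono ?_ (iha hD' e he u hu)
              rintro _ ⟨v, hv, rfl⟩
              exact ⟨v, List.contains_iff_mem.mp (hsub' v hv), rfl⟩
        exact hmono D hD e he u hu
      refine Subgroup.closure_mono ?_ this
      rintro _ ⟨v, hv, rfl⟩
      exact ⟨v, List.contains_iff_mem.mp (hsub v hv), rfl⟩
    · intro u hu
      obtain ⟨u', hu', rfl⟩ := List.mem_map.mp hu
      exact hL u' hu'
    · intro u hu v hv
      obtain ⟨u', hu', rfl⟩ := List.mem_map.mp hu
      obtain ⟨v', hv', rfl⟩ := hv
      obtain ⟨⟨k, idx⟩, hs⟩ := okRows_spec _ _ hstep u' hu' v' hv'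
      simp only [okStep, Bool.and_eq_true, Nat.blt_eq] at hs
      obtain ⟨hk, htup, he⟩ := hs
      obtain ⟨i, hi⟩ := tup_elt D _ htup
      refine ⟨i, el (l.L.getD k 0), ?_, ?_⟩
      · rw [List.getD_eq_getElem _ _ hk]
        exact List.mem_map_of_mem (List.getElem_mem hk)
      · have e' := eq_of_same hB (app_lt (dec_lt _) (dec_lt _)) (app_lt (tupWord_lt _ _) (dec_lt _)) he
        rw [prodw_append, prodw_append, ← hi] at e'
        exact e'

/-- The generators of a stabiliser are among those of its first level. -/
def okTop (j : ℕ) : Bool := (sGens j).all fun e => (topV (levels j)).contains e.2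

/-- The check of a stabiliser. -/
def okM (j : ℕ) : Bool :=
  okLevels (levels j) && (okTop j &&
    Nat.beq (sSize j * ((levels j).map fun l => l.L.length).prod) 177408000)

theorem okM1 : okM 1 = true := by decide +kernel

theorem okM2 : okM 2 = true := by decide +kernel

theorem okM3 : okM 3 = true := by decide +kernel

theorem okM4 : okM 4 = true := by decide +kernel

theorem okM5 : okM 5 = true := by decide +kernel

theorem okM6 : okM 6 = true := by decide +kernel

theorem okM7 : okM 7 = true := by decide +kernel

theorem okM8 : okM 8 = true := by decide +kernel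

theorem levels_ok {j : ℕ} (hj : j < 9) (hpos : 0 < j) : okLevels (levels j) = true ∧
    okTop j = true ∧ sSize j * ((levels j).map fun l => l.L.length).prod = 177408000 := by
  have h : okM j = true := by
    interval_cases j
    exacts [okM1, okM2, okM3, okM4, okM5, okM6, okM7, okM8]
  simp only [okM, Bool.and_eq_true] at h
  exact ⟨h.1, h.2.1, Nat.eq_of_beq_eq_true h.2.2⟩

theorem M_zero : M 0 = ⊤ := by
  rw [eq_top_iff, ← PresentedGroup.closure_range_of, Subgroup.closure_le]
  have h : ∀ x ∈ ([0, 2, 4] : List ℕ), ∃ e ∈ sGens 0, dec e.2 = [x] := by decide +kernel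
  have hx : ∀ x ∈ ([0, 2, 4] : List ℕ), pg x ∈ M 0 := fun x hx => by
    obtain ⟨e, he, hd⟩ := h x hx
    have := el_gen_mem he
    rwa [el, hd, prodw_cons, prodw_nil, mul_one] at this
  rintro _ ⟨a, rfl⟩
  cases a
  exacts [hx 0 (by simp), hx 2 (by simp), hx 4 (by simp)]

theorem card_M (hB : Bound) {j : ℕ} (hj : j < 9) : sSize j * Nat.card (M j) = 177408000 := by
  have := hB.1
  rcases Nat.eq_zero_or_pos j with rfl | hpos
  · rw [M_zero, Subgroup.card_top, card_P hB, show sSize 0 = 1 from rfl, one_mul]
  refine le_antisymm ?_ ?_
  · obtain ⟨hok, htop, hsz⟩ := levels_ok hj hpos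
    have h := card_le_of_elts (levels_spec hB _ hok)
    have hle : M j ≤ Subgroup.closure (el '' {v | v ∈ topV (levels j)}) := by
      refine Subgroup.closure_mono ?_
      rintro _ ⟨e, he, rfl⟩
      exact ⟨e.2, List.contains_iff_mem.mp (List.all_eq_true.mp htop e he), rfl⟩
    have hs : ∀ D : List Level, size (lC D) = (D.map fun l => l.L.length).prod := by
      intro D
      induction D with
      | nil => rfl
      | cons l D ih =>
        show size (lC D) * (l.L.map el).length = _
        rw [ih, List.length_map, List.map_cons, List.prod_cons, mul_comm]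
    rw [hs] at h
    rw [← hsz]
    exact Nat.mul_le_mul_left _ ((Subgroup.card_le_of_le hle).trans h)
  · obtain ⟨h1, -⟩ := ok_sC hB hj _ (okS_all j hj)
    have h := size_le (W := M j) h1 (fun e he u hu => by
      obtain ⟨e', he', rfl⟩ := List.mem_map.mp he
      obtain ⟨u', hu', rfl⟩ := List.mem_map.mp hu
      refine genWord_memM j u' ?_
      have hall : ∀ D : List (ℕ × List (List ℕ)), okS j D = true → ∀ e ∈ D, ∀ u ∈ e.2,
          ∀ i ∈ u, i < (sGens j).length := by
        intro D
        induction D with
        | nil => intro _ e he; exact absurd he List.not_mem_nil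
        | cons a as ih =>
          intro hok e he u hu i hi
          obtain ⟨b, L⟩ := a
          simp only [okS, Bool.and_eq_true, List.all_eq_true, Nat.blt_eq] at hok
          rcases List.mem_cons.mp he with rfl | he
          · exact hok.2.1 u hu i hi
          · exact ih hok.2.2.2.2 e he u hu i hi
      exact hall _ (okS_all j hj) e' he' u' hu')
    have hs : ∀ D : List (ℕ × List (List ℕ)),
        size (D.map fun e => (pt e.1, e.2.map fun L => prodw pg (genWord j L))) =
          (D.map fun e => e.2.length).prod := by
      intro D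
      induction D with
      | nil => rfl
      | cons e D ih =>
        show size (D.map _) * _ = _
        rw [ih, List.length_map, List.map_cons, List.prod_cons, mul_comm]
    rw [hs] at h
    rw [← size_all j hj hpos]
    exact Nat.mul_le_mul_left _ h

theorem index_M (hB : Bound) {j : ℕ} (hj : j < 9) : (M j).index = sSize j := by
  have := hB.1
  have h := Subgroup.index_mul_card (M j)
  rw [card_P hB, ← card_M hB hj] at h
  exact Nat.eq_of_mul_eq_mul_right Nat.card_pos h

end

end CfsgLib.HNCert
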