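import Cfsg.Agent.HNCert.Setup
import Cfsg.Agent.HNCert.Table
import Cfsg.Agent.HNCert.Chain

/-!
The action of `P` on 1408 points.
-/

set_option autoImplicit false
set_option Elab.async false
set_option maxRecDepth 100000

namespace CfsgLib.HNCert

open CfsgLib.CosetEnum

noncomputable section

/-- The image of a point under a letter. -/
def img (x i : ℕ) : ℕ :=
  bif Nat.beq x 0 then ext tx i else bif Nat.beq x 1 then ext txi i else
  bif Nat.beq x 2 then ext ty i else bif Nat.beq x 3 then ext tyi i else ext tz i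

/-- The inverse letter. -/
def iv : ℕ → ℕ
  | 0 => 1
  | 1 => 0
  | 2 => 3
  | 3 => 2
  | 5 => 6
  | 6 => 5
  | x => x

/-- The end of a path of a word. -/
def walk (w : List ℕ) (i : ℕ) : ℕ :=
  List.rec (fun i => i) (fun x _ ih i => force (img x i) ih) w i

theorem walk_nil (i : ℕ) : walk [] i = i := rfl

theorem walk_cons (x : ℕ) (w : List ℕ) (i : ℕ) : walk (x :: w) i = walk w (img x i) := by
  show force (img x i) (walk w) = _
  rw [force_eq]

/-- A point goes to a point, and the inverse letter brings it back. -/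
def okImg (x i : ℕ) : Bool :=
  bif Nat.blt i 1408 then
    force (img x i) fun j => Nat.blt j 1408 && Nat.beq (img (iv x) j) i
  else true

theorem okImg_all : ∀ x < 5, allR (okImg x) 11 0 = true := by decide +kernel

theorem img_spec (x : ℕ) (hx : x < 5) (i : Fin 1408) :
    img x i < 1408 ∧ img (iv x) (img x i) = i := by
  have h := allR_spec 11 0 (okImg_all x hx) i (Nat.zero_le _) (by omega)
  rw [okImg, show Nat.blt (i : ℕ) 1408 = true from Nat.ble_eq_true_of_le i.isLt, cond_true,
    force_eq, Bool.and_eq_true] at h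
  exact ⟨Nat.le_of_ble_eq_true h.1, Nat.eq_of_beq_eq_true h.2⟩

theorem iv_lt (x : ℕ) (hx : x < 5) : iv x < 5 := by interval_cases x <;> decide

theorem iv_iv (x : ℕ) (hx : x < 5) : iv (iv x) = x := by interval_cases x <;> decide

/-- The permutation of a letter, acting from the right. -/
def letPerm (x : ℕ) : Equiv.Perm (Fin 1408) :=
  if hx : x < 5 then
    { toFun := fun i => ⟨img (iv x) i, (img_spec (iv x) (iv_lt x hx) i).1⟩
      invFun := fun i => ⟨img x i, (img_spec x hx i).1⟩
      left_inv := fun i => Fin.ext (by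
        have h := (img_spec (iv x) (iv_lt x hx) i).2
        rwa [iv_iv x hx] at h)
      right_inv := fun i => Fin.ext (img_spec x hx i).2 }
  else 1

theorem letPerm_inv_apply (x : ℕ) (hx : x < 5) (i : Fin 1408) :
    ((letPerm x)⁻¹ i).val = img x i := by
  rw [letPerm, dif_pos hx]; rfl

theorem prodw_letPerm_inv : ∀ (w : List ℕ), (∀ x ∈ w, x < 5) → ∀ i : Fin 1408,
    ((prodw letPerm w)⁻¹ i).val = walk w i
  | [], _, i => by rw [prodw_nil, inv_one, Equiv.Perm.one_apply, walk_nil]
  | x :: w, hw, i => by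
    rw [prodw_cons, mul_inv_rev, Equiv.Perm.mul_apply,
      prodw_letPerm_inv w (fun y hy => hw y (List.mem_cons_of_mem x hy)),
      letPerm_inv_apply x (hw x List.mem_cons_self), walk_cons]

/-- A relator closes at a point. -/
def okRelP (r i : ℕ) : Bool :=
  bif Nat.blt i 1408 then Nat.beq (walk (relP.getD r []) i) i else true

theorem okRelP_all : ∀ r < 10, allR (okRelP r) 11 0 = true := by decide +kernel

theorem relP_lt : ∀ w ∈ relP, ∀ x ∈ w, x < 5 := by decide +kernel

theorem letPerm_val {x : ℕ} (hx : x < 5) :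
    letPerm x = val (letPerm 0) (letPerm 2) (letPerm 4) 1 x := by
  interval_cases x
  · rfl
  · refine eq_inv_of_mul_eq_one_left (Equiv.ext fun i => Fin.ext ?_)
    rw [Equiv.Perm.mul_apply, letPerm, dif_pos (by norm_num), letPerm, dif_pos (by norm_num)]
    exact (img_spec 1 (by norm_num) i).2
  · rfl
  · refine eq_inv_of_mul_eq_one_left (Equiv.ext fun i => Fin.ext ?_)
    rw [Equiv.Perm.mul_apply, letPerm, dif_pos (by norm_num), letPerm, dif_pos (by norm_num)]
    exact (img_spec 3 (by norm_num) i).2
  · rfl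

theorem exists_pi : ∃ χ : P →* Equiv.Perm (Fin 1408), ∀ x, x < 5 → χ (pg x) = letPerm x := by
  obtain ⟨χ, hχ⟩ := exists_lift (letPerm 0) (letPerm 2) (letPerm 4) (fun w hw => by
    rw [← prodw_congr fun i hi => letPerm_val (relP_lt w hw i hi), ← inv_eq_one]
    refine Equiv.ext fun i => Fin.ext ?_
    rw [prodw_letPerm_inv w (relP_lt w hw), Equiv.Perm.one_apply]
    obtain ⟨r, hr, rfl⟩ := List.getElem_of_mem hw
    have h := allR_spec 11 0 (okRelP_all r hr) i (Nat.zero_le _) (by omega)
    rw [okRelP, show Nat.blt (i : ℕ) 1408 = true from Nat.ble_eq_true_of_le i.isLt, cond_true,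
      List.getD_eq_getElem _ _ hr] at h
    exact Nat.eq_of_beq_eq_true h)
  exact ⟨χ, fun x hx => by rw [hχ, ← letPerm_val hx]⟩

/-- The action on the points. -/
def pi : P →* Equiv.Perm (Fin 1408) := exists_pi.choose

theorem pi_pg {x : ℕ} (hx : x < 5) : pi (pg x) = letPerm x := exists_pi.choose_spec x hx

theorem mv_prodw {w : List ℕ} (hw : ∀ x ∈ w, x < 5) (i : Fin 1408) :
    (mv pi (prodw pg w) i).val = walk w i := by
  rw [mv, map_prodw, prodw_congr fun x hx => pi_pg (hw x hx), prodw_letPerm_inv w hw]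

end

end CfsgLib.HNCert
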