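/-!
The stabiliser of the point `0` and of its partner under `z`: transversals, all commuting with
`z`.
-/

set_option autoImplicit false

namespace CfsgLib.HNCert

/-- Elements fixing `0` which move the partner over its suborbit. -/
def zMoves : List Nat :=
  [0, 3, 9931, 3408769753,
    23434969, 108249, 9945, 153,
    13515, 1227, 2375321524313, 1499838043,
    219, 27, 864987, 78555,
    233428529883, 1500295899, 27270099675, 36,
    1241, 13529, 111833, 898265,
    57488091, 187537113, 3408762585, 187544281,
    635611, 636507, 6927963, 57259611,
    894681, 79451, 894555, 9819,
    108123, 1313, 9828, 6927067,
    57258715, 218396144347, 12237714139, 6212023005915,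
    1317672425177, 191207129, 3412432601, 7156443,
    2929369, 53261017]

/-- The deeper transversals. -/
def zStab : List (Nat × List Nat) := [
  (7, [0, 8284507978123596, 14436682397316596427, 3664079287252730636,
    6441328698765252964, 3918533645232904281, 70096473, 651665936280082153,
    14054663685996419340, 27450503317993051, 201374216278382177, 1754593245903820377,
    7790756816537956, 603884329129525963, 30247267946836683, 62327703629837097,
    4831010099005113049, 36040743180, 7658901065800033, 8787545,
    1813976062220, 457508655980713675, 3149784620512012, 604663330134956300,
    3197025, 5216347905486886489, 1642835586964632332, 84290463677657835,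
    1387837573217, 1815888631385, 8788065, 3700602896714218217,
    225573154912092876, 31330475784404903513, 3216358626407131, 29474702310205601380,
    3916273789111678555, 3427823518881889, 75208898942212364, 898534458046052,
    1815888631905, 210690939884295780]),
  (9, [0, 14040413029607511641, 43156707988389152868, 23435531,
    70096993, 28201112310956833]),
  (10, [0, 7148693022094028, 219599720872784588, 393921707161188,
    7184304967140108]),
  (8, [0, 6657625])]

end CfsgLib.HNCert
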