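import Cfsg.Agent.HNCert.Traces
import Cfsg.Agent.HNCert.ZData

/-!
The relators with `t` hold on the positions.
-/

set_option autoImplicit false
set_option Elab.async false
set_option maxRecDepth 100000

namespace CfsgLib.HNCert

open CfsgLib.CosetEnum

noncomputable section

theorem R_R (a b : P) (x : X) : R b (R a x) = R (a * b) x := by
  obtain ⟨j, h, rfl⟩ := exists_mk x
  rw [R_mk, R_mk, R_mk, mul_assoc]

theorem R_one (x : X) : R 1 x = x := by
  obtain ⟨j, h, rfl⟩ := exists_mk x
  rw [R_mk, mul_one]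

/-- The subgroup generated by the deeper transversals. -/
def stabSub : Subgroup P :=
  Subgroup.closure {u | ∃ e ∈ stabData, ∃ n ∈ e.2, u = el n}

theorem mem_stabSub (hB : Bound) {h : P} (hh : mv pi h 0 = 0) : h ∈ stabSub := by
  have := hB.1
  refine mem_of_fix (W := (⊤ : Subgroup P)) (b := pt 0) (L := topWords.map el) (C := toC stabData)
    full_ok full_mem (card_top_le hB) ?_ ?_ (Subgroup.mem_top h) hh
  · refine List.mem_map.mpr ⟨0, ?_, by rw [el, show dec 0 = [] from rfl, prodw_nil]⟩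
    have hlen : 0 < topWords.length := by
      have := congrArg List.length top_range
      simp at this; omega
    have := top_has_one
    rw [List.getD_eq_getElem _ _ hlen] at this
    exact this ▸ List.getElem_mem hlen
  · intro e he u hu
    obtain ⟨e', he', rfl⟩ := List.mem_map.mp he
    obtain ⟨u', hu', rfl⟩ := List.mem_map.mp hu
    exact Subgroup.subset_closure ⟨e', he', u', hu', rfl⟩

/-- The partner of `0` under `z`. -/
def zPt : Fin 1408 := mv pi (pg 4) 0

/-- The point fixed with `0` whose image under `x` is `0`. -/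
def xPt : Fin 1408 := mv pi (pg 1) 0

theorem zPt_val : zPt.val = img 4 0 := by
  have h := mv_prodw (w := [4]) (by simp) (0 : Fin 1408)
  rw [prodw_cons, prodw_nil, mul_one, walk_cons, walk_nil] at h
  exact h

theorem xPt_val : xPt.val = img 1 0 := by
  have h := mv_prodw (w := [1]) (by simp) (0 : Fin 1408)
  rw [prodw_cons, prodw_nil, mul_one, walk_cons, walk_nil] at h
  exact h

theorem stab_closed : (stabData.all fun e => e.2.all fun n =>
    Nat.beq (walk (dec n) (img 1 0)) (img 1 0) &&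
      zOrb.all fun w => zOrb.contains (walk (dec n) w)) = true ∧
    zOrb.contains (img 4 0) = true := by decide +kernel

theorem fix_xPt (hB : Bound) {h : P} (hh : mv pi h 0 = 0) : mv pi h xPt = xPt := by
  have := hB.1
  refine closure_subset (S := {g | mv pi g xPt = xPt}) (mv_one pi _) ?_ h (mem_stabSub hB hh)
  rintro s hs _ ⟨e, he, n, hn, rfl⟩
  show mv pi (s * el n) xPt = xPt
  have h1 := List.all_eq_true.mp (List.all_eq_true.mp stab_closed.1 e he) n hn
  rw [Bool.and_eq_true] at h1
  rw [mv_mul, show mv pi s xPt = xPt from hs]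
  refine Fin.ext ?_
  rw [mv_el, xPt_val]
  exact Nat.eq_of_beq_eq_true h1.1

theorem zPt_mem (hB : Bound) {h : P} (hh : mv pi h 0 = 0) : (mv pi h zPt).val ∈ zOrb := by
  have := hB.1
  refine closure_subset (S := {g | (mv pi g zPt).val ∈ zOrb}) ?_ ?_ h (mem_stabSub hB hh)
  · show (mv pi 1 zPt).val ∈ zOrb
    rw [mv_one, zPt_val]
    exact List.contains_iff_mem.mp stab_closed.2
  · rintro s hs _ ⟨e, he, n, hn, rfl⟩
    show (mv pi (s * el n) zPt).val ∈ zOrb
    have h1 := List.all_eq_true.mp (List.all_eq_true.mp stab_closed.1 e he) n hn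
    rw [Bool.and_eq_true, List.all_eq_true] at h1
    rw [mv_mul, mv_el]
    exact List.contains_iff_mem.mp (h1.2 _ hs)

theorem elt_tail {b : Fin 1408} {L : List P} {C : List (Fin 1408 × List P)}
    (h : Ok pi ((b, L) :: C)) (h1 : (1 : P) ∈ L) (i : Idx ((b, L) :: C))
    (hb : mv pi (elt ((b, L) :: C) i) b = b) : elt ((b, L) :: C) i = elt C i.1 := by
  obtain ⟨hn, hf, -⟩ := h
  show elt C i.1 * L.get i.2 = elt C i.1
  change mv pi (elt C i.1 * L.get i.2) b = b at hb
  rw [mv_mul, elt_fix C hf i.1] at hb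
  obtain ⟨k, hk⟩ := List.get_of_mem h1
  have h2 : i.2 = k := by
    apply Fin.ext
    refine (hn.getElem_inj_iff (hi := by simp) (hj := by simp)).mp ?_
    have hk' : L[(k : ℕ)] = 1 := hk
    simpa [hk', mv_one] using hb
  rw [h2, hk, mul_one]

/-- An element fixing two base points lies where the deeper transversals lie. -/
theorem mem_of_two [Finite P] {b b' : Fin 1408} {L L' : List P} {C : List (Fin 1408 × List P)}
    (h : Ok pi ((b, L) :: (b', L') :: C))
    (hc : Nat.card (⊤ : Subgroup P) ≤ size ((b, L) :: (b', L') :: C)) (h1 : (1 : P) ∈ L)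
    (h1' : (1 : P) ∈ L') {k : P} (hb : mv pi k b = b) (hb' : mv pi k b' = b') {W : Subgroup P}
    (hW : ∀ e ∈ C, ∀ u ∈ e.2, u ∈ W) : k ∈ W := by
  obtain ⟨i, hi⟩ := exists_elt h (fun _ _ _ _ => Subgroup.mem_top _) hc (Subgroup.mem_top k)
  have e1 := elt_tail h h1 i (by rw [hi]; exact hb)
  have e2 := elt_tail h.2.2 h1' i.1 (by rw [← e1, hi]; exact hb')
  rw [← hi, e1, e2]
  exact elt_mem C hW _

theorem fix_inv {h : P} {p : Fin 1408} (hh : mv pi h p = p) : mv pi h⁻¹ p = p := by
  conv_lhs => rw [← hh]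
  exact mv_inv pi h p

/-- A position is a root moved by an element fixing `0`. -/
theorem normal_form (j : Fin 9) (h : P) :
    ∃ e < nE, edgeJ e = j.val ∧ ∃ k : P, mv pi k 0 = 0 ∧ mk j h = R k (mk (oj (edgeJ e)) (eA e)) := by
  obtain ⟨he, hj, -⟩ := cls_ok j.isLt (mv pi h⁻¹ 0)
  obtain ⟨hU, hp⟩ := uOf_spec j h
  refine ⟨clsOf j h, he, hj, (eA (clsOf j h))⁻¹ * uOf j h * h, ?_, ?_⟩
  · rw [← mv_one pi (0 : Fin 1408)]
    rw [mv_one, mv_mul, mv_mul]
    show mv pi h (mv pi (uOf j h) (root (clsOf j h))) = 0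
    rw [hp, ← mv_mul, inv_mul_cancel, mv_one]
  · have hjj : oj (edgeJ (clsOf j h)) = j := Fin.ext (by
      rw [show edgeJ (clsOf j h) = j.val from hj, oj_val j.isLt])
    rw [R_mk, hjj, mul_assoc (eA _)⁻¹, mul_inv_cancel_left, mk_left hU]

theorem edgeJ_lt {e : ℕ} (he : e < nE) : edgeJ e < 9 := by
  have h := e_ok he
  simp only [okE, Bool.and_eq_true, Nat.blt_eq] at h
  exact h.1

theorem runX_five_fix (hB : Bound) {k : P} (hk : mv pi k 0 = 0) (x : X) :
    runX [5, 5, 5, 5, 5] (R k x) = R k (runX [5, 5, 5, 5, 5] x) := by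
  simp only [runX, opL, if_true, T_fix hB hk]

theorem five (hB : Bound) (x : X) : runX [5, 5, 5, 5, 5] x = x := by
  obtain ⟨j, h, rfl⟩ := exists_mk x
  obtain ⟨e, he, -, k, hk, hx⟩ := normal_form j h
  rw [hx, runX_five_fix hB hk]
  exact congrArg (R k) (runX_of_trace hB (edgeJ_lt he) (root_ok he).1)

theorem rel_x (hB : Bound) (x : X) : runX [5, 0, 5, 5, 1] x = x := by
  obtain ⟨j, h, rfl⟩ := exists_mk x
  obtain ⟨e, he, -, k, hk, hx⟩ := normal_form j h
  rw [hx]
  have hk' : mv pi ((pg 0)⁻¹ * k * pg 0) 0 = 0 := by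
    rw [mv_mul, mv_mul, show (pg 0)⁻¹ = pg 1 from rfl,
      show mv pi k (mv pi (pg 1) 0) = mv pi (pg 1) 0 from fix_xPt hB hk,
      show pg 1 = (pg 0)⁻¹ from rfl, ← mv_mul, inv_mul_cancel, mv_one]
  have key : runX [5, 0, 5, 5, 1] (R k (mk (oj (edgeJ e)) (eA e))) =
      R k (runX [5, 0, 5, 5, 1] (mk (oj (edgeJ e)) (eA e))) := by
    generalize mk (oj (edgeJ e)) (eA e) = q
    simp only [runX, opL, if_true, show (0 : ℕ) ≠ 5 by norm_num, show (1 : ℕ) ≠ 5 by norm_num,
      if_false, T_fix hB hk]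
    rw [R_R k, show k * pg 0 = pg 0 * ((pg 0)⁻¹ * k * pg 0) by group, ← R_R (pg 0),
      T_fix hB hk', T_fix hB hk', R_R _ (pg 1), show pg 1 = (pg 0)⁻¹ from rfl,
      show (pg 0)⁻¹ * k * pg 0 * (pg 0)⁻¹ = (pg 0)⁻¹ * k by group, ← R_R (pg 0)⁻¹]
  rw [key]
  exact congrArg (R k) (runX_of_trace hB (edgeJ_lt he) (root_ok he).2)

theorem pg_four_sq : pg 4 * pg 4 = 1 := by
  have h := pg_rel [4, 4] (by simp [relP])
  simpa [prodw] using h

theorem swap_z {k : P} (h0 : mv pi k 0 = 0) (hz : mv pi k zPt = zPt) :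
    mv pi (pg 4 * k * pg 4) 0 = 0 ∧ mv pi (pg 4 * k * pg 4) zPt = zPt := by
  have hzz : mv pi (pg 4) zPt = 0 := by
    rw [zPt, ← mv_mul, pg_four_sq, mv_one]
  constructor
  · rw [mv_mul, mv_mul, show mv pi (pg 4) 0 = zPt from rfl, hz, hzz]
  · rw [mv_mul, mv_mul, hzz, h0]
    rfl

/-- A chain through the partner of `0`. -/
def zData : List (ℕ × List ℕ) := (0, topWords) :: (img 4 0, zMoves) :: zStab

theorem zData_ok : (okC ((img 4 0, zMoves) :: zStab) &&
    ((((img 4 0, zMoves) :: zStab).all fun e => e.2.all fun u => Nat.beq (walk (dec u) 0) 0) &&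
      (Nat.beq ((((img 4 0, zMoves) :: zStab).map fun e => e.2.length).prod) 126000 &&
        (Nat.beq (zMoves.getD 0 1) 0 &&
          zStab.all fun e => e.2.all fun u => same ([4] ++ dec u) (dec u ++ [4]))))) = true := by
  decide +kernel

/-- An element fixing `0` and its partner commutes with `z`. -/
theorem commute_z (hB : Bound) {k : P} (h0 : mv pi k 0 = 0) (hz : mv pi k zPt = zPt) :
    pg 4 * k * pg 4 = k := by
  have := hB.1
  have h := zData_ok
  simp only [Bool.and_eq_true] at h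
  obtain ⟨hok, hfix, hsize, hone, hcom⟩ := h
  have hokz : Ok pi (toC zData) := by
    refine ok_of_okC _ ?_
    simp only [zData, okC, Bool.and_eq_true, Nat.blt_eq]
    refine ⟨by norm_num, by rw [top_range]; exact range_distinct, hfix, ?_⟩
    simpa [okC, Bool.and_eq_true] using hok
  have hsz : Nat.card (⊤ : Subgroup P) ≤ size (toC zData) := by
    rw [size_toC, zData, List.map_cons, List.prod_cons, Nat.eq_of_beq_eq_true hsize,
      show topWords.length = 1408 by simpa using congrArg List.length top_range,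
      Subgroup.card_top]
    exact hB.2
  have hone' : (1 : P) ∈ zMoves.map el := by
    cases hl : zMoves with
    | nil => rw [hl] at hone; exact absurd hone (by decide)
    | cons u us =>
      rw [hl] at hone
      refine List.mem_map.mpr ⟨u, List.mem_cons_self, ?_⟩
      rw [show u = 0 from Nat.eq_of_beq_eq_true hone, el, show dec 0 = [] from rfl, prodw_nil]
  have htop1 : (1 : P) ∈ topWords.map el := by
    refine List.mem_map.mpr ⟨0, ?_, by rw [el, show dec 0 = [] from rfl, prodw_nil]⟩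
    have hlen : 0 < topWords.length := by
      have := congrArg List.length top_range
      simp at this; omega
    have := top_has_one
    rw [List.getD_eq_getElem _ _ hlen] at this
    exact this ▸ List.getElem_mem hlen
  have hzp : pt (img 4 0) = zPt := by
    refine Fin.ext ?_
    rw [zPt_val, pt_val]
    rw [← zPt_val]; exact zPt.isLt
  have hmem : k ∈ Subgroup.centralizer {pg 4} := by
    refine mem_of_two (b := pt 0) (b' := pt (img 4 0)) (L := topWords.map el) (L' := zMoves.map el)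
      (C := toC zStab) hokz hsz htop1 hone' h0 (by rw [hzp]; exact hz) fun e he u hu => ?_
    obtain ⟨e', he', rfl⟩ := List.mem_map.mp he
    obtain ⟨u', hu', rfl⟩ := List.mem_map.mp hu
    rw [Subgroup.mem_centralizer_singleton_iff]
    have h4 : ∀ x ∈ [4], x < 5 := by simp
    have h5 := eq_of_same hB (app_lt h4 (dec_lt u')) (app_lt (dec_lt u') h4)
      (List.all_eq_true.mp (List.all_eq_true.mp hcom e' he') u' hu')
    rw [prodw_append, prodw_append, prodw_cons, prodw_nil, mul_one] at h5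
    exact h5.symm
  rw [← Subgroup.mem_centralizer_singleton_iff.mp hmem, mul_assoc, pg_four_sq, mul_one]

theorem runX_z_fix (hB : Bound) {k : P} (h0 : mv pi k 0 = 0) (hz : mv pi k zPt = zPt) (x : X) :
    runX [5, 4, 5, 4, 5, 4] (R k x) = R (pg 4 * k * pg 4) (runX [5, 4, 5, 4, 5, 4] x) := by
  have hs := swap_z h0 hz
  have hstep : ∀ (m : P) (y : X), R (pg 4) (R m y) = R (pg 4 * m * pg 4) (R (pg 4) y) := by
    intro m y
    rw [R_R, R_R, ← mul_assoc, ← mul_assoc, pg_four_sq, one_mul]
  have hback : pg 4 * (pg 4 * k * pg 4) * pg 4 = k := by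
    rw [← mul_assoc, ← mul_assoc, pg_four_sq, one_mul, mul_assoc, pg_four_sq, mul_one]
  simp only [runX, opL, if_true, show (4 : ℕ) ≠ 5 by norm_num, if_false, T_fix hB h0]
  rw [hstep k, T_fix hB hs.1, hstep (pg 4 * k * pg 4), hback, T_fix hB h0, hstep k]

theorem zRep_ok (hB : Bound) {e r : ℕ} (he : e < nE) (hr : r < zCount e) (hr6 : r < 2 ^ 6) :
    runX [5, 4, 5, 4, 5, 4] (mk (oj (edgeJ e)) (el (zRep (zOff e + r)))) =
        mk (oj (edgeJ e)) (el (zRep (zOff e + r))) ∧
      mv pi ((eA e)⁻¹ * el (zRep (zOff e + r))) 0 = 0 := by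
  have h := allR_spec 6 0 (z_ok he).2.2 r (Nat.zero_le _) (by simpa using hr6)
  rw [okZRep, show Nat.blt r (zCount e) = true from Nat.ble_eq_true_of_le hr, cond_true, force_eq,
    Bool.and_eq_true] at h
  refine ⟨runX_of_trace hB (edgeJ_lt he) h.2, ?_⟩
  have hroot : mv pi (el (zRep (zOff e + r)))⁻¹ 0 = root e := by
    refine Fin.ext ?_
    have h2 := mv_prodw (wi_lt (dec_lt (zRep (zOff e + r)))) (0 : Fin 1408)
    rw [prodw_wi (dec_lt _)] at h2
    rw [root_val]
    exact h2.trans (Nat.eq_of_beq_eq_true h.1)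
  rw [mv_mul, show mv pi (eA e)⁻¹ 0 = root e from rfl, ← hroot, ← mv_mul, inv_mul_cancel, mv_one]

theorem zCount_le : ∀ e < nE, zCount e ≤ 64 := by decide +kernel

/-- The relator with `z` at a root moved by an element fixing `0`. -/
theorem rel_z_root (hB : Bound) {e : ℕ} (he : e < nE) :
    ∀ d, ∀ k : P, mv pi k 0 = 0 → Nat.shiftRight (zCode e (mv pi k⁻¹ zPt).val) 24 = d →
      runX [5, 4, 5, 4, 5, 4] (mk (oj (edgeJ e)) (eA e * k)) =
        mk (oj (edgeJ e)) (eA e * k) := by
  intro d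
  induction d using Nat.strong_induction_on with
  | _ d ih =>
    intro k hk hd
    have hw := (z_ok he).2.1 _ (zPt_mem hB (fix_inv hk))
    rw [okZNode, force_eq, force_eq, force_eq, hd] at hw
    set c := zCode e (mv pi k⁻¹ zPt).val with hc
    cases h0 : Nat.beq d 0
    · simp only [h0, cond_false, force_eq, Bool.and_eq_true, Nat.blt_eq] at hw
      obtain ⟨hs, hu, hwalk, hlt⟩ := hw
      set s := Nat.land (Nat.shiftRight c 12) 4095
      set u := Nat.land c 4095
      have hg := (z_ok he).1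
      simp only [okZGens, Bool.and_eq_true, decide_eq_true_eq, List.all_eq_true, List.mem_range] at hg
      have hs' : s < (cGens e).length := hg.1 ▸ hs
      have hsame := hg.2 s hs'
      rw [List.getD_eq_getElem _ _ hs, List.getD_eq_getElem _ _ hs'] at hsame
      rw [List.getD_eq_getElem _ _ hs] at hwalk
      have hA : ∀ x ∈ wA e, x < 5 := dec_lt _
      have hde := eq_of_same hB (dec_lt _) (app_lt (app_lt (wi_lt hA) (dec_lt _)) hA) hsame
      rw [prodw_append, prodw_append, prodw_wi hA] at hde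
      have hde' : el ((zGens e)[s]) = (eA e)⁻¹ * el ((cGens e)[s]) * eA e := hde
      obtain ⟨hcM, hcfix⟩ := mem_StE.mp (cGen_spec hB he (List.getElem_mem hs')).1
      have hd0 : mv pi (el ((zGens e)[s])) 0 = 0 := by
        rw [hde', mv_mul, mv_mul, show mv pi (eA e)⁻¹ 0 = root e from rfl, hcfix, root, ← mv_mul,
          inv_mul_cancel, mv_one]
      have hu' : u < 1408 := by
        have hall : ∀ v ∈ zOrb, v < 1408 := by decide +kernel
        exact hall _ (List.contains_iff_mem.mp hu)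
      have hpoint : mv pi (el ((zGens e)[s]) * k)⁻¹ zPt = ⟨u, hu'⟩ := by
        rw [mul_inv_rev, mv_mul]
        have hw' : mv pi k⁻¹ zPt = mv pi (el ((zGens e)[s])) ⟨u, hu'⟩ := Fin.ext (by
          rw [mv_el]
          exact (Nat.eq_of_beq_eq_true hwalk).symm)
        rw [hw', mv_inv]
      have hk' : mv pi (el ((zGens e)[s]) * k) 0 = 0 := by rw [mv_mul, hd0, hk]
      have e1 := ih _ hlt _ hk' (by rw [hpoint])
      have hmk : mk (oj (edgeJ e)) (eA e * (el ((zGens e)[s]) * k)) =
          mk (oj (edgeJ e)) (eA e * k) := by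
        rw [hde', show eA e * ((eA e)⁻¹ * el ((cGens e)[s]) * eA e * k) =
          el ((cGens e)[s]) * (eA e * k) by group]
        exact mk_left (by rw [oj_val (edgeJ_lt he)]; exact hcM) _
      rwa [hmk] at e1
    · simp only [h0, cond_true, Bool.and_eq_true, Nat.blt_eq] at hw
      obtain ⟨hs, hwalk⟩ := hw
      set s := Nat.land (Nat.shiftRight c 12) 4095
      obtain ⟨hrun, hv0⟩ := zRep_ok hB he hs (lt_of_lt_of_le hs (zCount_le e he))
      set v := (eA e)⁻¹ * el (zRep (zOff e + s)) with hv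
      have hvz : mv pi v⁻¹ zPt = mv pi k⁻¹ zPt := by
        refine Fin.ext ?_
        have h2 := mv_prodw (app_lt (wi_lt (dec_lt (zRep (zOff e + s)))) (dec_lt (dWord (dA (edgeF e)))))
          zPt
        rw [prodw_append, prodw_wi (dec_lt _)] at h2
        rw [hv, mul_inv_rev, inv_inv]
        refine h2.trans ?_
        rw [zPt_val]
        exact Nat.eq_of_beq_eq_true hwalk
      have hc0 : mv pi (v⁻¹ * k) 0 = 0 := by rw [mv_mul, fix_inv hv0, hk]
      have hcz : mv pi (v⁻¹ * k) zPt = zPt := by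
        rw [mv_mul, hvz, ← mv_mul, inv_mul_cancel, mv_one]
      have hrepr : eA e * k = el (zRep (zOff e + s)) * (v⁻¹ * k) := by rw [hv]; group
      rw [hrepr, ← R_mk, runX_z_fix hB hc0 hcz, hrun, commute_z hB hc0 hcz]

theorem rel_z (hB : Bound) (x : X) : runX [5, 4, 5, 4, 5, 4] x = x := by
  obtain ⟨j, h, rfl⟩ := exists_mk x
  obtain ⟨e, he, -, k, hk, hx⟩ := normal_form j h
  rw [hx, R_mk]
  exact rel_z_root hB he _ k hk rfl

end

end CfsgLib.HNCert
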