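import Cfsg.Agent.CosetEnum.Cox
import Cfsg.Prelude.Def_Spor_HN

/-!
The presentation of `Cfsg.Spor.HN` by words in the letters `0, …, 6 = x, x⁻¹, y, y⁻¹, z, t, t⁻¹`,
and the group `P` presented by the relators in the first five letters, with its map into it.
-/

set_option autoImplicit false
set_option linter.constructorNameAsVariable false

namespace CfsgLib.HNCert

open Cfsg.Spor CfsgLib.CosetEnum

noncomputable section

/-- The letters evaluated at values of `x, y, z, t`. -/
def val {K : Type*} [Group K] (x y z t : K) : ℕ → K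
  | 0 => x
  | 1 => x⁻¹
  | 2 => y
  | 3 => y⁻¹
  | 4 => z
  | 5 => t
  | _ => t⁻¹

/-- The relators free of `t` and `t⁻¹`. -/
def relP : List (List ℕ) := [
  [2, 2, 2, 2, 2, 2],
  [0, 0, 2, 0, 0, 3],
  [1, 3, 0, 2, 1, 3, 0, 2, 1, 3, 0, 2],
  [1, 2, 2, 0, 2, 2, 2, 1, 2, 2, 0, 2, 2, 2, 1, 2, 2, 0, 2, 2, 2],
  [0, 2, 0, 2, 0, 2, 0, 2, 0, 2, 0, 2, 0, 2, 0, 2],
  [0, 2, 0, 2, 2, 2, 0, 2, 0, 2, 2, 2, 0, 2, 0, 2, 2, 2, 0, 2, 0, 2, 2, 2],
  [4, 4],
  [4, 0, 4, 0],
  [4, 2, 1, 3, 3, 1, 3, 1, 3, 4, 2, 0, 2, 0, 2, 2, 0, 3, 1, 1],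
  [4, 3, 1, 3, 1, 3, 3, 3, 4, 2, 2, 2, 0, 2, 0, 2, 0, 3, 1, 3, 1, 3, 3, 3, 4, 2, 2, 2, 0, 2, 0,
    2, 0, 3, 1, 3, 1, 3, 3, 3, 4, 2, 2, 2, 0, 2, 0, 2, 0]]

/-- The relators with `t`. -/
def relT : List (List ℕ) := [
  [5, 5, 5, 5, 5],
  [1, 5, 0, 5, 5],
  [6, 3, 5, 2],
  [4, 5, 4, 5, 4, 5]]

/-- The relators of the presentation read as words, when `z` is an involution. -/
theorem extra_eq {K : Type} [Group K] (f : HN.Gen → K) (hz : f .z * f .z = 1) :
    HN.extra.map (FreeGroup.lift f) =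
      (relP ++ relT).map (prodw (val (f .x) (f .y) (f .z) (f .t))) := by
  have hz' : (f .z)⁻¹ = f .z := inv_eq_of_mul_eq_one_right hz
  simp [HN.extra, HN.x, HN.y, HN.z, HN.t, relP, relT, prodw, val, pow_succ, mul_assoc,
    mul_inv_rev, hz']

/-- The generators of `P`. -/
inductive PGen
  | x
  | y
  | z
  deriving DecidableEq

/-- The letters in the free group on three generators. -/
def freeVal : ℕ → FreeGroup PGen :=
  val (FreeGroup.of .x) (FreeGroup.of .y) (FreeGroup.of .z) 1

/-- The group presented by the relators without `t`. -/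
abbrev P : Type := PresentedGroup {r : FreeGroup PGen | r ∈ relP.map (prodw freeVal)}

/-- The letters in `P`. -/
def pg : ℕ → P := val (PresentedGroup.of .x) (PresentedGroup.of .y) (PresentedGroup.of .z) 1

/-- The letters in the group of the presentation. -/
def g : ℕ → Cfsg.Spor.HN :=
  val (PresentedGroup.of HN.Gen.x) (PresentedGroup.of HN.Gen.y) (PresentedGroup.of HN.Gen.z)
    (PresentedGroup.of HN.Gen.t)

theorem map_val {K L : Type*} [Group K] [Group L] (χ : K →* L) (x y z t : K) (i : ℕ) :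
    χ (val x y z t i) = val (χ x) (χ y) (χ z) (χ t) i := by
  match i with
  | 0 | 2 | 4 | 5 => rfl
  | 1 | 3 | 6 => exact map_inv χ _
  | _ + 7 => exact map_inv χ _

theorem map_prodw {K L : Type*} [Group K] [Group L] (χ : K →* L) (v : ℕ → K) (w : List ℕ) :
    χ (prodw v w) = prodw (fun i => χ (v i)) w := by
  simp only [prodw, map_list_prod, List.map_map]
  rfl

theorem prodw_congr {K : Type*} [Group K] {v v' : ℕ → K} {w : List ℕ}
    (h : ∀ i ∈ w, v i = v' i) : prodw v w = prodw v' w := by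
  simp only [prodw]
  congr 1
  exact List.map_congr_left h

theorem pg_rel : ∀ w ∈ relP, prodw pg w = 1 := by
  intro w hw
  have h : PresentedGroup.mk {r : FreeGroup PGen | r ∈ relP.map (prodw freeVal)} (prodw freeVal w) = 1 :=
    PresentedGroup.one_of_mem (List.mem_map_of_mem hw)
  rw [map_prodw] at h
  rw [← h]
  refine prodw_congr fun i _ => ?_
  unfold freeVal
  refine Eq.trans ?_ (map_val _ _ _ _ _ i).symm
  rfl

/-- A valuation of `x, y, z` satisfying the relators extends to `P`. -/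
theorem exists_lift {K : Type*} [Group K] (x y z : K)
    (h : ∀ w ∈ relP, prodw (val x y z 1) w = 1) :
    ∃ χ : P →* K, ∀ i, χ (pg i) = val x y z 1 i := by
  let f : PGen → K := fun a => match a with
    | .x => x
    | .y => y
    | .z => z
  refine ⟨PresentedGroup.toGroup (f := f) ?_, fun i => ?_⟩
  · intro r hr
    obtain ⟨w, hw, rfl⟩ := List.mem_map.mp (show r ∈ relP.map (prodw freeVal) from hr)
    rw [map_prodw, ← h w hw]
    refine prodw_congr fun i _ => ?_
    simp only [freeVal, map_val, map_one, FreeGroup.lift_apply_of]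
    rfl
  · simp only [pg, map_val, map_one, PresentedGroup.toGroup.of]
    rfl

theorem g_rel : ∀ w ∈ relP ++ relT, prodw g w = 1 := by
  intro w hw
  have hzz : (PresentedGroup.of HN.Gen.z : Cfsg.Spor.HN) * PresentedGroup.of HN.Gen.z = 1 := by
    have h := PresentedGroup.one_of_mem (rels := coxRelators HN.edges ∪ {r | r ∈ HN.extra})
      (x := HN.z ^ 2) (Or.inr (by simp [HN.extra]))
    rw [pow_two, map_mul] at h
    exact h
  have h := extra_eq (K := Cfsg.Spor.HN) (fun y => PresentedGroup.of y) hzz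
  have hlift : FreeGroup.lift (fun y => (PresentedGroup.of y : Cfsg.Spor.HN)) =
      PresentedGroup.mk (coxRelators HN.edges ∪ {r | r ∈ HN.extra}) := by
    ext y
    simp [PresentedGroup.of]
  have hmem : prodw g w ∈ (relP ++ relT).map (prodw g) := List.mem_map_of_mem hw
  rw [g, ← h, List.mem_map] at hmem
  obtain ⟨r, hr, he⟩ := hmem
  rw [show prodw g w = _ from he.symm, hlift]
  exact PresentedGroup.one_of_mem (Or.inr hr)

/-- A valuation satisfying the words respects the presentation. -/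
theorem lift_eq_one {K : Type} [Group K] (f : HN.Gen → K)
    (h : ∀ w ∈ relP ++ relT, prodw (val (f .x) (f .y) (f .z) (f .t)) w = 1) :
    ∀ r ∈ coxRelators HN.edges ∪ {r | r ∈ HN.extra}, FreeGroup.lift f r = 1 := by
  have hz : f .z * f .z = 1 := by
    simpa [prodw, val] using h [4, 4] (by simp [relP])
  rintro r (⟨p, hp, -⟩ | hr)
  · simp [coxNodes, HN.edges] at hp
  · have hm : FreeGroup.lift f r ∈ HN.extra.map (FreeGroup.lift f) := List.mem_map_of_mem hr
    rw [extra_eq f hz] at hm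
    obtain ⟨w, hw, hw'⟩ := List.mem_map.mp hm
    rw [← hw']
    exact h w hw

theorem exists_emb : ∃ χ : P →* Cfsg.Spor.HN, ∀ i, i < 5 → χ (pg i) = g i := by
  have hlt : ∀ w ∈ relP, ∀ i ∈ w, i < 5 := by decide +kernel
  obtain ⟨χ, hχ⟩ := exists_lift (g 0) (g 2) (g 4) (fun w hw => by
    rw [← g_rel w (List.mem_append_left _ hw)]
    refine prodw_congr fun i hi => ?_
    have := hlt w hw i hi
    interval_cases i <;> rfl)
  exact ⟨χ, fun i hi => by rw [hχ]; interval_cases i <;> rfl⟩

/-- The map of `P` into the group of the presentation. -/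
def emb : P →* Cfsg.Spor.HN := exists_emb.choose

theorem emb_pg {i : ℕ} (hi : i < 5) : emb (pg i) = g i := exists_emb.choose_spec i hi

theorem emb_prodw {w : List ℕ} (hw : ∀ i ∈ w, i < 5) : emb (prodw pg w) = prodw g w := by
  rw [map_prodw]
  exact prodw_congr fun i hi => emb_pg (hw i hi)

end

end CfsgLib.HNCert
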