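import Cfsg.Agent.HNCert.Words
import Cfsg.Agent.HNCert.SimpleData
import Cfsg.Prelude.Def_Sporadic

/-!
Simplicity: the action on the positions is primitive by the lengths of the nine suborbits, and
the group is generated by elements of order 19.
-/

set_option autoImplicit false
set_option Elab.async false
set_option maxRecDepth 100000
set_option linter.style.haveILetI false

namespace CfsgLib.HNCert

open CfsgLib.CosetEnum

noncomputable section

/-- The word of `p * t`. -/
def ptWord (i : ℕ) : List ℕ := pWords.getD i [] ++ [5]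

/-- The traces of a 19th power. -/
def okPow (i : ℕ) : Bool :=
  (pWords.getD i []).all (fun x => Nat.blt x 5) && (decide ((trPow.getD i []).length = 5) &&
    ((List.range 5).all fun k =>
      okTrace (starts.getD k (0, 0)).1 (starts.getD k (0, 0)).2
        (List.replicate 19 (ptWord i)).flatten ((trPow.getD i []).getD k ([], []))))

theorem pow_ok0 : okPow 0 = true := by decide +kernel

theorem pow_ok1 : okPow 1 = true := by decide +kernel

theorem pow_ok2 : okPow 2 = true := by decide +kernel

/-- The word of a quotient of two of the `p`, or of its inverse. -/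
def dWordP (k : ℕ) : List ℕ :=
  bif Nat.blt k 2 then wi (pWords.getD 0 []) ++ pWords.getD (k + 1) []
  else wi (pWords.getD (k - 1) []) ++ pWords.getD 0 []

/-- The generators are products of quotients. -/
def okWitP : Bool :=
  decide (pWords.length = 3) && (List.range 3).all fun i =>
    (pWit.getD i []).all (fun k => Nat.blt k 4) &&
      same ([[0], [2], [4]].getD i []) ((pWit.getD i []).flatMap dWordP)

theorem wit_ok : okWitP = true := by decide +kernel

theorem pWords_lt : ∀ i < 3, ∀ x ∈ pWords.getD i [], x < 5 := by decide +kernel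

theorem prodw_replicate' {G : Type*} [Group G] (v : ℕ → G) (w : List ℕ) :
    ∀ m, prodw v (List.replicate m w).flatten = prodw v w ^ m := by
  intro m
  induction m with
  | zero => simp [prodw]
  | succ m ih => rw [List.replicate_succ, List.flatten_cons, prodw_append, ih, pow_succ']

theorem pow19 (hB : Bound) {i : ℕ} (hi : i < 3) : prodw g (ptWord i) ^ 19 = 1 := by
  have h : okPow i = true := by
    interval_cases i
    exacts [pow_ok0, pow_ok1, pow_ok2]
  simp only [okPow, Bool.and_eq_true, decide_eq_true_eq, List.all_eq_true, List.mem_range,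
    Nat.blt_eq] at h
  obtain ⟨hp, -, htr⟩ := h
  rw [← prodw_replicate']
  refine prodw_eq_one hB ?_ fun s hs => ?_
  · intro x hx
    obtain ⟨l, hl, hxl⟩ := List.mem_flatten.mp hx
    rw [List.eq_of_mem_replicate hl, ptWord, List.mem_append, List.mem_singleton] at hxl
    rcases hxl with h | h
    · exact lt_trans (hp x h) (by norm_num)
    · omega
  · obtain ⟨k, hk, rfl⟩ := List.getElem_of_mem hs
    have h5 : k < 5 := hk
    have := htr k h5
    rw [List.getD_eq_getElem _ _ hk] at this
    exact runX_of_trace hB (by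
      have hj : ∀ s ∈ starts, s.1 < 9 := by decide +kernel
      exact hj _ (List.getElem_mem hk)) this

/-- A set of suborbits with the first whose total length divides the degree is the first alone or
all of them. -/
theorem suborbit_arith : ∀ J : Finset (Fin 9), (0 : Fin 9) ∈ J →
    (∑ j ∈ J, sSize j.val) ∣ 1539000 → J = {0} ∨ J = Finset.univ := by
  decide +kernel

theorem normal_eq_top (hB : Bound) (N : Subgroup Cfsg.Spor.HN) [N.Normal] (hN : N ≠ ⊥) :
    N = ⊤ := by
  classical
  have := hB.1
  have := finite_HN hB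
  have : Finite X := Nat.finite_of_card_ne_zero (by rw [card_X hB]; norm_num)
  letI : MulAction Cfsg.Spor.HN X := MulAction.compHom _ (phi hB)
  have : MulAction.IsPretransitive Cfsg.Spor.HN X := MulAction.IsPretransitive.mk fun a b => by
    obtain ⟨u, hu⟩ := reach hB a
    obtain ⟨v, hv⟩ := reach hB b
    refine ⟨v * u⁻¹, ?_⟩
    show phi hB (v * u⁻¹) a = b
    rw [map_mul, map_inv, Equiv.Perm.mul_apply, ← hu, Equiv.Perm.inv_def, Equiv.symm_apply_apply, hv]
  set B := MulAction.orbit N x0 with hBdef
  have hblock : MulAction.IsBlock Cfsg.Spor.HN B :=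
    MulAction.IsBlock.orbit_of_normal (G := Cfsg.Spor.HN) (N := N) x0
  have hdvd := hblock.ncard_dvd_card ⟨x0, MulAction.mem_orbit_self _⟩
  rw [card_X hB] at hdvd
  have hinv : ∀ (p : P) (x : X), x ∈ B → rho p x ∈ B := by
    rintro p _ ⟨⟨m, hm⟩, rfl⟩
    refine ⟨⟨emb p * m * (emb p)⁻¹, ‹N.Normal›.conj_mem m hm _⟩, ?_⟩
    show phi hB (emb p * m * (emb p)⁻¹) x0 = rho p (phi hB m x0)
    rw [map_mul, map_mul, map_inv, phi_emb, Equiv.Perm.mul_apply, Equiv.Perm.mul_apply,
      show (rho p)⁻¹ x0 = x0 by rw [← map_inv, rho_x0]]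
  have hfib : ∀ (j : Fin 9) (q q' : P ⧸ M j.val), (⟨j, q⟩ : X) ∈ B → (⟨j, q'⟩ : X) ∈ B := by
    intro j q q' h
    induction q using QuotientGroup.induction_on with
    | _ a =>
      induction q' using QuotientGroup.induction_on with
      | _ b =>
        have := hinv (b * a⁻¹) _ h
        have e : rho (b * a⁻¹) (⟨j, (a : P ⧸ M j.val)⟩ : X) = ⟨j, (b : P ⧸ M j.val)⟩ := by
          show (⟨j, (b * a⁻¹) • (a : P ⧸ M j.val)⟩ : X) = _
          rw [MulAction.Quotient.smul_coe, smul_eq_mul, inv_mul_cancel_right]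
        rwa [e] at this
  let J : Finset (Fin 9) := Finset.univ.filter fun j => ∃ q, (⟨j, q⟩ : X) ∈ B
  have hmem : ∀ x : X, x ∈ B ↔ x.1 ∈ J := by
    rintro ⟨j, q⟩
    simp only [J, Finset.mem_filter, Finset.mem_univ, true_and]
    exact ⟨fun h => ⟨q, h⟩, fun ⟨q', h⟩ => hfib j q' q h⟩
  have hncard : B.ncard = ∑ j ∈ J, sSize j.val := by
    haveI : ∀ j : Fin 9, Fintype (P ⧸ M j.val) := fun j => Fintype.ofFinite _
    have hset : B = ↑(J.sigma fun j => (Finset.univ : Finset (P ⧸ M j.val))) := by
      ext x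
      rw [Finset.mem_coe, Finset.mem_sigma]
      exact (hmem x).trans ⟨fun h => ⟨h, Finset.mem_univ _⟩, fun h => h.1⟩
    rw [hset, Set.ncard_coe_finset, Finset.card_sigma]
    refine Finset.sum_congr rfl fun j _ => ?_
    rw [Finset.card_univ, ← Nat.card_eq_fintype_card]
    exact index_M hB j.isLt
  rw [hncard] at hdvd
  rcases suborbit_arith J ((hmem x0).mp (MulAction.mem_orbit_self _)) hdvd with h | h
  · refine absurd ?_ hN
    rw [eq_bot_iff]
    intro m hm
    rw [Subgroup.mem_bot]
    apply phi_injective hB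
    rw [map_one]
    refine Equiv.ext fun x => ?_
    obtain ⟨z, rfl⟩ := reach hB x
    have hm' : z⁻¹ * m * z ∈ N := by simpa using ‹N.Normal›.conj_mem m hm z⁻¹
    have h1 : phi hB (z⁻¹ * m * z) x0 ∈ B := ⟨⟨_, hm'⟩, rfl⟩
    rw [hmem, h, Finset.mem_singleton] at h1
    have h2 : phi hB (z⁻¹ * m * z) x0 = x0 := by
      generalize phi hB (z⁻¹ * m * z) x0 = y at h1
      obtain ⟨j, q⟩ := y
      obtain rfl : j = 0 := h1
      refine Sigma.ext rfl (heq_of_eq ?_)
      induction q using QuotientGroup.induction_on with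
      | _ a =>
        show (a : P ⧸ M ((0 : Fin 9).val)) = ((1⁻¹ : P) : P ⧸ M ((0 : Fin 9).val))
        rw [QuotientGroup.eq, show M ((0 : Fin 9).val) = ⊤ from M_zero]
        exact Subgroup.mem_top _
    rw [map_mul, map_mul, map_inv, Equiv.Perm.mul_apply, Equiv.Perm.mul_apply,
      Equiv.Perm.inv_eq_iff_eq] at h2
    exact h2
  have h19N : 19 ∣ Nat.card N := by
    have h' := MulAction.index_stabilizer N x0
    rw [← hBdef, hncard, h, show (∑ j : Fin 9, sSize j.val) = 1539000 by decide +kernel] at h'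
    have := Subgroup.index_dvd_card (MulAction.stabilizer N x0)
    rw [h'] at this
    exact (show 19 ∣ 1539000 by norm_num).trans this
  have hidx : ¬ 19 ∣ Nat.card (Cfsg.Spor.HN ⧸ N) := by
    intro hd
    have hc := Subgroup.card_eq_card_quotient_mul_card_subgroup N
    have h361 : 19 * 19 ∣ Nat.card Cfsg.Spor.HN := hc ▸ Nat.mul_dvd_mul hd h19N
    rw [card_HN hB] at h361
    exact absurd h361 (by norm_num)
  have hpow : ∀ y : Cfsg.Spor.HN, y ^ 19 = 1 → y ∈ N := by
    intro y hy
    rw [← QuotientGroup.eq_one_iff y, ← orderOf_eq_one_iff]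
    rcases (Nat.dvd_prime (show Nat.Prime 19 by norm_num)).mp (orderOf_dvd_of_pow_eq_one
      (show (y : Cfsg.Spor.HN ⧸ N) ^ 19 = 1 by rw [← QuotientGroup.mk_pow, hy]; rfl)) with h | h
    · exact h
    · exact absurd (h ▸ orderOf_dvd_natCard (y : Cfsg.Spor.HN ⧸ N)) hidx
  have hw : ∀ i < 3, emb (prodw pg (pWords.getD i [])) * g 5 ∈ N := fun i hi => by
    have := hpow _ (pow19 hB hi)
    rw [ptWord, prodw_append, prodw_cons, prodw_nil, mul_one, ← emb_prodw (pWords_lt i hi)] at this
    exact this
  have hd : ∀ k < 4, emb (prodw pg (dWordP k)) ∈ N := by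
    intro k hk
    have key : ∀ a b, a < 3 → b < 3 →
        emb (prodw pg (wi (pWords.getD a []) ++ pWords.getD b [])) ∈ N := by
      intro a b ha hb
      rw [prodw_append, prodw_wi (pWords_lt a ha), map_mul, map_inv]
      have h2 := mul_mem (hw b hb) (inv_mem (hw a ha))
      have h3 := ‹N.Normal›.conj_mem _ h2 (emb (prodw pg (pWords.getD a [])))⁻¹
      simpa [mul_assoc] using h3
    rw [dWordP]
    cases hk2 : Nat.blt k 2
    · have h2 : 2 ≤ k := by
        by_contra hlt
        have hh : Nat.blt k 2 = true := Nat.ble_eq_true_of_le (by omega)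
        rw [hh] at hk2
        exact Bool.false_ne_true hk2.symm
      exact key (k - 1) 0 (by omega) (by norm_num)
    · have h2 : k < 2 := Nat.le_of_ble_eq_true hk2
      exact key 0 (k + 1) (by norm_num) (by omega)
  have hok := wit_ok
  simp only [okWitP, Bool.and_eq_true, decide_eq_true_eq, List.all_eq_true, List.mem_range,
    Nat.blt_eq] at hok
  have hgen : ∀ i < 3, emb (prodw pg ([[0], [2], [4]].getD i [])) ∈ N := by
    intro i hi
    obtain ⟨hk, hsame⟩ := hok.2 i hi
    have hflt : ∀ L : List ℕ, (∀ k ∈ L, k < 4) → ∀ x ∈ L.flatMap dWordP, x < 5 := by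
      intro L hL x hx
      obtain ⟨k, hk, hxk⟩ := List.mem_flatMap.mp hx
      have := hL k hk
      have hall : ∀ k < 4, ∀ x ∈ dWordP k, x < 5 := by decide +kernel
      exact hall k this x hxk
    have hlt : ∀ x ∈ ([[0], [2], [4]] : List (List ℕ)).getD i [], x < 5 := by
      interval_cases i <;> simp
    rw [eq_of_same hB hlt (hflt _ hk) hsame]
    generalize pWit.getD i [] = L at hk
    induction L with
    | nil => rw [List.flatMap_nil, prodw_nil, map_one]; exact one_mem _
    | cons k L ih =>
      rw [List.flatMap_cons, prodw_append, map_mul]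
      exact mul_mem (hd k (hk k List.mem_cons_self)) (ih fun x hx => hk x (List.mem_cons_of_mem _ hx))
  have hN' : KH ≤ N := by
    rintro _ ⟨p, rfl⟩
    have hp : p ∈ N.comap emb := by
      have htop : (⊤ : Subgroup P) ≤ N.comap emb := by
        rw [← PresentedGroup.closure_range_of, Subgroup.closure_le]
        rintro _ ⟨a, rfl⟩
        cases a
        · simpa [prodw, pg, val] using hgen 0 (by norm_num)
        · simpa [prodw, pg, val] using hgen 1 (by norm_num)
        · simpa [prodw, pg, val] using hgen 2 (by norm_num)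
      exact htop (Subgroup.mem_top p)
    exact hp
  rw [eq_top_iff, ← PresentedGroup.closure_range_of, Subgroup.closure_le]
  rintro _ ⟨a, rfl⟩
  have hxyz : ∀ x < 5, g x ∈ N := fun x hx => hN' ⟨pg x, emb_pg hx⟩
  cases a
  · exact hxyz 0 (by norm_num)
  · exact hxyz 2 (by norm_num)
  · exact hxyz 4 (by norm_num)
  · have := mul_mem (inv_mem (hN' ⟨prodw pg (pWords.getD 0 []), rfl⟩)) (hw 0 (by norm_num))
    rwa [inv_mul_cancel_left] at this

/-- The presented group is simple of the expected order. -/
theorem isHN (hB : Bound) : Cfsg.IsHN Cfsg.Spor.HN := by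
  have := finite_HN hB
  refine ⟨?_, card_HN hB⟩
  have : Nontrivial Cfsg.Spor.HN := Finite.one_lt_card_iff_nontrivial.mp (by rw [card_HN hB]; norm_num)
  exact ⟨fun N hN => by
    by_cases h : N = ⊥
    · exact Or.inl h
    · exact Or.inr (@normal_eq_top hB N hN h)⟩

/-- The subgroup generated by the words `x, y, z` is the image of `P`. -/
theorem words_map_eq :
    (Subgroup.closure ({Cfsg.Spor.HN.x, Cfsg.Spor.HN.y, Cfsg.Spor.HN.z} :
        Set (FreeGroup Cfsg.Spor.HN.Gen))).map
      (PresentedGroup.mk (Cfsg.Spor.coxRelators Cfsg.Spor.HN.edges ∪ {r | r ∈ Cfsg.Spor.HN.extra})) =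
      KH := by
  refine le_antisymm ?_ ?_
  · rw [Subgroup.map_le_iff_le_comap, Subgroup.closure_le]
    rintro r (rfl | rfl | rfl)
    · exact ⟨pg 0, emb_pg (by norm_num)⟩
    · exact ⟨pg 2, emb_pg (by norm_num)⟩
    · exact ⟨pg 4, emb_pg (by norm_num)⟩
  · rintro _ ⟨p, rfl⟩
    have htop : (⊤ : Subgroup P) ≤ ((Subgroup.closure ({Cfsg.Spor.HN.x, Cfsg.Spor.HN.y,
        Cfsg.Spor.HN.z} : Set (FreeGroup Cfsg.Spor.HN.Gen))).map (PresentedGroup.mk
          (Cfsg.Spor.coxRelators Cfsg.Spor.HN.edges ∪ {r | r ∈ Cfsg.Spor.HN.extra}))).comap emb := by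
      rw [← PresentedGroup.closure_range_of, Subgroup.closure_le]
      rintro _ ⟨a, rfl⟩
      cases a
      · exact ⟨Cfsg.Spor.HN.x, Subgroup.subset_closure (Or.inl rfl), (emb_pg (i := 0) (by norm_num)).symm⟩
      · exact ⟨Cfsg.Spor.HN.y, Subgroup.subset_closure (Or.inr (Or.inl rfl)),
          (emb_pg (i := 2) (by norm_num)).symm⟩
      · exact ⟨Cfsg.Spor.HN.z, Subgroup.subset_closure (Or.inr (Or.inr rfl)),
          (emb_pg (i := 4) (by norm_num)).symm⟩
    exact htop (Subgroup.mem_top p)

end

end CfsgLib.HNCert
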