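import Cfsg.Agent.HNCert.Model
import Cfsg.Agent.HNCert.TraceData

/-!
The traces of the relators with `t` check.
-/

set_option autoImplicit false
set_option Elab.async false
set_option maxRecDepth 100000

namespace CfsgLib.HNCert

open CfsgLib.CosetEnum

noncomputable section

/-- The traces of the fifth power of `t` and of the relator with `x` at a root. -/
def okRoot (e : ℕ) : Bool :=
  bif Nat.blt e nE then
    okTrace (edgeJ e) (dWord (dA (edgeF e))) [5, 5, 5, 5, 5] (trFive e) &&
      okTrace (edgeJ e) (dWord (dA (edgeF e))) [5, 0, 5, 5, 1] (trX e)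
  else true

/-- The starting point of a trace of the relator with `z`, and the trace. -/
def okZRep (e r : ℕ) : Bool :=
  bif Nat.blt r (zCount e) then
    force (Nat.add (zOff e) r) fun i =>
      Nat.beq (walk (wi (dec (zRep i))) 0) (rootN e) &&
        okTrace (edgeJ e) (zRep i) [5, 4, 5, 4, 5, 4] (trZ i)
  else true

/-- The generators on the suborbit come from the stabiliser of the root. -/
def okZGens (e : ℕ) : Bool :=
  decide ((zGens e).length = (cGens e).length) &&
    (List.range (cGens e).length).all fun i =>
      same (dec ((zGens e).getD i 0)) (wi (wA e) ++ dec ((cGens e).getD i 0) ++ wA e)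

/-- The point of the forest below a suborbit point. -/
def zCode (e : ℕ) (u : ℕ) : ℕ := (zTree e).getD (zOrb.idxOf u) 0

/-- A point of the suborbit in the forest. -/
def okZNode (e w : ℕ) : Bool :=
  force (zCode e w) fun c => force (Nat.shiftRight c 24) fun d =>
    force (Nat.land (Nat.shiftRight c 12) 4095) fun s =>
      bif Nat.beq d 0 then
        Nat.blt s (zCount e) && Nat.beq
          (walk (wi (dec (zRep (Nat.add (zOff e) s))) ++ wA e) (img 4 0)) w
      else
        force (Nat.land c 4095) fun u =>
          Nat.blt s (zGens e).length && (zOrb.contains u &&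
            (Nat.beq (walk (dec ((zGens e).getD s 0)) u) w &&
              Nat.blt (Nat.shiftRight (zCode e u) 24) d))

/-- The checks for a class. -/
def okZ (e : ℕ) : Bool :=
  bif Nat.blt e nE then
    okZGens e && (zOrb.all (okZNode e) && allR (okZRep e) 6 0)
  else true

theorem root_ok0 : allR okRoot 6 0 = true := by decide +kernel

theorem root_ok1 : allR okRoot 6 64 = true := by decide +kernel

theorem z_ok0 : allR okZ 4 0 = true := by decide +kernel

theorem z_ok1 : allR okZ 4 16 = true := by decide +kernel

theorem z_ok2 : allR okZ 4 32 = true := by decide +kernel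

theorem z_ok3 : allR okZ 4 48 = true := by decide +kernel

theorem z_ok4 : allR okZ 4 64 = true := by decide +kernel

theorem z_ok5 : allR okZ 4 80 = true := by decide +kernel

theorem z_ok6 : allR okZ 4 96 = true := by decide +kernel

theorem root_ok {e : ℕ} (he : e < nE) :
    okTrace (edgeJ e) (dWord (dA (edgeF e))) [5, 5, 5, 5, 5] (trFive e) = true ∧
      okTrace (edgeJ e) (dWord (dA (edgeF e))) [5, 0, 5, 5, 1] (trX e) = true := by
  have hn : nE ≤ 112 := by decide
  have h : okRoot e = true := by
    rcases Nat.lt_or_ge e 64 with h | h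
    · exact allR_spec 6 0 root_ok0 e (Nat.zero_le _) (by omega)
    · exact allR_spec 6 64 root_ok1 e h (by omega)
  rw [okRoot, show Nat.blt e nE = true from Nat.ble_eq_true_of_le he, cond_true,
    Bool.and_eq_true] at h
  exact h

theorem z_ok {e : ℕ} (he : e < nE) :
    okZGens e = true ∧ (∀ w ∈ zOrb, okZNode e w = true) ∧ allR (okZRep e) 6 0 = true := by
  have hn : nE ≤ 112 := by decide
  have h : okZ e = true := by
    rcases Nat.lt_or_ge e 16 with h | h
    · exact allR_spec 4 0 z_ok0 e (Nat.zero_le _) h
    rcases Nat.lt_or_ge e 32 with h' | h'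
    · exact allR_spec 4 16 z_ok1 e h h'
    rcases Nat.lt_or_ge e 48 with h'' | h''
    · exact allR_spec 4 32 z_ok2 e h' h''
    rcases Nat.lt_or_ge e 64 with h4 | h4
    · exact allR_spec 4 48 z_ok3 e h'' h4
    rcases Nat.lt_or_ge e 80 with h5 | h5
    · exact allR_spec 4 64 z_ok4 e h4 h5
    rcases Nat.lt_or_ge e 96 with h6 | h6
    · exact allR_spec 4 80 z_ok5 e h5 h6
    · exact allR_spec 4 96 z_ok6 e h6 (lt_of_lt_of_le he hn)
  rw [okZ, show Nat.blt e nE = true from Nat.ble_eq_true_of_le he, cond_true, Bool.and_eq_true,
    Bool.and_eq_true, List.all_eq_true] at h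
  exact h

end

end CfsgLib.HNCert
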