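import Cfsg.Agent.HNCert.Check

/-!
The right cosets of `K` lie in nine orbits of `P`, at most 1539000 of them in all.
-/

set_option autoImplicit false
set_option Elab.async false
set_option maxRecDepth 100000

namespace CfsgLib.HNCert

open CfsgLib.CosetEnum

noncomputable section

/-- The left coset attached to the right coset of `y`. -/
def Q (y : Cfsg.Spor.HN) : Cfsg.Spor.HN ⧸ KH := ((y⁻¹ : Cfsg.Spor.HN) : Cfsg.Spor.HN ⧸ KH)

theorem Q_eq {a b : Cfsg.Spor.HN} : Q a = Q b ↔ a * b⁻¹ ∈ KH := by
  rw [Q, Q, QuotientGroup.eq, inv_inv]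

theorem smul_Q (z y : Cfsg.Spor.HN) : z⁻¹ • Q y = Q (y * z) := by
  rw [Q, Q, MulAction.Quotient.smul_coe, smul_eq_mul, mul_inv_rev]

/-- The translate starting an orbit. -/
def base (j : ℕ) : Cfsg.Spor.HN := prodw g (cert.rep (srep j))

/-- The coset of a position. -/
def F (j : ℕ) (h : P) : Cfsg.Spor.HN ⧸ KH := Q (base j * emb h)

/-- The stabiliser of an orbit start. -/
def SS (j : ℕ) : Subgroup P :=
  KH.comap ((MulAut.conj (base j)).toMonoidHom.comp emb)

theorem mem_SS {j : ℕ} {h : P} : h ∈ SS j ↔ base j * emb h * (base j)⁻¹ ∈ KH := Iff.rfl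

theorem F_left {j : ℕ} {s : P} (hs : s ∈ SS j) (h : P) : F j (s * h) = F j h := by
  rw [F, F, Q_eq, map_mul]
  have := mem_SS.mp hs
  simpa [mul_assoc] using this

/-- A generator of a stabiliser comes from a fact. -/
def okGen (j : ℕ) (e : ℕ × ℕ) : Bool :=
  Nat.blt e.1 nF && (Nat.beq (cert.kind e.1) 0 && (Nat.beq (cert.fI e.1) (srep j) &&
    (Nat.beq (cert.fK e.1) (srep j) &&
      same (dec e.2) (cert.wd (cert.fA e.1) ++ wi (cert.wd (cert.fB e.1))))))

theorem gens_ok : ∀ j < 9, (sGens j).all (okGen j) = true := by decide +kernel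

theorem gen_mem (hB : Bound) {j : ℕ} (hj : j < 9) {e : ℕ × ℕ} (he : e ∈ sGens j) :
    el e.2 ∈ SS j := by
  have h := List.all_eq_true.mp (gens_ok j hj) e he
  simp only [okGen, Bool.and_eq_true, Nat.blt_eq] at h
  obtain ⟨hf, hk, hI, hK, hw⟩ := h
  have hS := says_of_check hB cert_ok _ hf
  rw [Says, Nat.eq_of_beq_eq_true hk, if_neg (by norm_num), mul_one, Cert.pos, Cert.pos,
    Nat.eq_of_beq_eq_true hI, Nat.eq_of_beq_eq_true hK] at hS
  have e' := eq_of_same hB (dec_lt _) (app_lt (cert.wd_lt _) (wi_lt (cert.wd_lt _))) hw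
  rw [prodw_append, prodw_wi (cert.wd_lt _)] at e'
  rw [mem_SS, el, e', map_mul, map_inv, base]
  simpa [mul_assoc, el, Cert.wd] using hS

/-- An element of a stabiliser as a list of generators. -/
def genWord (j : ℕ) (L : List ℕ) : List ℕ := L.flatMap fun i => dec ((sGens j).getD i (0, 0)).2

theorem genWord_lt (j : ℕ) (L : List ℕ) : ∀ x ∈ genWord j L, x < 5 := by
  intro x hx
  obtain ⟨i, -, hi⟩ := List.mem_flatMap.mp hx
  exact dec_lt _ x hi

theorem genWord_mem (hB : Bound) {j : ℕ} (hj : j < 9) :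
    ∀ L : List ℕ, (∀ i ∈ L, i < (sGens j).length) → prodw pg (genWord j L) ∈ SS j
  | [], _ => by rw [genWord, List.flatMap_nil, prodw_nil]; exact one_mem _
  | i :: L, h => by
    rw [genWord, List.flatMap_cons, prodw_append]
    refine mul_mem ?_ (genWord_mem hB hj L fun k hk => h k (List.mem_cons_of_mem _ hk))
    have hi := h i List.mem_cons_self
    rw [List.getD_eq_getElem _ _ hi]
    exact gen_mem hB hj (List.getElem_mem hi)

/-- The transversals of a stabiliser. -/
def sC (j : ℕ) : List (Fin 1408 × List P) :=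
  (sChain j).map fun e => (pt e.1, e.2.map fun L => prodw pg (genWord j L))

/-- The check of a transversal chain. -/
def okS (j : ℕ) : List (ℕ × List (List ℕ)) → Bool
  | [] => true
  | (b, L) :: D => Nat.blt b 1408 && (L.all (fun u => u.all fun i => Nat.blt i (sGens j).length) &&
      (distinct (L.map fun u => walk (genWord j u) b) 0 &&
        ((D.all fun e => e.2.all fun u => Nat.beq (walk (genWord j u) b) b) && okS j D)))

theorem okS0 : okS 0 (sChain 0) = true := by decide +kernel

theorem okS1 : okS 1 (sChain 1) = true := by decide +kernel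

theorem okS2 : okS 2 (sChain 2) = true := by decide +kernel

theorem okS3 : okS 3 (sChain 3) = true := by decide +kernel

theorem okS4 : okS 4 (sChain 4) = true := by decide +kernel

theorem okS5 : okS 5 (sChain 5) = true := by decide +kernel

theorem okS6 : okS 6 (sChain 6) = true := by decide +kernel

theorem okS7 : okS 7 (sChain 7) = true := by decide +kernel

theorem okS8 : okS 8 (sChain 8) = true := by decide +kernel

theorem okS_all : ∀ j < 9, okS j (sChain j) = true := by
  intro j hj
  interval_cases j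
  exacts [okS0, okS1, okS2, okS3, okS4, okS5, okS6, okS7, okS8]

theorem size_all : ∀ j < 9, 0 < j →
    sSize j * ((sChain j).map fun e => e.2.length).prod = 177408000 := by decide +kernel

theorem ok_sC (hB : Bound) {j : ℕ} (hj : j < 9) : ∀ D : List (ℕ × List (List ℕ)), okS j D = true →
    Ok pi (D.map fun e => (pt e.1, e.2.map fun L => prodw pg (genWord j L))) ∧
      ∀ e ∈ D, ∀ u ∈ e.2, prodw pg (genWord j u) ∈ SS j
  | [], _ => ⟨trivial, by simp⟩
  | (b, L) :: D, h => by
    simp only [okS, Bool.and_eq_true, Nat.blt_eq, List.all_eq_true] at h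
    obtain ⟨hb, hi, hn', hf, hD⟩ := h
    have hn := (distinct_spec _ _ hn').1
    obtain ⟨h1, h2⟩ := ok_sC hB hj D hD
    refine ⟨⟨?_, ?_, h1⟩, ?_⟩
    · refine List.Nodup.of_map (fun i : Fin 1408 => i.val) ?_
      rw [List.map_map, List.map_map]
      convert hn using 2
      funext u
      show (mv pi (prodw pg (genWord j u)) (pt b)).val = _
      rw [mv_prodw (genWord_lt j u), pt_val hb]
    · intro e he u hu
      obtain ⟨e', he', rfl⟩ := List.mem_map.mp he
      obtain ⟨u', hu', rfl⟩ := List.mem_map.mp hu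
      refine Fin.ext ?_
      rw [mv_prodw (genWord_lt j u'), pt_val hb]
      exact Nat.eq_of_beq_eq_true (hf e' he' u' hu')
    · intro e he u hu
      rcases List.mem_cons.mp he with rfl | he
      exacts [genWord_mem hB hj u (hi u hu), h2 e he u hu]

theorem le_card_SS (hB : Bound) {j : ℕ} (hj : j < 9) :
    177408000 ≤ sSize j * Nat.card (SS j) := by
  have := hB.1
  rcases Nat.eq_zero_or_pos j with rfl | hpos
  · have htop : SS 0 = ⊤ := by
      rw [eq_top_iff]
      intro h _
      rw [mem_SS, base, srep_zero, cert.rep_zero, prodw_nil, one_mul, inv_one, mul_one]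
      exact ⟨h, rfl⟩
    rw [htop, Subgroup.card_top, card_P hB, show sSize 0 = 1 from rfl, one_mul]
  obtain ⟨h1, h2⟩ := ok_sC hB hj _ (okS_all j hj)
  have h := size_le (W := SS j) h1 (fun e he u hu => by
    obtain ⟨e', he', rfl⟩ := List.mem_map.mp he
    obtain ⟨u', hu', rfl⟩ := List.mem_map.mp hu
    exact h2 e' he' u' hu')
  have hs : ∀ D : List (ℕ × List (List ℕ)),
      size (D.map fun e => (pt e.1, e.2.map fun L => prodw pg (genWord j L))) =
        (D.map fun e => e.2.length).prod := by
    intro D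
    induction D with
    | nil => rfl
    | cons e D ih =>
      show size (D.map _) * _ = _
      rw [ih, List.length_map, List.map_cons, List.prod_cons, mul_comm]
  rw [hs] at h
  rw [← size_all j hj hpos]
  exact Nat.mul_le_mul_left _ h

theorem index_SS_le (hB : Bound) {j : ℕ} (hj : j < 9) : (SS j).index ≤ sSize j := by
  have := hB.1
  have h := le_card_SS hB hj
  have h2 := Subgroup.index_mul_card (SS j)
  rw [card_P hB] at h2
  have hpos : 0 < Nat.card (SS j) := Nat.card_pos
  exact Nat.le_of_mul_le_mul_right (h2.le.trans h) hpos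

/-- Depth, generator and parent of a point, or the edge at a root. -/
def treeAt (j p : ℕ) : ℕ := ext (tree j) p

/-- The tree is right at a point. -/
def okTree (j p : ℕ) : Bool :=
  bif Nat.blt p 1408 then
    force (treeAt j p) fun c => force (Nat.shiftRight c 14) fun d =>
      bif Nat.beq d 0 then
        Nat.blt c nE && (Nat.beq (edgeJ c) j &&
          Nat.beq (walk (wi (cert.wd (cert.fA (edgeF c)))) 0) p)
      else
        force (Nat.land (Nat.shiftRight c 11) 7) fun s => force (Nat.land c 2047) fun u =>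
          Nat.blt u 1408 && (Nat.blt s (sGens j).length &&
            (Nat.beq (walk (dec ((sGens j).getD s (0, 0)).2) u) p &&
              Nat.blt (Nat.shiftRight (treeAt j u) 14) d))
  else true

theorem tree_ok0 : allR (okTree 0) 11 0 = true := by decide +kernel

theorem tree_ok1 : allR (okTree 1) 11 0 = true := by decide +kernel

theorem tree_ok2 : allR (okTree 2) 11 0 = true := by decide +kernel

theorem tree_ok3 : allR (okTree 3) 11 0 = true := by decide +kernel

theorem tree_ok4 : allR (okTree 4) 11 0 = true := by decide +kernel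

theorem tree_ok5 : allR (okTree 5) 11 0 = true := by decide +kernel

theorem tree_ok6 : allR (okTree 6) 11 0 = true := by decide +kernel

theorem tree_ok7 : allR (okTree 7) 11 0 = true := by decide +kernel

theorem tree_ok8 : allR (okTree 8) 11 0 = true := by decide +kernel

theorem tree_ok : ∀ j < 9, allR (okTree j) 11 0 = true := by
  intro j hj
  interval_cases j
  exacts [tree_ok0, tree_ok1, tree_ok2, tree_ok3, tree_ok4, tree_ok5, tree_ok6, tree_ok7, tree_ok8]

/-- An edge comes from a fact between two orbit starts. -/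
def okEdge (e : ℕ) : Bool :=
  Nat.blt (edgeJ e) 9 && (Nat.blt (edgeK e) 9 && (Nat.blt (edgeF e) nF &&
    (Nat.beq (cert.kind (edgeF e)) 1 && (Nat.beq (cert.fI (edgeF e)) (srep (edgeJ e)) &&
      Nat.beq (cert.fK (edgeF e)) (srep (edgeK e))))))

theorem edges_ok : ∀ e < nE, okEdge e = true := by decide +kernel

/-- The orbits. -/
def inU (q : Cfsg.Spor.HN ⧸ KH) : Prop := ∃ j < 9, ∃ h : P, q = F j h

theorem inU_t_root (hB : Bound) {e : ℕ} (he : e < nE) {h : P}
    (hh : mv pi h⁻¹ 0 = mv pi (el (cert.word (cert.fA (edgeF e))))⁻¹ 0) :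
    inU ((g 5)⁻¹ • F (edgeJ e) h) := by
  have hok := edges_ok e he
  simp only [okEdge, Bool.and_eq_true, Nat.blt_eq] at hok
  obtain ⟨-, hk9, hf, hkd, hI, hK⟩ := hok
  have hS := says_of_check hB cert_ok _ hf
  rw [Says, Nat.eq_of_beq_eq_true hkd, if_pos rfl, Cert.pos, Cert.pos,
    Nat.eq_of_beq_eq_true hI, Nat.eq_of_beq_eq_true hK] at hS
  set a := el (cert.word (cert.fA (edgeF e))) with ha
  set b := el (cert.word (cert.fB (edgeF e))) with hb
  have hfix : mv pi (a⁻¹ * h) 0 = 0 := by
    rw [mv_mul, ← hh, ← mv_mul, inv_mul_cancel, mv_one]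
  have hc := commute_of_mem (mem_cenT_of_fix hB hfix)
  refine ⟨edgeK e, hk9, b * (a⁻¹ * h), ?_⟩
  rw [F, F, smul_Q, Q_eq]
  rw [map_mul emb b]
  set c := emb (a⁻¹ * h) with hcdef
  have hh' : emb h = emb a * c := by rw [hcdef, ← map_mul, mul_inv_cancel_left]
  rw [hh']
  have : base (edgeJ e) * (emb a * c) * g 5 * (base (edgeK e) * (emb b * c))⁻¹ =
      base (edgeJ e) * emb a * (c * g 5) * c⁻¹ * (base (edgeK e) * emb b)⁻¹ := by group
  rw [this, hc.eq]
  simpa [base, mul_assoc] using hS

theorem inU_t (hB : Bound) {j : ℕ} (hj : j < 9) (h : P) : inU ((g 5)⁻¹ • F j h) := by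
  suffices key : ∀ d p, p < 1408 → Nat.shiftRight (treeAt j p) 14 = d →
      ∀ h : P, (mv pi h⁻¹ 0).val = p → inU ((g 5)⁻¹ • F j h) from
    key _ _ (mv pi h⁻¹ 0).isLt rfl h rfl
  intro d
  induction d using Nat.strong_induction_on with
  | _ d ih =>
    intro p hp hd h hh
    have hok := allR_spec 11 0 (tree_ok j hj) p (Nat.zero_le _) (by omega)
    rw [okTree, show Nat.blt p 1408 = true from Nat.ble_eq_true_of_le hp, cond_true, force_eq,
      force_eq, hd] at hok
    cases h0 : Nat.beq d 0
    · simp only [h0, cond_false, force_eq, Bool.and_eq_true, Nat.blt_eq] at hok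
      obtain ⟨hu, hs, hw, hlt⟩ := hok
      set s := Nat.land (Nat.shiftRight (treeAt j p) 11) 7
      set u := Nat.land (treeAt j p) 2047
      rw [List.getD_eq_getElem _ _ hs] at hw
      rw [← F_left (gen_mem hB hj (List.getElem_mem hs)) h]
      refine ih _ hlt u hu rfl _ ?_
      rw [mul_inv_rev, mv_mul]
      have hp' : mv pi h⁻¹ 0 = mv pi (el ((sGens j)[s]).2) ⟨u, hu⟩ := by
        refine Fin.ext ?_
        rw [mv_el, hh]
        exact (Nat.eq_of_beq_eq_true hw).symm
      rw [hp', mv_inv]
    · simp only [h0, cond_true, Bool.and_eq_true, Nat.blt_eq] at hok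
      obtain ⟨he, hJ, hw⟩ := hok
      have e' := inU_t_root hB he (h := h) (by
        refine Fin.ext ?_
        rw [hh]
        have h2 := mv_prodw (wi_lt (cert.wd_lt (cert.fA (edgeF (treeAt j p))))) (0 : Fin 1408)
        rw [prodw_wi (cert.wd_lt _)] at h2
        exact ((Nat.eq_of_beq_eq_true hw).symm.trans h2.symm))
      rwa [Nat.eq_of_beq_eq_true hJ] at e'

theorem inU_all (hB : Bound) (y : Cfsg.Spor.HN) : inU (Q y) := by
  have hclosed : ∀ q, inU q → ∀ i < 7, inU ((g i)⁻¹ • q) := by
    intro q hq i hi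
    obtain ⟨j, hj, h, rfl⟩ := hq
    have ht : ∀ q, inU q → inU ((g 5)⁻¹ • q) := by
      rintro _ ⟨j, hj, h, rfl⟩
      exact inU_t hB hj h
    rcases Nat.lt_or_ge i 5 with h5 | h5
    · refine ⟨j, hj, h * pg i, ?_⟩
      rw [F, F, smul_Q, map_mul, emb_pg h5, mul_assoc]
    · obtain rfl | rfl : i = 5 ∨ i = 6 := by omega
      · exact inU_t hB hj h
      · have h6 : (g 6)⁻¹ = ((g 5)⁻¹) ^ 4 := by
          rw [show g 6 = (g 5)⁻¹ from rfl, inv_inv, inv_pow, eq_inv_iff_mul_eq_one, ← pow_succ']
          exact t_pow_five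
        rw [h6]
        simp only [pow_succ, pow_zero, one_mul, mul_smul]
        exact ht _ (ht _ (ht _ (ht _ ⟨j, hj, h, rfl⟩)))
  have hgen : y ∈ Subgroup.closure (g '' {i | i < 7}) := by
    have : (⊤ : Subgroup Cfsg.Spor.HN) ≤ Subgroup.closure (g '' {i | i < 7}) := by
      rw [← PresentedGroup.closure_range_of, Subgroup.closure_le]
      rintro _ ⟨a, rfl⟩
      cases a
      exacts [Subgroup.subset_closure ⟨0, by decide, rfl⟩,
        Subgroup.subset_closure ⟨2, by decide, rfl⟩,
        Subgroup.subset_closure ⟨4, by decide, rfl⟩,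
        Subgroup.subset_closure ⟨5, by decide, rfl⟩]
    exact this (Subgroup.mem_top y)
  have h1 : inU (Q 1) := by
    refine ⟨0, by norm_num, 1, ?_⟩
    rw [F, base, show srep 0 = 0 from srep_zero, cert.rep_zero, prodw_nil, map_one, one_mul]
  suffices key : ∀ z ∈ Subgroup.closure (g '' {i | i < 7}), ∀ q, inU q → inU (z⁻¹ • q) by
    have := key y hgen _ h1
    rwa [smul_Q, one_mul] at this
  intro z hz
  induction hz using Subgroup.closure_induction'' with
  | mem z hz => obtain ⟨i, hi, rfl⟩ := hz; exact fun q hq => hclosed q hq i hi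
  | inv_mem z hz =>
    obtain ⟨i, hi, rfl⟩ := hz
    intro q hq
    rw [← g_iv hi]
    refine hclosed q hq _ ?_
    have hi' : i < 7 := hi
    interval_cases i <;> decide
  | one => exact fun q hq => by rwa [inv_one, one_smul]
  | mul a b _ _ ha hb =>
    intro q hq
    rw [mul_inv_rev, mul_smul]
    exact hb _ (ha q hq)

/-- A coset from a position in an orbit. -/
def cover (x : Σ j : Fin 9, P ⧸ SS j.val) : Cfsg.Spor.HN ⧸ KH := F x.1.val (x.2.out)⁻¹

theorem cover_surjective (hB : Bound) : Function.Surjective cover := by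
  intro q
  induction q using QuotientGroup.induction_on with
  | _ y =>
    have h := inU_all hB y⁻¹
    rw [Q, inv_inv] at h
    obtain ⟨j, hj, h, e⟩ := h
    refine ⟨⟨⟨j, hj⟩, ((h⁻¹ : P) : P ⧸ SS j)⟩, ?_⟩
    obtain ⟨s, hs⟩ := QuotientGroup.mk_out_eq_mul (SS j) h⁻¹
    rw [e, cover]
    show F j ((((h⁻¹ : P) : P ⧸ SS j).out)⁻¹) = F j h
    rw [hs, mul_inv_rev, inv_inv]
    exact F_left (inv_mem s.2) h

theorem finite_quot (hB : Bound) : Finite (Cfsg.Spor.HN ⧸ KH) := by
  have := hB.1
  exact Finite.of_surjective _ (cover_surjective hB)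

theorem index_le (hB : Bound) : KH.index ≤ 1539000 := by
  have := hB.1
  have h := Nat.card_le_card_of_surjective _ (cover_surjective hB)
  refine h.trans ?_
  rw [Nat.card_sigma]
  calc ∑ j : Fin 9, Nat.card (P ⧸ SS j.val) ≤ ∑ j : Fin 9, sSize j.val :=
        Finset.sum_le_sum fun j _ => index_SS_le hB j.isLt
    _ = 1539000 := by decide +kernel

theorem card_le (hB : Bound) : Finite Cfsg.Spor.HN ∧
    Nat.card Cfsg.Spor.HN ≤ 1539000 * 177408000 := by
  have := hB.1
  have := finite_quot hB
  have hK : Nat.card KH ≤ 177408000 :=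
    (Nat.card_le_card_of_surjective _ emb.rangeRestrict_surjective).trans hB.2
  have hfin : Finite KH := Finite.of_surjective _ emb.rangeRestrict_surjective
  refine ⟨Finite.of_equiv _ (Subgroup.groupEquivQuotientProdSubgroup (s := KH)).symm, ?_⟩
  rw [← Subgroup.index_mul_card KH]
  exact Nat.mul_le_mul (index_le hB) hK

end

end CfsgLib.HNCert
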