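import Cfsg.Agent.HNCert.Lower

/-!
A word is trivial in the presented group when five positions return to themselves.
-/

set_option autoImplicit false
set_option Elab.async false
set_option maxRecDepth 100000

namespace CfsgLib.HNCert

open CfsgLib.CosetEnum

noncomputable section

/-- The starting positions: orbit and element. -/
def starts : List (ℕ × ℕ) :=
  [(0, 0), (1, topWords.getD 0 0), (1, topWords.getD 208 0), (1, topWords.getD 252 0),
    (1, topWords.getD 1336 0)]

theorem phi_word (hB : Bound) {w : List ℕ} (hw : ∀ x ∈ w, x < 6) (q : X) :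
    (phi hB (prodw g w))⁻¹ q = runX w q := by
  rw [map_prodw, prodw_congr fun x hx => phi_g hB (lt_trans (hw x hx) (by norm_num)),
    prodw_V hB w hw]

theorem starts_ok : ((starts.map fun s => walk (dec s.2) 0) = [0, 0, 208, 252, 1336]) := by
  decide +kernel

/-- A word fixing the starting positions is trivial. -/
theorem prodw_eq_one (hB : Bound) {w : List ℕ} (hw : ∀ x ∈ w, x < 6)
    (h : ∀ s ∈ starts, runX w (mk (oj s.1) (el s.2)) = mk (oj s.1) (el s.2)) :
    prodw g w = 1 := by
  have := hB.1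
  have hfix : ∀ s ∈ starts, phi hB (prodw g w) (mk (oj s.1) (el s.2)) = mk (oj s.1) (el s.2) := by
    intro s hs
    conv_lhs => rw [← h s hs, ← phi_word hB hw, Equiv.Perm.inv_def, Equiv.apply_symm_apply]
  obtain ⟨p, hp⟩ := mem_KH_of_fix hB (y := prodw g w) (by
    have := hfix (0, 0) (by simp [starts])
    rwa [el, show dec 0 = [] from rfl, prodw_nil] at this)
  rw [← hp]
  suffices p = 1 by rw [this, map_one]
  refine eq_of_imgs full_ok full_mem (card_top_le hB) (Subgroup.mem_top p) (Subgroup.mem_top 1) ?_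
  refine List.map_inj_left.mpr fun b hb => ?_
  rw [mv_one]
  obtain ⟨b', hb', rfl⟩ := List.mem_map.mp hb
  have hb2 : b'.1 ∈ fullData.map Prod.fst := List.mem_map_of_mem hb'
  rw [base_eq] at hb2
  have hlt : b'.1 < 1408 := by simp at hb2; omega
  obtain ⟨s, hs, hs1, hsb⟩ : ∃ s ∈ starts, s.1 = 1 ∧ walk (dec s.2) 0 = b'.1 := by
    have hh := starts_ok
    simp only [starts, List.map_cons, List.map_nil, List.cons.injEq] at hh
    obtain ⟨-, h1, h2, h3, h4, -⟩ := hh
    simp only [List.mem_cons, List.not_mem_nil, or_false] at hb2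
    rcases hb2 with hb2 | hb2 | hb2 | hb2 <;> rw [hb2]
    exacts [⟨(1, topWords.getD 0 0), by simp [starts], rfl, h1⟩, ⟨(1, topWords.getD 208 0), by simp [starts], rfl, h2⟩,
      ⟨(1, topWords.getD 252 0), by simp [starts], rfl, h3⟩,
      ⟨(1, topWords.getD 1336 0), by simp [starts], rfl, h4⟩]
  have e := hfix s hs
  rw [hs1, ← hp, phi_emb] at e
  have e' := eq_of_heq (Sigma.mk.inj_iff.mp
    (show (⟨oj 1, p • ((el s.2)⁻¹ : P)⟩ : X) = ⟨oj 1, ((el s.2)⁻¹ : P)⟩ from e)).2
  rw [MulAction.Quotient.smul_coe, smul_eq_mul, QuotientGroup.eq] at e'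
  have hm : el s.2 * p * (el s.2)⁻¹ ∈ M 1 := by
    have := inv_mem e'
    simpa [mul_assoc, oj] using this
  have hz := fix_M_one hm
  have hu : mv pi (el s.2) (pt 0) = pt b'.1 := by
    refine Fin.ext ?_
    rw [mv_el, pt_val (by decide), pt_val hlt]
    exact hsb
  rw [mv_mul, mv_mul, hu] at hz
  have h2 := congrArg (mv pi (el s.2)) hz
  rw [← mv_mul, inv_mul_cancel, mv_one, hu] at h2
  exact h2

end

end CfsgLib.HNCert
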